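/-
Elementary facts on the direct decomposition of a normaliser.

Main results (namespace `Cfsg.Agent.PrimeNorm`):
* `sup_card` : the order of `X ⊔ Y` when `Y` normalises `X` and meets it trivially;
* `direct_split` : two commuting subgroups with trivial intersection and complementary orders;
* `inf_bot_of_center` : a centralising subgroup meets a group with trivial centre trivially;
* `perm_fix_modEq` : the fixed points of a permutation of order `p` modulo `p`.
-/
import Cfsg.Agent.Lib.FischerM22.PrimeNorm.Count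
import Mathlib.Algebra.Group.Subgroup.Pointwise

set_option autoImplicit false

namespace Cfsg.Agent.PrimeNorm

open scoped Pointwise

variable {G : Type*} [Group G]

theorem sup_card [Finite G] {X Y : Subgroup G} (hY : Y ≤ Subgroup.normalizer (X : Set G)) (h : X ⊓ Y = ⊥) :
    Nat.card ↥(X ⊔ Y) = Nat.card X * Nat.card Y := by
  rw [← Nat.card_prod]
  refine (Nat.card_congr (Equiv.ofBijective (fun a : X × Y => (⟨a.1 * a.2,
    mul_mem (Subgroup.mem_sup_left a.1.2) (Subgroup.mem_sup_right a.2.2)⟩ : ↥(X ⊔ Y))) ⟨?_, ?_⟩)).symm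
  · exact fun a b e => Subgroup.mul_injective_of_disjoint (disjoint_iff.2 h) (congrArg Subtype.val e)
  · rintro ⟨g, hg⟩
    rw [← SetLike.mem_coe, Subgroup.coe_mul_of_right_le_normalizer_left X Y hY] at hg
    obtain ⟨x, hx, y, hy, rfl⟩ := hg
    exact ⟨(⟨x, hx⟩, ⟨y, hy⟩), rfl⟩

theorem direct_split [Finite G] {F L N : Subgroup G} (hF : F ≤ N) (hL : L ≤ N) (h : F ⊓ L = ⊥)
    (hc : ∀ x ∈ F, ∀ y ∈ L, x * y = y * x) (hcard : Nat.card F * Nat.card L = Nat.card N) : F ⊔ L = N := by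
  refine Subgroup.eq_of_le_of_card_ge (sup_le hF hL) ?_
  rw [sup_card (fun y hy => ?_) h, hcard]
  refine Subgroup.centralizer_le_normalizer _ (Subgroup.mem_centralizer_iff.2 fun x hx => hc x hx y hy)

theorem inf_bot_of_center {F L : Subgroup G} {P : Type*} [Group P] (e : ↥L ≃* P)
    (hZ : ∀ z : P, (∀ t, z * t = t * z) → z = 1) (hc : ∀ x ∈ F, ∀ y ∈ L, x * y = y * x) : F ⊓ L = ⊥ := by
  refine (Subgroup.eq_bot_iff_forall _).2 fun z hz => ?_
  have h1 : e ⟨z, hz.2⟩ = 1 := hZ _ fun t => by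
    obtain ⟨u, rfl⟩ := e.surjective t
    rw [← map_mul, ← map_mul]
    exact congrArg e (Subtype.ext (hc z hz.1 u u.2))
  exact congrArg Subtype.val (e.map_eq_one_iff.1 h1)

theorem conj_fixD {D : Set G} (hconj : ∀ g : G, ∀ d ∈ D, g * d * g⁻¹ ∈ D) {X : Subgroup G} {n : G}
    (hn : n ∈ Subgroup.normalizer (X : Set G)) {d : G} (hd : d ∈ fixD D X) : n * d * n⁻¹ ∈ fixD D X := by
  refine mem_fixD.2 ⟨hconj n d hd.1, fun x hx => ?_⟩
  have h := (mem_fixD.1 hd).2 _ ((Subgroup.mem_normalizer_iff.1 ((Subgroup.normalizer (X : Set G)).inv_mem hn) x).1 hx)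
  have := h.map (MulAut.conj n).toMonoidHom
  simpa [mul_assoc] using this

/-- An invariant set with fewer than `p` members is centralised. -/
theorem small_fixed [Finite G] {p : ℕ} [Fact p.Prime] {X : Subgroup G} (hX : Nat.card X = p) {S : Set G}
    (hS : ∀ x ∈ X, ∀ y ∈ S, x * y * x⁻¹ ∈ S) (hlt : S.ncard < p) :
    ∀ y ∈ S, ∀ x ∈ X, Commute x y := by
  have h := fix_modEq hX S hS
  have hle : (fixD S X).ncard ≤ S.ncard := Set.ncard_le_ncard Set.inter_subset_left (Set.toFinite _)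
  have he : fixD S X = S := Set.eq_of_subset_of_ncard_le Set.inter_subset_left
    (Nat.ModEq.eq_of_lt_of_lt h hlt (lt_of_le_of_lt hle hlt)).le (Set.toFinite _)
  exact fun y hy => (mem_fixD.1 (he.ge hy)).2

theorem perm_fix_modEq {α : Type*} [Finite α] {p : ℕ} [Fact p.Prime] (σ : Equiv.Perm α) (hσ : σ ^ p = 1) :
    Nat.card α ≡ Nat.card {a // σ a = a} [MOD p] := by
  have hP : IsPGroup p (Subgroup.zpowers σ) := by
    rintro ⟨_, k, rfl⟩
    refine ⟨1, Subtype.ext ?_⟩
    show (σ ^ k) ^ (p ^ 1) = 1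
    rw [pow_one, ← zpow_natCast, ← zpow_mul, mul_comm, zpow_mul, zpow_natCast, hσ, one_zpow]
  have h := hP.card_modEq_card_fixedPoints α
  suffices e : Nat.card (MulAction.fixedPoints (Subgroup.zpowers σ) α) = Nat.card {a // σ a = a} from e ▸ h
  refine Nat.card_congr (Equiv.subtypeEquivRight fun a => ⟨fun ha => ha ⟨σ, Subgroup.mem_zpowers σ⟩, fun ha => ?_⟩)
  rintro ⟨_, k, rfl⟩
  exact (MulAction.mem_stabilizer_iff (G := Equiv.Perm α)).1
    (zpow_mem ((MulAction.mem_stabilizer_iff).2 (show σ • a = a from ha)) k)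

end Cfsg.Agent.PrimeNorm
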