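/-
Elements of order three of SU(6,2) commuting with an element of order 7 or 11 without fixed isotropic vectors.

Main results (namespace `Cfsg.Agent.PrimeNorm`):
* `no_cube_omega` : a matrix of determinant 1 does not cube to a scalar other than 1;
* `iso_count`, `dvd_iso_count` : isotropic vectors in a non-degenerate subspace;
* `central_of_cube` : such an element is central.
-/
import Cfsg.Agent.Lib.ThreeTransSU.PSUPoints
import Cfsg.Agent.Lib.Unitary.Count
import Mathlib.LinearAlgebra.Matrix.Charpoly.FiniteField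

set_option autoImplicit false
set_option maxRecDepth 4000

namespace Cfsg.Agent.PrimeNorm

open scoped Matrix Polynomial
open Cfsg.Agent.Unitary Cfsg.Agent.U62Cover Cfsg.Agent.ThreeTransSU

variable {F : Type*} [Field F] [Fintype F]

open Polynomial in
/-- A six-by-six matrix over four elements whose cube is a scalar other than `1` has determinant other than `1`. -/
theorem no_cube_omega (hF : Fintype.card F = 4) {M : Matrix (Fin 6) (Fin 6) F} {c : F} (hc0 : c ≠ 0)
    (hc1 : c ≠ 1) (h : M ^ 3 = c • (1 : Matrix (Fin 6) (Fin 6) F)) (hdet : M.det = 1) : False := by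
  have h2 : (2 : F) = 0 := two_eq_zero hF
  have hc3 : c ^ 3 = 1 := U62Cover.pow_three hF hc0
  have hsum : c ^ 2 + c + 1 = 0 := by
    have : (c - 1) * (c ^ 2 + c + 1) = 0 := by linear_combination hc3
    exact (mul_eq_zero.1 this).resolve_left (sub_ne_zero.2 hc1)
  have h4 : M ^ 4 = c • M := by rw [pow_succ, h, Matrix.smul_mul, Matrix.one_mul]
  have hchar : (c • M).charpoly = M.charpoly := by
    rw [← h4, show (4 : ℕ) = Fintype.card F from hF.symm, FiniteField.Matrix.charpoly_pow_card]
  have hchar2 : ((c ^ 2) • M).charpoly = M.charpoly := by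
    rw [← hchar]
    have : (c • M) ^ 4 = (c ^ 2) • M := by
      rw [_root_.smul_pow, h4, smul_smul]
      congr 1
      linear_combination (c ^ 2) * hc3
    rw [← this, show (4 : ℕ) = Fintype.card F from hF.symm, FiniteField.Matrix.charpoly_pow_card]
  -- the product of the three characteristic matrices
  set q : F[X] := (X ^ 3 - C c) ^ 2 with hq
  set χ := M.charpoly with hχ
  have key : χ * χ * χ = q * q * q := by
    have hsm : ∀ a : F, (a • M).charpoly = (Matrix.scalar (Fin 6) (X : F[X]) - (C a) • C.mapMatrix M).det := by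
      intro a
      rw [Matrix.charpoly, Matrix.charmatrix]
      refine congrArg (fun B : Matrix (Fin 6) (Fin 6) F[X] => (Matrix.scalar (Fin 6) (X : F[X]) - B).det) ?_
      ext i j : 1
      show C (a * M i j) = C a * C (M i j)
      exact C_mul
    have e1 := hsm 1
    rw [one_smul] at e1
    conv_lhs => arg 1; arg 1; rw [hχ, e1]
    conv_lhs => arg 1; arg 2; rw [← hchar, hsm]
    conv_lhs => arg 2; rw [← hchar2, hsm]
    rw [← Matrix.det_mul, ← Matrix.det_mul]
    have hN : (C.mapMatrix M : Matrix (Fin 6) (Fin 6) F[X]) * C.mapMatrix M * C.mapMatrix M =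
        (C c) • (1 : Matrix (Fin 6) (Fin 6) F[X]) := by
      rw [← map_mul, ← map_mul, ← pow_two, ← pow_succ, h]
      ext i j
      simp only [RingHom.mapMatrix_apply, Matrix.map_apply, Matrix.smul_apply, Matrix.one_apply, smul_eq_mul,
        mul_ite, mul_one, mul_zero]
      split_ifs <;> simp
    have hs : Matrix.scalar (Fin 6) (X : F[X]) = (X : F[X]) • (1 : Matrix (Fin 6) (Fin 6) F[X]) :=
      (Matrix.smul_one_eq_diagonal _).symm
    have hCs : (C (1 : F) : F[X]) + C c + C (c ^ 2) = 0 := by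
      rw [← C_add, ← C_add, show (1 : F) + c + c ^ 2 = 0 by linear_combination hsum, C_0]
    have hC3 : (C c : F[X]) * C (c ^ 2) = 1 := by rw [← C_mul, ← pow_succ', hc3, C_1]
    have e : (Matrix.scalar (Fin 6) (X : F[X]) - (C (1 : F)) • C.mapMatrix M) *
        (Matrix.scalar (Fin 6) (X : F[X]) - (C c) • C.mapMatrix M) *
        (Matrix.scalar (Fin 6) (X : F[X]) - (C (c ^ 2)) • C.mapMatrix M) =
        (X ^ 3 - C c : F[X]) • (1 : Matrix (Fin 6) (Fin 6) F[X]) := by
      rw [hs]
      generalize (C.mapMatrix M : Matrix (Fin 6) (Fin 6) F[X]) = N at hN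
      simp only [Matrix.sub_mul, Matrix.mul_sub, Matrix.smul_mul, Matrix.mul_smul, Matrix.one_mul,
        hN, smul_sub, smul_smul, C_1, mul_one, one_mul]
      rw [C_1] at hCs
      match_scalars
      · linear_combination -(C c) * hC3
      · linear_combination -(X : F[X]) ^ 2 * hCs
      · linear_combination (X : F[X]) * hCs + (X : F[X]) * hC3
    rw [e, Matrix.det_smul, Matrix.det_one, mul_one, Fintype.card_fin, hq]
    ring
  have h3 : (χ - q) * (χ - C c * q) * (χ - C (c ^ 2) * q) = 0 := by
    have hCs : (C (1 : F) : F[X]) + C c + C (c ^ 2) = 0 := by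
      rw [← C_add, ← C_add, show (1 : F) + c + c ^ 2 = 0 by linear_combination hsum, C_0]
    have hC3 : (C c : F[X]) * C (c ^ 2) = 1 := by rw [← C_mul, ← pow_succ', hc3, C_1]
    rw [C_1] at hCs
    linear_combination key + (χ * q * q - χ * χ * q) * hCs + (χ * q * q - q * q * q) * hC3
  have hm : χ.Monic := M.charpoly_monic
  have hqm : q.Monic := (monic_X_pow_sub_C c (by norm_num)).pow 2
  have hlead : ∀ a : F, a ≠ 0 → χ = C a * q → a = 1 := fun a ha e => by
    have := congrArg leadingCoeff e
    rwa [hm.leadingCoeff, leadingCoeff_mul, leadingCoeff_C, hqm.leadingCoeff, mul_one, eq_comm] at this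
  rcases mul_eq_zero.1 h3 with h | h
  · rcases mul_eq_zero.1 h with h | h
    · have h0 := congrArg (fun f : F[X] => f.coeff 0) (sub_eq_zero.1 h)
      simp only [hq, hχ, sq, mul_coeff_zero, coeff_sub, coeff_X_pow, coeff_C_zero] at h0
      rw [Matrix.det_eq_sign_charpoly_coeff, Fintype.card_fin] at hdet
      rw [h0] at hdet
      norm_num at hdet
      exact hc1 (by linear_combination hc3 - c * hdet)
    · exact hc1 (hlead c hc0 (sub_eq_zero.1 h))
  · have e := hlead (c ^ 2) (pow_ne_zero _ hc0) (sub_eq_zero.1 h)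
    exact hc1 (by linear_combination hc3 - c * e)

/-- The number of nonzero isotropic vectors of a non-degenerate space. -/
def isoNum : ℕ → ℕ
  | 2 => 9
  | 3 => 27
  | 4 => 135
  | 5 => 495
  | 6 => 2079
  | _ => 0

theorem iso_count (hF : Fintype.card F = 4) (W : Submodule F (Fin 6 → F))
    (hW : ∀ u ∈ W, (∀ v ∈ W, hf u v = 0) → u = 0) :
    Nat.card {v : Fin 6 → F // v ∈ W ∧ Iso v} = isoNum (Module.finrank F W) := by
  classical
  obtain ⟨b, hb, hs⟩ := subspace_orthonormalBasis (card_sq hF) W hW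
  have hm : Module.finrank F W ≤ 6 := (Submodule.finrank_le W).trans_eq (Module.finrank_fin_fun F)
  generalize Module.finrank F W = m at b hb hs hm
  have H := herm (n := 6) hF
  have hli := Unitary.Orthonormal.linearIndependent H hb
  have hinj : ∀ x y : Fin m → F, ∑ i, x i • b i = ∑ i, y i • b i → x = y := fun x y e => funext fun i => by
    rw [← Unitary.Orthonormal.coeff H hb x i, e, Unitary.Orthonormal.coeff H hb y i]
  have hval : ∀ x : Fin m → F, hf (∑ i, x i • b i) (∑ i, x i • b i) = Cfsg.hermForm m F 2 x x := fun x => by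
    rw [show Cfsg.hermForm m F 2 x x = ∑ i, x i * x i ^ 2 from rfl]
    exact Unitary.Orthonormal.inner_sum (card_sq hF) H hb x x
  have e : Nat.card {v : Fin 6 → F // v ∈ W ∧ Iso v} + 1 = normCount m 2 (0 : F) := by
    rw [normCount, ← Nat.card_congr (Equiv.optionSubtypeNe (⟨0, (herm (n := m) hF).zero_left 0⟩ :
      {x : Fin m → F // Cfsg.hermForm m F 2 x x = 0})), Finite.card_option]
    congr 1
    refine (Nat.card_congr (Equiv.ofBijective
      (fun x : {y : {x : Fin m → F // Cfsg.hermForm m F 2 x x = 0} // y ≠ ⟨0, (herm (n := m) hF).zero_left 0⟩} =>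
        (⟨∑ i, x.1.1 i • b i, hs ▸ Submodule.mem_span_range_iff_exists_fun F |>.2 ⟨x.1.1, rfl⟩,
          fun h0 => x.2 (Subtype.ext (hinj _ 0 (h0.trans (by simp)))),
          (hval _).trans x.1.2⟩ : {v : Fin 6 → F // v ∈ W ∧ Iso v})) ⟨fun x y e => ?_, fun v => ?_⟩)).symm
    · exact Subtype.ext (Subtype.ext (hinj _ _ (congrArg Subtype.val e)))
    · obtain ⟨x, hx⟩ := (Submodule.mem_span_range_iff_exists_fun F).1 (hs.ge v.2.1)
      refine ⟨⟨⟨x, by rw [← hval, hx]; exact v.2.2.2⟩, fun h0 => v.2.2.1 ?_⟩, Subtype.ext hx⟩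
      have h0' : x = 0 := congrArg Subtype.val h0
      rw [← hx, h0']
      simp
  rw [isotropic_count (card_sq hF)] at e
  interval_cases m <;> simp [isoNum, Nat.even_iff] at e ⊢ <;> omega

/-- A fixed-point-free element of order `p` on the isotropic vectors of an invariant subspace. -/
theorem dvd_iso_count {p : ℕ} [hp : Fact p.Prime] {A : Cfsg.SU 6 F 2} (hA : A ^ p = 1)
    (hfree : ∀ v, Iso v → act A v ≠ v) {W : Submodule F (Fin 6 → F)} (hinv : ∀ v ∈ W, act A v ∈ W)
    (hinv' : ∀ v ∈ W, act A⁻¹ v ∈ W) : p ∣ Nat.card {v : Fin 6 → F // v ∈ W ∧ Iso v} := by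
  let σ : Equiv.Perm {v : Fin 6 → F // v ∈ W ∧ Iso v} :=
    { toFun := fun v => ⟨act A v.1, hinv _ v.2.1, v.2.2.act A⟩
      invFun := fun v => ⟨act A⁻¹ v.1, hinv' _ v.2.1, v.2.2.act A⁻¹⟩
      left_inv := fun v => Subtype.ext (act_inv_act A _)
      right_inv := fun v => Subtype.ext (act_act_inv A _) }
  have hσ : ∀ (k : ℕ) v, (((σ ^ k) v : {v : Fin 6 → F // v ∈ W ∧ Iso v}) : Fin 6 → F) = act (A ^ k) v.1 := by
    intro k
    induction k with
    | zero => intro v; simp [act_one]
    | succ k ih =>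
      intro v
      rw [pow_succ', Equiv.Perm.mul_apply, pow_succ' A, act_mul, ← ih]
      rfl
  have hσp : σ ^ p = 1 := Equiv.ext fun v => Subtype.ext (by rw [hσ, hA, act_one]; rfl)
  have hP : IsPGroup p (Subgroup.zpowers σ) := by
    rintro ⟨_, k, rfl⟩
    refine ⟨1, Subtype.ext ?_⟩
    show (σ ^ k) ^ (p ^ 1) = 1
    rw [pow_one, ← zpow_natCast, ← zpow_mul, mul_comm, zpow_mul, zpow_natCast, hσp, one_zpow]
  have h := hP.card_modEq_card_fixedPoints {v : Fin 6 → F // v ∈ W ∧ Iso v}
  have : IsEmpty (MulAction.fixedPoints (Subgroup.zpowers σ) {v : Fin 6 → F // v ∈ W ∧ Iso v}) :=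
    ⟨fun v => hfree _ v.1.2.2 (congrArg Subtype.val (v.2 ⟨σ, Subgroup.mem_zpowers σ⟩))⟩
  rw [Nat.card_eq_zero.2 (Or.inl this)] at h
  exact Nat.modEq_zero_iff_dvd.1 h

/-- The eigenspace of `g` at `t`. -/
def eig (g : Cfsg.SU 6 F 2) (t : F) : Submodule F (Fin 6 → F) where
  carrier := {v | act g v = t • v}
  add_mem' := by
    intro a b ha hb
    show act g (a + b) = t • (a + b)
    rw [act_add, ha, hb, smul_add]
  zero_mem' := by
    show act g 0 = t • 0
    rw [act_zero, smul_zero]
  smul_mem' := by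
    intro c x hx
    show act g (c • x) = t • c • x
    rw [act_smul, hx, smul_comm]

/-- The projection onto the eigenspace at `t`. -/
def proj (g : Cfsg.SU 6 F 2) (t : F) (v : Fin 6 → F) : Fin 6 → F := v + t ^ 2 • act g v + t • act g (act g v)

theorem hf_eig (hF : Fintype.card F = 4) {g : Cfsg.SU 6 F 2} {s t : F} (hst : s ≠ t) (hs : s ≠ 0) (ht : t ≠ 0)
    {u v : Fin 6 → F} (hu : u ∈ eig g s) (hv : v ∈ eig g t) : hf u v = 0 := by
  have e := act_hf g u v
  rw [show act g u = s • u from hu, show act g v = t • v from hv, hf_smul_left hF, hf_smul_right hF,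
    ← mul_assoc] at e
  refine (mul_left_eq_self₀.1 e).resolve_left fun h => hst ?_
  have h3 := U62Cover.pow_three hF ht
  linear_combination t * h - s * h3

theorem proj_mem (hF : Fintype.card F = 4) {g : Cfsg.SU 6 F 2} (hg : g ^ 3 = 1) {t : F} (ht : t ≠ 0)
    (v : Fin 6 → F) : proj g t v ∈ eig g t := by
  show act g (proj g t v) = t • proj g t v
  have e3 : act g (act g (act g v)) = v := by
    rw [← act_mul, ← act_mul, ← pow_two, ← pow_succ, hg, act_one]
  have h3 := U62Cover.pow_three hF ht
  simp only [proj, act_add, act_smul, e3, smul_add, smul_smul, ← pow_succ', h3, one_smul]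
  rw [← pow_two]
  abel

theorem proj_sum (hF : Fintype.card F = 4) {ω : F} (hω : ω ^ 2 = ω + 1) (g : Cfsg.SU 6 F 2) (v : Fin 6 → F) :
    proj g 1 v + proj g ω v + proj g (ω ^ 2) v = v := by
  have h2 := two_eq_zero hF
  have e1 : 1 + ω + ω ^ 2 = 0 := by linear_combination hω + (1 + ω) * h2
  have e2 : ω ^ 4 = ω := by
    have h0 : ω ≠ 0 := fun h => by simp [h] at hω
    linear_combination ω * U62Cover.pow_three hF h0
  simp only [proj]
  match_scalars
  · linear_combination h2
  · linear_combination e1 + e2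
  · linear_combination e1

theorem eig_nondeg (hF : Fintype.card F = 4) {ω : F} (hω : ω ^ 2 = ω + 1) {g : Cfsg.SU 6 F 2} (hg : g ^ 3 = 1)
    {t : F} (ht : t ≠ 0) : ∀ u ∈ eig g t, (∀ v ∈ eig g t, hf u v = 0) → u = 0 := by
  have hω0 : ω ≠ 0 := fun h => by simp [h] at hω
  intro u hu h
  refine hermForm_nondeg (card_sq hF) 6 u fun v => ?_
  show hf u v = 0
  rw [← proj_sum hF hω g v, hf_add_right hF, hf_add_right hF]
  have key : ∀ s : F, s ≠ 0 → hf u (proj g s v) = 0 := fun s hs => by
    by_cases e : t = s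
    · exact h _ (e ▸ proj_mem hF hg hs v)
    · exact hf_eig hF e ht hs hu (proj_mem hF hg hs v)
  rw [key 1 one_ne_zero, key ω hω0, key _ (pow_ne_zero 2 hω0), add_zero, add_zero]

theorem eig_finrank_sum (hF : Fintype.card F = 4) {ω : F} (hω : ω ^ 2 = ω + 1) {g : Cfsg.SU 6 F 2}
    (hg : g ^ 3 = 1) : 6 ≤ Module.finrank F (eig g 1) + Module.finrank F (eig g ω) + Module.finrank F (eig g (ω ^ 2)) := by
  have hω0 : ω ≠ 0 := fun h => by simp [h] at hω
  have htop : eig g 1 ⊔ eig g ω ⊔ eig g (ω ^ 2) = ⊤ := by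
    refine eq_top_iff.2 fun v _ => ?_
    rw [← proj_sum hF hω g v]
    exact Submodule.add_mem_sup (Submodule.add_mem_sup (proj_mem hF hg one_ne_zero v) (proj_mem hF hg hω0 v))
      (proj_mem hF hg (pow_ne_zero 2 hω0) v)
  have h1 := Submodule.finrank_add_le_finrank_add_finrank (eig g 1 ⊔ eig g ω) (eig g (ω ^ 2))
  have h2 := Submodule.finrank_add_le_finrank_add_finrank (eig g 1) (eig g ω)
  rw [htop, finrank_top, Module.finrank_fin_fun] at h1
  omega

/-- Eigenspaces of dimensions five and one are incompatible with determinant one. -/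
theorem no_five_one (hF : Fintype.card F = 4) {ω : F} (hω : ω ^ 2 = ω + 1) {g : Cfsg.SU 6 F 2} (hg : g ^ 3 = 1)
    {s t : F} (hs : s ≠ 0) (ht : t ≠ 0) (hst : s ≠ t) (h1 : Module.finrank F (eig g s) = 1)
    (h5 : Module.finrank F (eig g t) = 5) : False := by
  classical
  have H := herm (n := 6) hF
  obtain ⟨b, hb, hbs⟩ := subspace_orthonormalBasis (card_sq hF) _ (eig_nondeg hF hω hg hs)
  obtain ⟨b', hb', hbs'⟩ := subspace_orthonormalBasis (card_sq hF) _ (eig_nondeg hF hω hg ht)
  generalize Module.finrank F (eig g s) = m at b hb hbs h1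
  subst h1
  generalize Module.finrank F (eig g t) = m at b' hb' hbs' h5
  subst h5
  let c : Fin 1 ⊕ Fin 5 → (Fin 6 → F) := Sum.elim b b'
  have hmem : ∀ i, b i ∈ eig g s := fun i => hbs ▸ Submodule.subset_span ⟨i, rfl⟩
  have hmem' : ∀ i, b' i ∈ eig g t := fun i => hbs' ▸ Submodule.subset_span ⟨i, rfl⟩
  have hc : Unitary.Orthonormal (Cfsg.hermForm 6 F 2) c := by
    refine ⟨fun i => ?_, fun i j hij => ?_⟩
    · rcases i with i | i
      exacts [hb.1 i, hb'.1 i]
    · rcases i with i | i <;> rcases j with j | j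
      exacts [hb.2 fun e => hij (congrArg Sum.inl e), hf_eig hF hst hs ht (hmem i) (hmem' j),
        hf_eig hF hst.symm ht hs (hmem' i) (hmem j), hb'.2 fun e => hij (congrArg Sum.inr e)]
  let d : Fin 1 ⊕ Fin 5 → F := Sum.elim (fun _ => s) fun _ => t
  have hcd : ∀ i, act g (c i) = d i • c i := fun i => by
    rcases i with i | i
    exacts [hmem i, hmem' i]
  set P : Matrix (Fin 6) (Fin 1 ⊕ Fin 5) F := Matrix.of fun i j => c j i with hP
  have hMP : ((g : Matrix.SpecialLinearGroup (Fin 6) F) : Matrix (Fin 6) (Fin 6) F) * P = P * Matrix.diagonal d := by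
    ext i j
    rw [Matrix.mul_diagonal, mul_comm (P i j)]
    exact congrFun (hcd j) i
  let e : Fin 6 ≃ Fin 1 ⊕ Fin 5 := (finSumFinEquiv (m := 1) (n := 5)).symm
  have hdet := congrArg (fun M : Matrix (Fin 6) (Fin 1 ⊕ Fin 5) F => (M.submatrix id e).det) hMP
  rw [Matrix.submatrix_mul _ _ id id e Function.bijective_id, Matrix.submatrix_id_id, Matrix.det_mul,
    (g : Matrix.SpecialLinearGroup (Fin 6) F).2, one_mul,
    ← Matrix.submatrix_mul_equiv P (Matrix.diagonal d) id e e,
    Matrix.det_mul, Matrix.det_submatrix_equiv_self, Matrix.det_diagonal] at hdet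
  have hP0 : (P.submatrix id e).det ≠ 0 := by
    refine fun h => ?_
    obtain ⟨x, hx, hx0⟩ := Matrix.exists_mulVec_eq_zero_iff.2 h
    refine hx (funext fun i => ?_)
    have hl := Fintype.linearIndependent_iff.1 (Unitary.Orthonormal.linearIndependent H hc) (x ∘ e.symm) ?_ (e i)
    · simpa using hl
    · rw [← e.sum_comp]
      funext k
      have := congrFun hx0 k
      simpa [Matrix.mulVec, dotProduct, hP, Finset.sum_apply, mul_comm] using this
  have hprod : ∏ i, d i = 1 := mul_left_cancel₀ hP0 (by rw [mul_one]; exact hdet.symm)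
  simp [d] at hprod
  have h3 := U62Cover.pow_three hF ht
  exact hst (by linear_combination t * hprod - s * (t ^ 3 + 1) * h3)

/-- An element of order three modulo the centre commuting with `A` is central. -/
theorem central_of_cube (hF : Fintype.card F = 4) {p : ℕ} [hp : Fact p.Prime] (hp7 : p = 7 ∨ p = 11)
    {A g : Cfsg.SU 6 F 2} (hA : A ^ p = 1) (hfree : ∀ v, Iso v → act A v ≠ v) (hcomm : Commute g A)
    (hg : g ^ 3 ∈ Subgroup.center (Cfsg.SU 6 F 2)) : g ∈ Subgroup.center (Cfsg.SU 6 F 2) := by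
  obtain ⟨z, -, hz3, hz⟩ := center_SU_scalar (card_sq hF) (by norm_num) hg
  have hz1 : z = 1 := by
    by_contra hne
    refine no_cube_omega hF (fun h0 => by simp [h0] at hz3) hne (M := ((g : Matrix.SpecialLinearGroup (Fin 6) F) : Matrix (Fin 6) (Fin 6) F))
      ?_ (g : Matrix.SpecialLinearGroup (Fin 6) F).2
    rw [← Matrix.SpecialLinearGroup.coe_pow, ← Subgroup.coe_pow, hz]
    exact (Matrix.smul_one_eq_diagonal z).symm
  have hg3 : g ^ 3 = 1 := Subtype.ext (Subtype.ext (by rw [hz, hz1, map_one]; rfl))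
  obtain ⟨ω, hω0, hω⟩ := U62Cover.exists_omega hF
  have hω1 : ω ≠ 1 := fun h => by
    rw [h, one_pow] at hω
    exact one_ne_zero (add_self hF (1 : F) ▸ hω)
  have hinv : ∀ (B : Cfsg.SU 6 F 2), Commute g B → ∀ (t : F) v, v ∈ eig g t → act B v ∈ eig g t := by
    intro B hB t v hv
    show act g (act B v) = t • act B v
    rw [← act_mul, hB.eq, act_mul, show act g v = t • v from hv, act_smul]
  have hdim : ∀ t : F, t ≠ 0 → p ∣ isoNum (Module.finrank F (eig g t)) := fun t ht => by
    rw [← iso_count hF _ (eig_nondeg hF hω hg3 ht)]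
    exact dvd_iso_count hA hfree (hinv A hcomm t) (hinv A⁻¹ hcomm.inv_right t)
  have hle : ∀ t : F, Module.finrank F (eig g t) ≤ 6 := fun t =>
    (Submodule.finrank_le _).trans_eq (Module.finrank_fin_fun F)
  have hcases : ∀ t : F, t ≠ 0 → Module.finrank F (eig g t) ≤ 1 ∨
      (p = 11 ∧ Module.finrank F (eig g t) = 5) ∨ Module.finrank F (eig g t) = 6 := fun t ht => by
    have h := hdim t ht
    have := hle t
    generalize Module.finrank F (eig g t) = n at h this
    rcases hp7 with rfl | rfl <;> interval_cases n <;> simp_all [isoNum]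
  have hsix : ∀ t : F, Module.finrank F (eig g t) = 6 → g ∈ Subgroup.center (Cfsg.SU 6 F 2) := by
    intro t h
    have htop : eig g t = ⊤ := Submodule.eq_top_of_finrank_eq (by rw [h, Module.finrank_fin_fun])
    refine Subgroup.mem_center_iff.2 fun B => act_ext fun v => ?_
    have hall : ∀ w, act g w = t • w := fun w => (htop ▸ Submodule.mem_top : w ∈ eig g t)
    rw [act_mul, act_mul, hall, hall, act_smul]
  have hsum := eig_finrank_sum hF hω hg3
  have hω2 : ω ^ 2 ≠ 0 := pow_ne_zero 2 hω0
  have n1 : (1 : F) ≠ ω ^ 2 := fun h => hω1 (by linear_combination (1 : F) * U62Cover.pow_three hF hω0 + ω * h)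
  have n2 : ω ≠ ω ^ 2 := fun h => hω1 (mul_left_cancel₀ hω0 (by linear_combination -h))
  rcases hcases 1 one_ne_zero with a | ⟨-, a⟩ | a <;> rcases hcases ω hω0 with b | ⟨-, b⟩ | b <;>
    rcases hcases _ hω2 with c | ⟨-, c⟩ | c <;>
    first
    | exact hsix _ a
    | exact hsix _ b
    | exact hsix _ c
    | (exfalso; omega)
    | (exfalso
       have hd : ∀ s t : F, s ≠ 0 → t ≠ 0 → s ≠ t → Module.finrank F (eig g s) = 5 →
           Module.finrank F (eig g t) ≠ 5 := by
         intro s t hs ht hst h h'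
         have := Submodule.finrank_add_finrank_le_of_disjoint (s := eig g s) (t := eig g t)
           (Submodule.disjoint_def.2 fun x hx hx' => by
             have e : (s - t) • x = 0 := by rw [sub_smul, ← (hx : act g x = _), ← (hx' : act g x = _), sub_self]
             exact (smul_eq_zero.1 e).resolve_left (sub_ne_zero.2 hst))
         rw [Module.finrank_fin_fun] at this
         omega
       first
       | exact hd 1 ω one_ne_zero hω0 hω1.symm a b
       | exact hd 1 _ one_ne_zero hω2 n1 a c
       | exact hd ω _ hω0 hω2 n2 b c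
       | (rcases Nat.eq_zero_or_pos (Module.finrank F (eig g 1)) with u | u <;>
          rcases Nat.eq_zero_or_pos (Module.finrank F (eig g ω)) with v | v <;>
          first
          | exact no_five_one hF hω hg3 hω0 one_ne_zero hω1 (by omega) a
          | exact no_five_one hF hω hg3 hω2 one_ne_zero n1.symm (by omega) a
          | exact no_five_one hF hω hg3 one_ne_zero hω0 hω1.symm (by omega) b
          | exact no_five_one hF hω hg3 hω2 hω0 n2.symm (by omega) b
          | exact no_five_one hF hω hg3 one_ne_zero hω2 n1 (by omega) c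
          | exact no_five_one hF hω hg3 hω0 hω2 n2 (by omega) c))

end Cfsg.Agent.PrimeNorm
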