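/-
Elements centralising a member and an element of order 7 or 11 without fixed neighbours.

Main results (namespace `Cfsg.Agent.PrimeNorm`):
* `fix_dim` : dimensions of fixed spaces modulo `p`; `exists_iso_mem` : planes contain isotropic vectors;
* `eq_one_of_commute` : no element of another order 5, 7, 11 commutes with such an element of SU(6,2);
* `sq_eq_one_of_image` : preimages of involutions in the local group are involutions;
* `cent_elem_trivial` : the orders 3, 5, 7, 11 do not occur beside `x`.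
-/
import Cfsg.Agent.Lib.FischerM22.PrimeNorm.Linear
import Cfsg.Agent.Lib.FischerM22.PrimeNorm.Frame
import Cfsg.Agent.Lib.FischerM22.Involutions

set_option autoImplicit false

namespace Cfsg.Agent.PrimeNorm

open Cfsg.Agent.Unitary Cfsg.Agent.U62Cover Cfsg.Agent.ThreeTrans Cfsg.Agent.ThreeTransSU Cfsg.Agent.FischerM22

section Linear

variable {F : Type*} [Field F] [Fintype F]

theorem mem_eig_one {A : Cfsg.SU 6 F 2} {v : Fin 6 → F} : v ∈ eig A 1 ↔ act A v = v := by
  show act A v = (1 : F) • v ↔ _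
  rw [one_smul]

theorem act_pow_perm (A : Cfsg.SU 6 F 2) {P : (Fin 6 → F) → Prop} (hP : ∀ v, P v → P (act A v)) :
    ∃ σ : Equiv.Perm {v // P v}, ∀ (k : ℕ) (v : {v // P v}), ((σ ^ k) v).1 = act (A ^ k) v.1 := by
  have hb : Function.Bijective (fun v : {v // P v} => (⟨act A v.1, hP _ v.2⟩ : {v // P v})) :=
    Finite.injective_iff_bijective.1 fun a b e => Subtype.ext (by
      have e1 := congrArg (act A⁻¹) (congrArg Subtype.val e)
      rwa [act_inv_act, act_inv_act] at e1)
  refine ⟨Equiv.ofBijective _ hb, fun k => ?_⟩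
  induction k with
  | zero => intro v; simp [act_one]
  | succ k ih =>
    intro v
    rw [pow_succ', Equiv.Perm.mul_apply, pow_succ' A, act_mul, ← ih]
    rfl

theorem count_fix {p : ℕ} [Fact p.Prime] {A : Cfsg.SU 6 F 2} (hA : A ^ p = 1) (P : (Fin 6 → F) → Prop)
    (hP : ∀ v, P v → P (act A v)) :
    Nat.card {v // P v} ≡ Nat.card {v // P v ∧ act A v = v} [MOD p] := by
  obtain ⟨σ, hσ⟩ := act_pow_perm A hP
  have h := perm_fix_modEq (p := p) σ (Equiv.ext fun v => Subtype.ext (by rw [hσ, hA, act_one]; rfl))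
  suffices e : Nat.card {a // σ a = a} = Nat.card {v // P v ∧ act A v = v} from e ▸ h
  refine Nat.card_congr
    { toFun := fun v => ⟨v.1.1, v.1.2, by
        have := hσ 1 v.1
        rw [pow_one, pow_one, v.2] at this
        exact this.symm⟩
      invFun := fun v => ⟨⟨v.1, v.2.1⟩, Subtype.ext (by
        have := hσ 1 ⟨v.1, v.2.1⟩
        rw [pow_one, pow_one] at this
        exact this.trans v.2.2)⟩
      left_inv := fun v => rfl
      right_inv := fun v => rfl }

theorem card_submodule_four (hF : Fintype.card F = 4) (W : Submodule F (Fin 6 → F)) :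
    Nat.card {v // v ∈ W} = 4 ^ Module.finrank F W := by
  rw [show Nat.card {v // v ∈ W} = Nat.card W from rfl, Module.natCard_eq_pow_finrank (K := F),
    Nat.card_eq_fintype_card, hF]

theorem fix_dim (hF : Fintype.card F = 4) {p : ℕ} [Fact p.Prime] {A : Cfsg.SU 6 F 2} (hA : A ^ p = 1)
    {W : Submodule F (Fin 6 → F)} (hW : ∀ v ∈ W, act A v ∈ W) :
    4 ^ Module.finrank F W ≡ 4 ^ Module.finrank F (W ⊓ eig A 1 : Submodule F (Fin 6 → F)) [MOD p] := by
  have h := count_fix hA (· ∈ W) hW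
  rw [← card_submodule_four hF W, ← card_submodule_four hF]
  suffices e : Nat.card {v // v ∈ W ∧ act A v = v} = Nat.card {v // v ∈ W ⊓ eig A 1} from e ▸ h
  exact Nat.card_congr (Equiv.subtypeEquivRight fun v => by rw [Submodule.mem_inf, mem_eig_one])

theorem fix_dim_top (hF : Fintype.card F = 4) {p : ℕ} [Fact p.Prime] {A : Cfsg.SU 6 F 2} (hA : A ^ p = 1) :
    4096 ≡ 4 ^ Module.finrank F (eig A 1) [MOD p] := by
  have h := fix_dim hF hA (W := ⊤) fun v _ => Submodule.mem_top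
  rwa [top_inf_eq, finrank_top, Module.finrank_fin_fun] at h

theorem exists_iso_mem (hF : Fintype.card F = 4) {W : Submodule F (Fin 6 → F)}
    (hW : 2 ≤ Module.finrank F W) : ∃ v ∈ W, Iso v := by
  have h2 := two_eq_zero hF
  let b := Module.finBasis F W
  let i : Fin (Module.finrank F W) := ⟨0, by omega⟩
  let j : Fin (Module.finrank F W) := ⟨1, by omega⟩
  have hb : LinearIndependent F (W.subtype ∘ b) := b.linearIndependent.map' W.subtype W.ker_subtype
  by_cases h1 : hf (b i : Fin 6 → F) (b i) = 0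
  · exact ⟨_, (b i).2, hb.ne_zero i, h1⟩
  have key : ∀ x : F, x = x ^ 2 → x ≠ 0 → x = 1 := fun x e hx => by
    have : x * (x - 1) = 0 := by linear_combination -e
    exact sub_eq_zero.1 ((mul_eq_zero.1 this).resolve_left hx)
  have self : ∀ v : Fin 6 → F, hf v v ≠ 0 → hf v v = 1 := fun v hv =>
    key _ ((herm hF).self_fixed v).symm hv
  by_cases h3 : hf (b j : Fin 6 → F) (b j) = 0
  · exact ⟨_, (b j).2, hb.ne_zero j, h3⟩
  have hij : i ≠ j := by simp [i, j, Fin.ext_iff]
  have hne : ∀ t : F, (b i : Fin 6 → F) + t • (b j : Fin 6 → F) ≠ 0 := fun t e => by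
    have := Fintype.linearIndependent_iff.1 hb (Pi.single i 1 + Pi.single j t) (by
      simp only [Pi.add_apply, add_smul, Finset.sum_add_distrib, Pi.single_apply, ite_smul, zero_smul,
        Finset.sum_ite_eq', Finset.mem_univ, if_true, one_smul, Function.comp_apply, Submodule.subtype_apply]
      exact e) i
    simp [hij] at this
  obtain ⟨t, ht0, ht⟩ : ∃ t : F, t ≠ 0 ∧ hf (b i : Fin 6 → F) (b j) * t ^ 2 = (hf (b i : Fin 6 → F) (b j) * t ^ 2) ^ 2 := by
    by_cases hc : hf (b i : Fin 6 → F) (b j) = 0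
    · exact ⟨1, one_ne_zero, by rw [hc]; ring⟩
    · refine ⟨((hf (b i : Fin 6 → F) (b j))⁻¹) ^ 2, pow_ne_zero _ (inv_ne_zero hc), ?_⟩
      rw [show (((hf (b i : Fin 6 → F) (b j))⁻¹) ^ 2) ^ 2 = (hf (b i : Fin 6 → F) (b j))⁻¹ from pow_q_pow_q (card_sq hF) _,
        mul_inv_cancel₀ hc]
      ring
  refine ⟨_, add_mem (b i).2 (W.smul_mem t (b j).2), hne t, ?_⟩
  have hs : hf (b j : Fin 6 → F) (b i) = (hf (b i : Fin 6 → F) (b j)) ^ 2 := (herm hF).conj_symm _ _
  rw [hf_add_left hF, hf_add_right hF, hf_add_right hF, hf_smul_left hF, hf_smul_left hF, hf_smul_right hF,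
    hf_smul_right hF, self _ h1, self _ h3, hs]
  have h4 := U62Cover.pow_three hF ht0
  linear_combination (1 + hf (b i : Fin 6 → F) (b j) * t ^ 2) * h2 - ht
    + (1 - (hf (b i : Fin 6 → F) (b j)) ^ 2 * t) * h4

theorem fix_le_one (hF : Fintype.card F = 4) {A : Cfsg.SU 6 F 2} (hfree : ∀ v, Iso v → act A v ≠ v) :
    Module.finrank F (eig A 1) ≤ 1 := by
  by_contra h
  obtain ⟨v, hv, hiso⟩ := exists_iso_mem hF (W := eig A 1) (by omega)
  exact hfree v hiso (mem_eig_one.1 hv)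

theorem dims_six {p q a c d : ℕ} (hp7 : p = 7 ∨ p = 11) (hq : q = 5 ∨ q = 7 ∨ q = 11) (hqp : q ≠ p)
    (ha : a ≤ 1) (hc : c ≤ a) (hd : d ≤ 6) (a0 : 4096 ≡ 4 ^ a [MOD p]) (b0 : 4096 ≡ 4 ^ d [MOD q])
    (b1 : 4 ^ d ≡ 4 ^ c [MOD p]) (b2 : 4 ^ a ≡ 4 ^ c [MOD q]) (b5 : q = 5 → 1 ≤ d) : d = 6 := by
  have key : ∀ a : Fin 2, ∀ c : Fin 2, ∀ d : Fin 7, ∀ pq ∈ [(7, 5), (7, 11), (11, 5), (11, 7)],
      c.1 ≤ a.1 → 4096 % pq.1 = 4 ^ a.1 % pq.1 → 4096 % pq.2 = 4 ^ d.1 % pq.2 →
      4 ^ d.1 % pq.1 = 4 ^ c.1 % pq.1 → 4 ^ a.1 % pq.2 = 4 ^ c.1 % pq.2 → (pq.2 = 5 → 1 ≤ d.1) → d.1 = 6 := by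
    decide +kernel
  exact key ⟨a, by omega⟩ ⟨c, by omega⟩ ⟨d, by omega⟩ (p, q) (by
    rcases hp7 with rfl | rfl <;> rcases hq with rfl | rfl | rfl <;> first | exact absurd rfl hqp | simp) hc a0 b0 b1 b2 b5

/-- No element of another order 5, 7, 11 commutes with a fixed-point-free element of order 7 or 11. -/
theorem eq_one_of_commute (hF : Fintype.card F = 4) {p q : ℕ} [Fact p.Prime] [Fact q.Prime]
    (hp7 : p = 7 ∨ p = 11) (hq : q = 5 ∨ q = 7 ∨ q = 11) (hqp : q ≠ p) {A B : Cfsg.SU 6 F 2}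
    (hA : A ^ p = 1) (hB : B ^ q = 1) (hfree : ∀ v, Iso v → act A v ≠ v) (hc : Commute B A) : B = 1 := by
  have hinv : ∀ {C D : Cfsg.SU 6 F 2}, Commute C D → ∀ v ∈ eig C 1, act D v ∈ eig C 1 := fun {C D} h v hv => by
    rw [mem_eig_one] at hv ⊢
    rw [← act_mul, h.eq, act_mul, hv]
  have hle : ∀ W : Submodule F (Fin 6 → F), Module.finrank F W ≤ 6 := fun W =>
    (Submodule.finrank_le _).trans_eq (Module.finrank_fin_fun F)
  have a0 := fix_dim_top hF hA
  have a1 := fix_le_one hF hfree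
  have b0 := fix_dim_top hF hB
  have b1 := fix_dim hF hA (W := eig B 1) (hinv hc)
  have b2 := fix_dim hF hB (W := eig A 1) (hinv hc.symm)
  rw [inf_comm] at b2
  have b3 : (eig B 1 ⊓ eig A 1 : Submodule F (Fin 6 → F)) ≤ eig A 1 := inf_le_right
  have b4 := Submodule.finrank_mono b3
  have b5 : q = 5 → 1 ≤ Module.finrank F (eig B 1) := fun h5 => by
    have h := count_fix hB Iso fun v hv => hv.act B
    rw [count_iso hF] at h
    refine Nat.one_le_iff_ne_zero.2 fun h0 => ?_
    have : IsEmpty {v : Fin 6 → F // Iso v ∧ act B v = v} := ⟨fun v => v.2.1.1 (by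
      have := mem_eig_one.2 v.2.2
      rwa [Submodule.finrank_eq_zero.1 h0, Submodule.mem_bot] at this)⟩
    rw [Nat.card_eq_zero.2 (Or.inl this), h5] at h
    exact absurd h (by decide)
  have h6 : Module.finrank F (eig B 1) = 6 :=
    dims_six hp7 hq hqp a1 b4 (hle _) a0 b0 b1 b2 b5
  have htop : eig B 1 = ⊤ := Submodule.eq_top_of_finrank_eq (by rw [h6, Module.finrank_fin_fun])
  exact act_ext fun v => by rw [act_one]; exact mem_eig_one.1 (htop ▸ Submodule.mem_top)

end Linear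

variable {G : Type*} [Group G] [Finite G] {D : Set G}
  {F : Type*} [Field F] [Fintype F] {a : G} {pt : (Fin 6 → F) → G} {θ : ↥(Loc D a) →* Cfsg.PSU 6 F 2}

omit [Finite G] in
theorem lift_prime (L : LocModel D a pt θ) {p : ℕ} {x : ↥(Loc D a)} (hx : x ^ p = 1) :
    ∃ A : Cfsg.SU 6 F 2, A ^ p = 1 ∧ toPSU 6 F A = θ (x ^ 3) := by
  obtain ⟨g, hg⟩ := QuotientGroup.mk'_surjective _ (θ x)
  refine ⟨g ^ 3, ?_, by rw [map_pow, hg, map_pow]⟩
  rw [← pow_mul, mul_comm, pow_mul]
  refine center_cube L.M.card (by norm_num) (toPSU_eq_one.1 ?_)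
  rw [map_pow, hg, ← map_pow, hx, map_one]

theorem lift_commute (hF : Fintype.card F = 4) {p : ℕ} (hp : Nat.Coprime p 3) {A g : Cfsg.SU 6 F 2}
    (hA : A ^ p = 1) (h : Commute (toPSU 6 F g) (toPSU 6 F A)) : Commute g A := by
  have hz : g * A * g⁻¹ * A⁻¹ ∈ Subgroup.center (Cfsg.SU 6 F 2) := toPSU_eq_one.1 (by
    rw [map_mul, map_mul, map_mul, map_inv, map_inv, h.eq, mul_inv_cancel_right, mul_inv_cancel])
  set z := g * A * g⁻¹ * A⁻¹ with hzdef
  have h3 := center_cube hF (by norm_num) hz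
  have hpz : z ^ p = 1 := by
    have e : (z * A) ^ p = 1 := by rw [hzdef, inv_mul_cancel_right, conj_pow, hA, mul_one, mul_inv_cancel]
    rwa [(show Commute z A from (Subgroup.mem_center_iff.1 hz A).symm).mul_pow, hA, mul_one] at e
  have : z = 1 := by
    have := pow_gcd_eq_one.2 ⟨hpz, h3⟩
    rwa [hp.gcd_eq_one, pow_one] at this
  exact mul_inv_eq_iff_eq_mul.1 (mul_inv_eq_one.1 this)

/-- Preimages of involutions of PSU(6,2) are involutions. -/
theorem sq_eq_one_of_image (L : LocModel D a pt θ) (S : Fi22Setup D) (ha : a ∈ D) {y : ↥(Loc D a)}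
    (hy : θ y * θ y = 1) : (y : G) * y = 1 := by
  have M := L.M
  obtain ⟨t, ht, htθ⟩ := exists_lift_involution M.card (by norm_num) hy
  obtain ⟨m, u, hli, horth, rfl⟩ := exists_indep M.card t ht
  have hI : ∀ i, Iso (u i) := fun i => ⟨hli.ne_zero i, horth i i⟩
  let P : ↥(Loc D a) := (List.ofFn fun i => (⟨pt (u i), Subgroup.subset_closure (M.mem _ (hI i))⟩ : ↥(Loc D a))).prod
  have hP : θ P = θ y := by
    rw [← htθ, map_list_prod, map_list_prod, List.map_ofFn, List.map_ofFn]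
    exact congrArg List.prod (congrArg List.ofFn (funext fun i => L.image _ (hI i) _))
  have hc : ∀ i j, Commute (pt (u i)) (pt (u j)) := fun i j => (M.comm _ _ (hI i) (hI j)).2 (horth i j)
  have hPv : (P : G) = (List.ofFn fun i => pt (u i)).prod := by
    simp only [P, Subgroup.val_list_prod, List.map_ofFn]
    rfl
  have hsq : (P : G) * P = 1 := by
    rw [hPv]
    have : ∀ l : List G, (∀ b ∈ l, b * b = 1) → (∀ b ∈ l, ∀ c ∈ l, Commute b c) → l.prod * l.prod = 1 := by
      intro l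
      induction l with
      | nil => simp
      | cons b l ih =>
        intro h1 h2
        rw [List.prod_cons, ← pow_two,
          (Commute.list_prod_right l b fun c hc => h2 b (by simp) c (by simp [hc])).mul_pow, pow_two, pow_two,
          h1 b (by simp), ih (fun c hc => h1 c (by simp [hc])) (fun b hb c hc => h2 b (by simp [hb]) c (by simp [hc])),
          one_mul]
    refine this _ (fun b hb => ?_) fun b hb c hc' => ?_
    · obtain ⟨i, rfl⟩ := List.mem_ofFn.1 hb
      exact mul_self S.cls.1 (M.mem _ (hI i)).1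
    · obtain ⟨i, rfl⟩ := List.mem_ofFn.1 hb
      obtain ⟨j, rfl⟩ := List.mem_ofFn.1 hc'
      exact hc i j
  have hz : y * P⁻¹ ∈ Subgroup.center ↥(Loc D a) := L.ker _ (by rw [map_mul, map_inv, hP, mul_inv_cancel])
  rcases (mem_center_loc_iff S ha _).1 hz with h | h <;> rw [Subgroup.coe_mul, Subgroup.coe_inv] at h
  · rw [mul_inv_eq_one.1 h, hsq]
  · have hca : Commute a (P : G) := (commute_of_mem_Loc P.2).symm
    rw [mul_inv_eq_iff_eq_mul.1 h, ← pow_two, hca.mul_pow, pow_two, pow_two, hsq, mul_self S.cls.1 ha, mul_one]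

/-- The primes 3, 5, 7, 11 beside an element `x` of order 7 or 11 without fixed neighbours. -/
theorem cent_elem_trivial (S : Fi22Setup D) (ha : a ∈ D) {p q : ℕ} [Fact p.Prime] [Fact q.Prime]
    (hp7 : p = 7 ∨ p = 11) (hq : q = 3 ∨ q = 5 ∨ q = 7 ∨ q = 11) (hqp : q ≠ p) {x y : G}
    (hxa : Commute x a) (hxp : x ^ p = 1) (hno : ∀ b ∈ adj D a, ¬ Commute x b)
    (hya : Commute y a) (hyq : y ^ q = 1) (hyx : Commute y x) : y = 1 := by
  obtain ⟨F, _, _, pt, θ, L⟩ := exists_locModel S ha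
  have hF := L.M.card
  have hmem : ∀ {g : G}, Commute g a → g ∈ Loc D a := fun {g} h => by
    rw [← centralizer_eq_loc S ha]; exact Subgroup.mem_centralizer_singleton_iff.2 h
  let X : ↥(Loc D a) := ⟨x, hmem hxa⟩
  let Y : ↥(Loc D a) := ⟨y, hmem hya⟩
  have hXp : X ^ p = 1 := Subtype.ext (by rw [Subgroup.coe_pow]; exact hxp)
  obtain ⟨A, hA, hAθ⟩ := lift_prime L hXp
  have hfree : ∀ v, Iso v → act A v ≠ v := by
    intro v hv hfix
    refine hno _ (L.M.mem v hv) ?_
    have h := L.conj_pt S ha hAθ.symm hv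
    rw [hfix, Subgroup.coe_pow] at h
    have h3 : Commute (x ^ 3) (pt v) := mul_inv_eq_iff_eq_mul.1 h
    have e1 : ∀ k m, 3 * k = p * m + 1 → Commute x (pt v) := fun k m e => by
      have := h3.pow_left k
      rwa [← pow_mul, e, pow_succ, pow_mul, hxp, one_pow, one_mul] at this
    rcases hp7 with rfl | rfl
    exacts [e1 5 2 rfl, e1 4 1 rfl]
  have hp3 : Nat.Coprime p 3 := by rcases hp7 with rfl | rfl <;> decide
  have hXY : Commute (θ Y) (θ (X ^ 3)) :=
    (((show Commute Y X from Subtype.ext hyx).pow_right 3)).map θ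
  rcases hq with rfl | hq
  · obtain ⟨g, hg⟩ := QuotientGroup.mk'_surjective _ (θ Y)
    have hcomm : Commute g A := lift_commute hF hp3 hA (by rw [hAθ]; rw [show toPSU 6 F g = θ Y from hg]; exact hXY)
    have hg3 : g ^ 3 ∈ Subgroup.center (Cfsg.SU 6 F 2) := toPSU_eq_one.1 (by
      rw [map_pow, hg, ← map_pow, show Y ^ 3 = 1 from Subtype.ext (by rw [Subgroup.coe_pow]; exact hyq), map_one])
    have h1 : θ Y = 1 := hg ▸ toPSU_eq_one.2 (central_of_cube hF hp7 hA hfree hcomm hg3)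
    rcases (mem_center_loc_iff S ha Y).1 (L.ker _ h1) with h | h
    · exact h
    · exfalso
      rw [show y = a from h] at hyq
      refine ne_one S.cls.1 ha ?_
      rwa [pow_succ, pow_two, mul_self S.cls.1 ha, one_mul] at hyq
  · have hYq : Y ^ q = 1 := Subtype.ext (by rw [Subgroup.coe_pow]; exact hyq)
    obtain ⟨B, hB, hBθ⟩ := lift_prime L hYq
    have hcomm : Commute B A := lift_commute hF hp3 hA (by rw [hAθ, hBθ, map_pow]; exact hXY.pow_left 3)
    have hB1 := eq_one_of_commute hF hp7 hq hqp hA hB hfree hcomm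
    have h1 : θ (Y ^ 3) = 1 := by rw [← hBθ, hB1, map_one]
    have h6 : y ^ 6 = 1 := by
      rcases (mem_center_loc_iff S ha _).1 (L.ker _ h1) with h | h <;>
        rw [Subgroup.coe_pow] at h <;> rw [show 6 = 3 * 2 from rfl, pow_mul, show y ^ 3 = _ from h]
      · exact one_pow 2
      · rw [pow_two, mul_self S.cls.1 ha]
    have := pow_gcd_eq_one.2 ⟨hyq, h6⟩
    rcases hq with rfl | rfl | rfl <;> simpa using this

end Cfsg.Agent.PrimeNorm
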