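/-
The centraliser in a local group of a subgroup of order 7 or 11 in a group of type M(22).

Main results (namespace `Cfsg.Agent.PrimeNorm`):
* `far_fix_card` : two non-commuting members have a common centraliser of order 6531840;
* `fixD_far` : no two members centralising `X` commute;
* `involution_mem` : an involution centralising `X` is a member;
* `cent_card` : `C(X) ∩ C(a)` has order `2 p`.
-/
import Cfsg.Agent.Lib.FischerM22.PrimeNorm.Lift

set_option autoImplicit false

namespace Cfsg.Agent.PrimeNorm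

open Cfsg.Agent.ThreeTrans Cfsg.Agent.ThreeTransSU Cfsg.Agent.FischerM22

variable {G : Type*} [Group G] [Finite G] {D : Set G}

theorem cent_card_of_mem (S : Fi22Setup D) {a : G} (ha : a ∈ D) :
    Nat.card ↥(Subgroup.centralizer ({a} : Set G)) = 18393661440 := by
  rw [centralizer_eq_loc S ha, loc_card S ha]

theorem far_fix_card (S : Fi22Setup D) {a e : G} (ha : a ∈ D) (he : e ∈ D) (hae : ¬ Commute a e) :
    Nat.card ↥(Subgroup.centralizer ({a} : Set G) ⊓ Subgroup.centralizer {e}) = 6531840 := by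
  have h := card_orbit_mul (Subgroup.centralizer ({a} : Set G)) e e
  have e' : {p : G × G | ∃ g ∈ Subgroup.centralizer ({a} : Set G), g * e * g⁻¹ = p.1 ∧ g * e * g⁻¹ = p.2}
      = (fun y : G => (y, y)) '' {y | y ∈ D ∧ ¬ Commute a y} := by
    ext ⟨u, w⟩
    constructor
    · rintro ⟨g, hg, rfl, rfl⟩
      have hga : g * a * g⁻¹ = a := mul_inv_eq_iff_eq_mul.2 (Subgroup.mem_centralizer_singleton_iff.1 hg)
      refine ⟨_, ⟨S.conj_mem g he, fun hc => hae ?_⟩, rfl⟩
      refine Commute.of_map (f := (MulAut.conj g).toMonoidHom) (MulAut.conj g).injective ?_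
      show Commute (g * a * g⁻¹) (g * e * g⁻¹)
      rwa [hga]
    · rintro ⟨y, ⟨hy, hay⟩, e1⟩
      obtain ⟨rfl, rfl⟩ := Prod.ext_iff.1 e1
      obtain ⟨g, hga, hg⟩ := centralizer_transitive S ha he hy hae hay
      exact ⟨g, Subgroup.mem_centralizer_singleton_iff.2 hga, hg, hg⟩
  rw [e', Set.ncard_image_of_injective _ fun x y h => congrArg Prod.fst h, far_ncard S ha, cent_card_of_mem S ha,
    inf_assoc, inf_idem] at h
  omega

variable {p : ℕ} [hp : Fact p.Prime] {X : Subgroup G}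

omit hp in
theorem le_cent {y : G} (hy : y ∈ fixD D X) : X ≤ Subgroup.centralizer {y} :=
  fun x hx => Subgroup.mem_centralizer_singleton_iff.2 ((mem_fixD.1 hy).2 x hx)

omit hp in
theorem fixD_far (S : Fi22Setup D) (hX : Nat.card X = p) (hp26 : ¬ p ∣ 26542080) {a b : G} (ha : a ∈ fixD D X)
    (hb : b ∈ fixD D X) (hne : a ≠ b) : ¬ Commute a b := fun hc =>
  hp26 (by
    have h := Subgroup.card_dvd_of_le (le_inf (le_cent ha) (le_cent hb))
    rwa [hX, pair_fix_card S ha.1 ⟨hb.1, hne.symm, hc⟩] at h)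

theorem pair_fixed (S : Fi22Setup D) (hX : Nat.card X = p) (h2 : 2 < p) {a b y : G} (ha : a ∈ D)
    (hb : b ∈ adj D a) (hy : a * b = y) (hyX : ∀ x ∈ X, Commute x y) :
    a ∈ fixD D X ∧ b ∈ fixD D X := by
  have hS : ∀ x ∈ X, ∀ t ∈ ({a, b} : Set G), x * t * x⁻¹ ∈ ({a, b} : Set G) := by
    intro x hx
    have hxy : x * a * x⁻¹ * (x * b * x⁻¹) = a * b := by
      calc _ = x * (a * b) * x⁻¹ := by group
        _ = _ := by rw [hy, (hyX x hx).eq, mul_inv_cancel_right]
    have h1 : x * b * x⁻¹ ∈ adj D (x * a * x⁻¹) :=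
      (conj_adj S.grp.2.1 x a _).2 (by simpa [mul_assoc] using hb)
    have hcm : Commute (x * a * x⁻¹) (x * b * x⁻¹) := h1.2.2
    have key := pair_product_unique S ha hb (S.conj_mem x ha) h1 hxy
    have key' := pair_product_unique S ha hb (S.conj_mem x hb.1) (adj_symm (S.conj_mem x ha) h1) (hcm.eq ▸ hxy)
    intro t ht
    simp only [Set.mem_insert_iff, Set.mem_singleton_iff] at ht ⊢
    rcases ht with rfl | rfl
    exacts [key, key']
  have h := small_fixed hX hS (lt_of_le_of_lt (Set.ncard_insert_le _ _) (by rw [Set.ncard_singleton]; omega))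
  exact ⟨mem_fixD.2 ⟨ha, h a (by simp)⟩, mem_fixD.2 ⟨hb.1, h b (by simp)⟩⟩

theorem triple_fixed (S : Fi22Setup D) (hX : Nat.card X = p) (h3 : 3 < p) {a b c : G} (hT : IsTriple D a b c)
    (hyX : ∀ x ∈ X, Commute x (a * b * c)) : a ∈ fixD D X ∧ b ∈ fixD D X ∧ c ∈ fixD D X := by
  obtain ⟨d, e, f, hT', hnd, heq, hset⟩ := triple_set S hT
  let B : Set G := {t | t ∈ [a, b, c]}
  let B' : Set G := {t | t ∈ [d, e, f]}
  have hblock : ∀ x ∈ X, ∀ u v w : G, IsTriple D u v w → u * v * w = a * b * c →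
      (∀ t ∈ [u, v, w], x * t * x⁻¹ ∈ B) ∨ (∀ t ∈ [u, v, w], x * t * x⁻¹ ∈ B') := by
    intro x hx u v w h huvw
    have hprod : x * u * x⁻¹ * (x * v * x⁻¹) * (x * w * x⁻¹) = a * b * c := by
      calc _ = x * (u * v * w) * x⁻¹ := by group
        _ = _ := by rw [huvw, (hyX x hx).eq, mul_inv_cancel_right]
    rcases hset _ _ _ (h.map S x) hprod with ⟨h1, h2, h3⟩ | ⟨h1, h2, h3⟩
    · refine Or.inl fun t ht => ?_
      simp only [List.mem_cons, List.not_mem_nil, or_false] at ht
      rcases ht with rfl | rfl | rfl <;> assumption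
    · refine Or.inr fun t ht => ?_
      simp only [List.mem_cons, List.not_mem_nil, or_false] at ht
      rcases ht with rfl | rfl | rfl <;> assumption
  have hTabc := hT
  obtain ⟨-, -, -, n1, n2, n3, -, -, -⟩ := hT
  have hB : B.ncard = 3 := by
    have : B = {a, b, c} := by ext t; simp [B]
    rw [this, Set.ncard_insert_of_notMem (by simp [n1, n2]), Set.ncard_pair n3]
  have hdisj : ∀ t, t ∈ B → t ∈ B' → False := fun t h h' =>
    List.disjoint_of_nodup_append (show ([a, b, c] ++ [d, e, f]).Nodup from hnd) h h'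
  have hd3 : d ∈ B' := by simp [B']
  have ha3 : a ∈ B := by simp [B]
  have hS : ∀ x ∈ X, ∀ t ∈ B, x * t * x⁻¹ ∈ B := by
    intro x hx
    obtain ⟨z, hz, rfl⟩ : ∃ z ∈ X, z * z = x := by
      obtain ⟨m, hm⟩ := hp.out.odd_of_ne_two (by omega)
      refine ⟨x ^ (m + 1), pow_mem hx _, ?_⟩
      have hxp : x ^ p = 1 := by
        have := pow_card_eq_one' (x := (⟨x, hx⟩ : X))
        rw [hX] at this
        exact congrArg Subtype.val this
      rw [← pow_add, show m + 1 + (m + 1) = p + 1 by omega, pow_succ, hxp, one_mul]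
    intro t ht
    rw [show z * z * t * (z * z)⁻¹ = z * (z * t * z⁻¹) * z⁻¹ by group]
    rcases hblock z hz a b c hTabc rfl with h | h
    · exact h _ (h t ht)
    rcases hblock z hz d e f hT' heq.symm with h' | h'
    · exact h' _ (h t ht)
    exfalso
    have hinj : ∀ s s' : G, z * s * z⁻¹ = z * s' * z⁻¹ → s = s' := fun s s' e => (MulAut.conj z).injective e
    have hsub : (fun s => z * s * z⁻¹) '' (insert d B) ⊆ B' := by
      rintro _ ⟨s, hs | hs, rfl⟩
      exacts [hs ▸ h' d hd3, h s hs]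
    have h4 := Set.ncard_le_ncard hsub (Set.toFinite _)
    rw [Set.ncard_image_of_injective _ hinj, Set.ncard_insert_of_notMem (fun hdB => hdisj d hdB hd3), hB] at h4
    have : B'.ncard ≤ 3 := by
      have : B' = {d, e, f} := by ext t; simp [B']
      rw [this]
      exact (Set.ncard_insert_le _ _).trans (by
        have := Set.ncard_insert_le e ({f} : Set G)
        rw [Set.ncard_singleton] at this
        omega)
    omega
  have h := small_fixed hX hS (by omega)
  exact ⟨mem_fixD.2 ⟨hTabc.1, h a (by simp [B])⟩, mem_fixD.2 ⟨hTabc.2.1, h b (by simp [B])⟩,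
    mem_fixD.2 ⟨hTabc.2.2.1, h c (by simp [B])⟩⟩

/-- An involution centralising `X` is a member when the members centralising `X` do not commute. -/
theorem involution_mem (S : Fi22Setup D) (hX : Nat.card X = p) (h3 : 3 < p)
    (hfar : ∀ a ∈ fixD D X, ∀ b ∈ fixD D X, a ≠ b → ¬ Commute a b) {y : G} (hy : y * y = 1) (hy1 : y ≠ 1)
    (hyX : ∀ x ∈ X, Commute x y) : y ∈ fixD D X := by
  obtain ⟨m, m1, m3, h⟩ := involution_prod S hy hy1
  rcases isProd_cases m1 m3 h with ⟨-, h⟩ | ⟨-, a, ha, b, hb, rfl⟩ | ⟨-, a, b, c, hT, rfl⟩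
  · exact mem_fixD.2 ⟨h, hyX⟩
  · obtain ⟨h1, h2⟩ := pair_fixed S hX (by omega) ha hb rfl hyX
    exact absurd hb.2.2 (hfar a h1 b h2 hb.2.1.symm)
  · obtain ⟨h1, h2, -⟩ := triple_fixed S hX h3 hT hyX
    obtain ⟨-, -, -, n1, -, -, c1, -, -⟩ := hT
    exact absurd c1 (hfar a h1 b h2 n1)

/-- The centraliser of `X` in the local group of a member centralising it. -/
theorem cent_card (S : Fi22Setup D) (hX : Nat.card X = p) (hp7 : p = 7 ∨ p = 11) {a : G} (ha : a ∈ fixD D X) :
    Nat.card ↥(Subgroup.centralizer ({a} : Set G) ⊓ Subgroup.centralizer (X : Set G)) = 2 * p := by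
  have h26 : ¬ p ∣ 26542080 := by rcases hp7 with rfl | rfl <;> norm_num
  have hfar : ∀ u ∈ fixD D X, ∀ v ∈ fixD D X, u ≠ v → ¬ Commute u v := fun u hu v hv => fixD_far S hX h26 hu hv
  set K := Subgroup.centralizer ({a} : Set G) ⊓ Subgroup.centralizer (X : Set G) with hK
  have memK : ∀ {g}, g ∈ K ↔ Commute g a ∧ ∀ x ∈ X, Commute x g := fun {g} => by
    rw [hK, Subgroup.mem_inf, Subgroup.mem_centralizer_singleton_iff, Subgroup.mem_centralizer_iff]; rfl
  obtain ⟨x, hx, hx1⟩ : ∃ x ∈ X, x ≠ 1 := by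
    refine (Subgroup.bot_or_exists_ne_one X).resolve_left fun h => ?_
    rw [h, Subgroup.card_bot] at hX
    exact hp.out.ne_one hX.symm
  have hxp : x ^ p = 1 := by
    have := pow_card_eq_one' (x := (⟨x, hx⟩ : X))
    rw [hX] at this
    exact congrArg Subtype.val this
  have hxa : Commute x a := (mem_fixD.1 ha).2 x hx
  have hgen : ∀ z ∈ X, ∃ k : ℕ, z = x ^ k := fun z hz => by
    obtain ⟨k, hk⟩ := Submonoid.mem_powers_iff _ _ |>.1
      (mem_powers_of_prime_card (p := p) hX (g := (⟨x, hx⟩ : X)) (g' := ⟨z, hz⟩) fun e => hx1 (congrArg Subtype.val e))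
    exact ⟨k, by rw [← SubmonoidClass.coe_pow ⟨x, hx⟩ k, hk]⟩
  have hno : ∀ b ∈ adj D a, ¬ Commute x b := fun b hb hc => by
    refine hfar a ha b (mem_fixD.2 ⟨hb.1, fun z hz => ?_⟩) hb.2.1.symm hb.2.2
    obtain ⟨k, rfl⟩ := hgen z hz
    exact hc.pow_left k
  have hodd : ∀ q : ℕ, q.Prime → (q = 3 ∨ q = 5 ∨ q = 7 ∨ q = 11) → q ≠ p → ¬ q ∣ Nat.card K := by
    intro q hq h hne hdvd
    have := Fact.mk hq
    obtain ⟨y, hy⟩ := exists_prime_orderOf_dvd_card' q hdvd
    have hyq : (y : G) ^ q = 1 := by rw [← hy, ← Subgroup.coe_pow, pow_orderOf_eq_one, Subgroup.coe_one]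
    have h1 := cent_elem_trivial S ha.1 hp7 h hne hxa hxp hno (memK.1 y.2).1 hyq ((memK.1 y.2).2 x hx).symm
    rw [show y = 1 from Subtype.ext h1, orderOf_one] at hy
    exact hq.ne_one hy.symm
  have htwo : ∀ y ∈ K, y ^ 4 = 1 → y = 1 ∨ y = a := by
    intro y hy h4
    obtain ⟨hya, hyX⟩ := memK.1 hy
    have inv : ∀ z, Commute z a → (∀ x ∈ X, Commute x z) → z * z = 1 → z = 1 ∨ z = a := fun z hza hzX hz => by
      refine Classical.or_iff_not_imp_left.2 fun hz1 => ?_
      have h := involution_mem S hX (by rcases hp7 with rfl | rfl <;> omega) hfar hz hz1 hzX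
      by_contra hne
      exact hfar z h a ha hne hza
    refine inv y hya hyX ?_
    rcases inv (y * y) (hya.mul_left hya) (fun x hx => (hyX x hx).mul_right (hyX x hx))
      (by rw [← pow_two, ← pow_two, ← pow_mul]; exact h4) with h | h
    · exact h
    · obtain ⟨F, _, _, pt, θ, L⟩ := exists_locModel S ha.1
      have hyL : y ∈ Loc D a := by
        rw [← centralizer_eq_loc S ha.1]; exact Subgroup.mem_centralizer_singleton_iff.2 hya
      refine sq_eq_one_of_image L S ha.1 (y := ⟨y, hyL⟩) ?_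
      have hz : (⟨a, mem_loc_self S ha.1⟩ : ↥(Loc D a)) ∈ Subgroup.center ↥(Loc D a) :=
        (mem_center_loc_iff S ha.1 _).2 (Or.inr rfl)
      have hk : θ ⟨a, mem_loc_self S ha.1⟩ = 1 := by
        rw [← Subgroup.mem_bot, ← center_psu_eq_bot L.M.card]
        refine Subgroup.mem_center_iff.2 fun g => ?_
        obtain ⟨g, rfl⟩ := L.surj g
        rw [← map_mul, ← map_mul, Subgroup.mem_center_iff.1 hz g]
      rw [← map_mul, ← hk]
      exact congrArg θ (Subtype.ext h)
  have h4 : ¬ 4 ∣ Nat.card K := fun h => by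
    have := Fact.mk Nat.prime_two
    obtain ⟨T, hT⟩ := Sylow.exists_subgroup_card_pow_prime 2 (n := 2) (G := K) (by simpa using h)
    have hsub : (T : Set K) ⊆ {1, ⟨a, memK.2 ⟨Commute.refl a, (mem_fixD.1 ha).2⟩⟩} := fun y hy => by
      have e : y ^ 4 = 1 := by
        have := pow_card_eq_one' (x := (⟨y, hy⟩ : T))
        rw [hT] at this
        exact congrArg Subtype.val this
      rcases htwo y y.2 (by rw [← Subgroup.coe_pow, e, Subgroup.coe_one]) with h | h
      exacts [Or.inl (Subtype.ext h), Or.inr (Subtype.ext h)]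
    have h1 := Set.ncard_le_ncard hsub (Set.toFinite _)
    rw [← Nat.card_coe_set_eq, SetLike.coe_sort_coe, hT] at h1
    have h2 := Set.ncard_insert_le (1 : K) {⟨a, memK.2 ⟨Commute.refl a, (mem_fixD.1 ha).2⟩⟩}
    rw [Set.ncard_singleton] at h2
    norm_num at h1
    omega
  have h2 : 2 ∣ Nat.card K := by
    have h := Subgroup.card_dvd_of_le (Subgroup.zpowers_le.2 (memK.2 ⟨Commute.refl a, (mem_fixD.1 ha).2⟩) :
      Subgroup.zpowers a ≤ K)
    rwa [Nat.card_zpowers, S.cls.1.1 a ha.1] at h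
  have hpd : p ∣ Nat.card K := by
    have h := Subgroup.card_dvd_of_le (fun z hz => memK.2 ⟨(mem_fixD.1 ha).2 z hz, fun w hw => by
      obtain ⟨i, rfl⟩ := hgen w hw
      obtain ⟨j, rfl⟩ := hgen z hz
      exact Commute.pow_pow_self x i j⟩ : X ≤ K)
    rwa [hX] at h
  have hdvd : Nat.card K ∣ 18393661440 := by
    rw [← cent_card_of_mem S ha.1]
    exact Subgroup.card_dvd_of_le inf_le_left
  have cop : ∀ q : ℕ, q.Prime → (q = 3 ∨ q = 5 ∨ q = 7 ∨ q = 11) → q ≠ p → Nat.Coprime (Nat.card K) q :=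
    fun q hq h hne => (hq.coprime_iff_not_dvd.2 (hodd q hq h hne)).symm
  have c3 := (cop 3 (by norm_num) (by simp) (by omega)).pow_right 6
  have c5 := cop 5 (by norm_num) (by simp) (by omega)
  generalize Nat.card K = k at h4 h2 hpd hdvd cop c3 c5
  obtain ⟨m, hm, hmd⟩ : ∃ m, k = 2 * p * m ∧ m ∣ 32768 := by
    have hk : k ∣ 65536 * p := by
      refine (c3.mul_right c5).dvd_of_dvd_mul_right ?_
      rcases hp7 with rfl | rfl
      · exact (cop 11 (by norm_num) (by simp) (by norm_num)).dvd_of_dvd_mul_right (by simpa using hdvd)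
      · exact (cop 7 (by norm_num) (by simp) (by norm_num)).dvd_of_dvd_mul_right (by simpa using hdvd)
    have h2p : 2 * p ∣ k := Nat.Coprime.mul_dvd_of_dvd_of_dvd (by rcases hp7 with rfl | rfl <;> norm_num) h2 hpd
    obtain ⟨m, rfl⟩ := h2p
    exact ⟨m, rfl, (Nat.mul_dvd_mul_iff_left (by omega : 0 < 2 * p)).1 (by
      rw [show 2 * p * 32768 = 65536 * p by ring]; exact hk)⟩
  obtain ⟨i, -, rfl⟩ := (Nat.dvd_prime_pow Nat.prime_two).1 (show m ∣ 2 ^ 15 by simpa using hmd)
  rcases i with _ | i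
  · simpa using hm
  · exact absurd ⟨p * 2 ^ i, by rw [hm, pow_succ]; ring⟩ h4

end Cfsg.Agent.PrimeNorm
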