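/-
The normaliser of a subgroup of order 7 in a group of type M(22).

Main results (namespace `Cfsg.Agent.PrimeNorm`):
* `seven_count` : exactly three members centralise `X`, and `|N(X)| = 252`;
* `seven_structure` : `N(X)` is the direct product of a Frobenius group of order 42 and a group `S₃`.
-/
import Cfsg.Agent.Lib.FischerM22.PrimeNorm.Local
import Cfsg.Agent.Lib.ThreeTrans.SymmPresentation

set_option autoImplicit false

namespace Cfsg.Agent.PrimeNorm

open Cfsg.Agent.ThreeTrans Cfsg.Agent.ThreeTransSU Cfsg.Agent.FischerM22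

variable {G : Type*} [Group G] {D : Set G}

/-- Two non-commuting members centralising `X` are conjugate in the centraliser. -/
theorem fixD_conj (hD : Cfsg.IsThreeTranspositionSet D) {X : Subgroup G} {a b : G} (ha : a ∈ fixD D X)
    (hb : b ∈ fixD D X) (h : ¬ Commute a b) :
    a * b ∈ Subgroup.centralizer (X : Set G) ∧ a * b * a * (a * b)⁻¹ = b := by
  refine ⟨mul_mem ha.2 hb.2, ?_⟩
  rw [mul_inv_rev, inv_eq hD ha.1, inv_eq hD hb.1, show a * b * a = b * a * b from braid hD ha.1 hb.1 h,
    mul_assoc (b * a) b, mul_self_cancel hD hb.1, mul_assoc, mul_self hD ha.1, mul_one]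

theorem orbit_single [Finite G] (H : Subgroup G) (a : G) {O : Set G}
    (hO : ∀ y, y ∈ O ↔ ∃ h ∈ H, h * a * h⁻¹ = y) :
    Nat.card H = O.ncard * Nat.card ↥(H ⊓ Subgroup.centralizer {a}) := by
  have h := card_orbit_mul H a a
  have e : {q : G × G | ∃ g ∈ H, g * a * g⁻¹ = q.1 ∧ g * a * g⁻¹ = q.2} = (fun y : G => (y, y)) '' O := by
    ext ⟨u, w⟩
    constructor
    · rintro ⟨g, hg, rfl, rfl⟩
      exact ⟨_, (hO _).2 ⟨g, hg, rfl⟩, rfl⟩
    · rintro ⟨y, hy, e1⟩
      obtain ⟨rfl, rfl⟩ := Prod.ext_iff.1 e1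
      obtain ⟨g, hg, rfl⟩ := (hO y).1 hy
      exact ⟨g, hg, rfl, rfl⟩
  rwa [e, Set.ncard_image_of_injective _ fun x y h => congrArg Prod.fst h, inf_assoc, inf_idem] at h

theorem odd_fixD [Finite G] (S : Fi22Setup D) {X : Subgroup G}
    (hfar : ∀ a ∈ fixD D X, ∀ b ∈ fixD D X, a ≠ b → ¬ Commute a b) {d : G} (hd : d ∈ fixD D X) :
    (fixD D X).ncard % 2 = 1 := by
  have := Fact.mk Nat.prime_two
  have h2 : Nat.card (Subgroup.zpowers d) = 2 := by rw [Nat.card_zpowers, S.cls.1.1 d hd.1]
  have h := fix_modEq h2 (fixD D X) fun z hz y hy => conj_fixD (fun g e he => S.conj_mem g he)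
    (Subgroup.zpowers_le.2 (Subgroup.centralizer_le_normalizer _ hd.2) hz) hy
  have e : fixD (fixD D X) (Subgroup.zpowers d) = {d} := by
    refine Set.eq_singleton_iff_unique_mem.2 ⟨mem_fixD.2 ⟨hd, fun z hz => ?_⟩, fun y hy => ?_⟩
    · obtain ⟨i, rfl⟩ := hz
      exact (Commute.refl d).zpow_left i
    · by_contra hne
      exact hfar d hd y hy.1 (Ne.symm hne) ((mem_fixD.1 hy).2 d (Subgroup.mem_zpowers d))
  rw [e, Set.ncard_singleton] at h
  exact h

variable [Finite G]

theorem seven_count (S : Fi22Setup D) {X : Subgroup G} (hX : Nat.card X = 7) :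
    (fixD D X).ncard = 3 ∧ Nat.card ↥(Subgroup.normalizer (X : Set G)) = 252 ∧
      Nat.card ↥(Subgroup.centralizer (X : Set G)) = 42 := by
  have := Fact.mk (by norm_num : Nat.Prime 7)
  have hconj : ∀ g : G, ∀ d ∈ D, g * d * g⁻¹ ∈ D := fun g d hd => S.conj_mem g hd
  have h := fix_modEq hX D fun x _ y hy => S.conj_mem x hy
  rw [class_ncard S] at h
  obtain ⟨d, hd⟩ : (fixD D X).Nonempty := by
    refine Set.nonempty_of_ncard_ne_zero fun h0 => ?_
    rw [h0] at h
    exact absurd h (by decide)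
  have hfar : ∀ a ∈ fixD D X, ∀ b ∈ fixD D X, a ≠ b → ¬ Commute a b :=
    fun a ha b hb => fixD_far S hX (by norm_num) ha hb
  set C := Subgroup.centralizer (X : Set G)
  set N := Subgroup.normalizer (X : Set G)
  have hCN : C ≤ N := Subgroup.centralizer_le_normalizer _
  have htr : ∀ y ∈ fixD D X, ∃ g ∈ C, g * d * g⁻¹ = y := fun y hy => by
    by_cases e : d = y
    · exact ⟨1, one_mem _, by simp [e]⟩
    · exact ⟨_, fixD_conj S.cls.1 hd hy (hfar d hd y hy e)⟩
  have hC := orbit_single C d (O := fixD D X) fun y => ⟨htr y, fun ⟨g, hg, e⟩ => e ▸ conj_fixD hconj (hCN hg) hd⟩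
  have hN := orbit_single N d (O := fixD D X) fun y =>
    ⟨fun hy => let ⟨g, hg, e⟩ := htr y hy; ⟨g, hCN hg, e⟩, fun ⟨g, hg, e⟩ => e ▸ conj_fixD hconj hg hd⟩
  rw [inf_comm, cent_card S hX (Or.inl rfl) hd] at hC
  have hXd : X ≤ Subgroup.centralizer ({d} : Set G) := le_cent hd
  have hsq : ¬ 7 ^ 2 ∣ Nat.card ↥(Subgroup.centralizer ({d} : Set G)) := by
    rw [cent_card_of_mem S hd.1]; norm_num
  obtain ⟨k, hk, hk1⟩ := norm_count hXd hX hsq
  obtain ⟨e, he, he6⟩ := norm_cent hX (Subgroup.centralizer ({d} : Set G))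
  rw [cent_card S hX (Or.inl rfl) hd] at he
  rw [cent_card_of_mem S hd.1, he] at hk
  have he' : e = 6 := by
    have h6 : e ≤ 6 := Nat.le_of_dvd (by norm_num) he6
    have h1 : k % 7 = 1 := hk1
    interval_cases e <;> omega
  subst he'
  rw [inf_comm, he] at hN
  norm_num at hN
  obtain ⟨k', hk', hk1'⟩ := norm_count (H := ⊤) le_top hX (by rw [Subgroup.card_top, group_card S]; norm_num)
  rw [top_inf_eq, Subgroup.card_top, group_card S, hN] at hk'
  have hb := fix_bound (p := 7) hconj (fun a ha b hb => class_conj S.cls ha hb)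
    (fun a ha b hb hne hc a' ha' b' hb' hne' hc' => pair_conj S ha ⟨hb, hne.symm, hc⟩ ha' ⟨hb', hne'.symm, hc'⟩)
    (fun a ha b hb hn a' ha' b' hb' hn' => by
      obtain ⟨g, hg⟩ := class_conj S.cls ha ha'
      have hn1 : ¬ Commute a' (g * b * g⁻¹) := fun hc => hn (by
        refine Commute.of_map (f := (MulAut.conj g).toMonoidHom) (MulAut.conj g).injective ?_
        show Commute (g * a * g⁻¹) (g * b * g⁻¹)
        rwa [hg])
      obtain ⟨k, hka, hkb⟩ := centralizer_transitive S ha' (S.conj_mem g hb) hb' hn1 hn'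
      refine ⟨k * g, ?_, ?_⟩
      · rw [show k * g * a * (k * g)⁻¹ = k * (g * a * g⁻¹) * k⁻¹ by group, hg, hka.eq, mul_inv_cancel_right]
      · rw [show k * g * b * (k * g)⁻¹ = k * (g * b * g⁻¹) * k⁻¹ by group, hkb])
    ⟨d, hd.1⟩ hX
  rw [hN] at hb
  push_cast at hb
  have hodd := odd_fixD S hfar hd
  have h1' : k' % 7 = 1 := hk1'
  generalize (fixD D X).ncard = s at hC hN hk' hb hodd h
  have hs : s ≤ 29 := by
    by_contra hlt
    have : (30 : ℤ) ≤ s := by exact_mod_cast (by omega : 30 ≤ s)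
    nlinarith
  have hs3 : s = 3 := by interval_cases s <;> omega
  subst hs3
  exact ⟨rfl, hN, hC⟩

theorem seven_structure (S : Fi22Setup D) {X : Subgroup G} (hX : Nat.card X = 7) :
    ∃ F : Subgroup G, Nat.card ↥F = 42 ∧ X ≤ F ∧ F ⊓ Subgroup.centralizer (X : Set G) = X ∧
      F ⊓ Subgroup.closure (fixD D X) = ⊥ ∧
      (∀ x ∈ F, ∀ y ∈ Subgroup.closure (fixD D X), x * y = y * x) ∧
      F ⊔ Subgroup.closure (fixD D X) = Subgroup.normalizer (X : Set G) ∧
      Nonempty (↥(Subgroup.closure (fixD D X)) ≃* Equiv.Perm (Fin 3)) := by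
  have := Fact.mk (by norm_num : Nat.Prime 7)
  obtain ⟨hs, hN, hC⟩ := seven_count S hX
  have hD := S.cls.1
  have hfar : ∀ a ∈ fixD D X, ∀ b ∈ fixD D X, a ≠ b → ¬ Commute a b :=
    fun a ha b hb => fixD_far S hX (by norm_num) ha hb
  obtain ⟨a, b, c, hab, hac, hbc, hset⟩ := Set.ncard_eq_three.1 hs
  have ha : a ∈ fixD D X := hset ▸ by simp
  have hb : b ∈ fixD D X := hset ▸ by simp
  set L := Subgroup.closure (fixD D X) with hL
  set C := Subgroup.centralizer (X : Set G)
  set N := Subgroup.normalizer (X : Set G)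
  have hCN : C ≤ N := Subgroup.centralizer_le_normalizer _
  have hLC : L ≤ C := (Subgroup.closure_le _).2 fun y hy => hy.2
  have hmem : ∀ {y}, y ∈ fixD D X → y ∈ L := fun h => Subgroup.subset_closure h
  have haba : a * b * a = c := by
    have h1 : a * b * a ∈ fixD D X := by
      have := conj_fixD (fun g d hd => S.conj_mem g hd) (hCN (hLC (hmem ha))) hb
      rwa [inv_eq hD ha.1] at this
    rw [hset] at h1
    simp only [Set.mem_insert_iff, Set.mem_singleton_iff] at h1
    rcases h1 with h1 | h1 | h1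
    · exact absurd h1 (conj_ne_left hD ha.1 (hfar a ha b hb hab))
    · exact absurd (commute_of_conj_eq hD ha.1 h1) (hfar a ha b hb hab)
    · exact h1
  -- the symmetric group
  let t : ℕ → G := fun i => if i = 0 then a else b
  have hbr : BraidA t 2 := ⟨fun i hi => by
      interval_cases i
      exacts [mul_self hD ha.1, mul_self hD hb.1],
    fun i hi => by
      obtain rfl : i = 0 := by omega
      exact braid hD ha.1 hb.1 (hfar a ha b hb hab),
    fun i j h1 h2 => by omega⟩
  obtain ⟨φ, hφ⟩ := exists_hom_perm hbr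
  have hinj : Function.Injective φ := injective_perm_three fun e => hab (by
    have e1 : φ (Equiv.swap 0 1) = a := hφ 0
    have e2 : φ (Equiv.swap 1 2) = b := hφ 1
    rw [map_mul, e1, e2, mul_eq_one_iff_eq_inv, inv_eq hD hb.1] at e
    exact e)
  have himg : t '' Set.Iio 2 = {a, b} := by
    ext y
    simp only [Set.mem_image, Set.mem_Iio, Set.mem_insert_iff, Set.mem_singleton_iff]
    constructor
    · rintro ⟨i, hi, rfl⟩
      interval_cases i
      exacts [Or.inl rfl, Or.inr rfl]
    · rintro (rfl | rfl)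
      exacts [⟨0, by norm_num, rfl⟩, ⟨1, by norm_num, rfl⟩]
  have hrange : φ.range = L := by
    rw [range_hom_perm hφ, himg]
    refine le_antisymm (Subgroup.closure_mono (Set.pair_subset ha hb)) ((Subgroup.closure_le _).2 ?_)
    rw [hset]
    rintro y (rfl | rfl | rfl)
    · exact Subgroup.subset_closure (by simp)
    · exact Subgroup.subset_closure (by simp)
    · rw [← haba]
      exact mul_mem (mul_mem (Subgroup.subset_closure (by simp)) (Subgroup.subset_closure (by simp)))
        (Subgroup.subset_closure (by simp))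
  let e : ↥L ≃* Equiv.Perm (Fin 3) :=
    (MulEquiv.subgroupCongr hrange.symm).trans (MonoidHom.ofInjective hinj).symm
  have hLc : Nat.card L = 6 := by rw [Nat.card_congr e.toEquiv, Nat.card_perm, Nat.card_fin]; rfl
  -- the stabiliser of two members
  have hpairs : ∀ H : Subgroup G, L ≤ H → H ≤ N →
      Nat.card H = 6 * Nat.card ↥(H ⊓ Subgroup.centralizer {a} ⊓ Subgroup.centralizer {b}) := by
    intro H hLH hHN
    rw [card_orbit_mul H a b]
    congr 1
    have hT : ({(a, b), (b, a), (a, c), (c, a), (b, c), (c, b)} : Set (G × G)).ncard = 6 := by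
      rw [Set.ncard_insert_of_notMem, Set.ncard_insert_of_notMem, Set.ncard_insert_of_notMem,
        Set.ncard_insert_of_notMem, Set.ncard_pair] <;>
        simp [hab, hac, hbc, hab.symm, hac.symm, hbc.symm]
    rw [← hT]
    congr 1
    refine Set.Subset.antisymm ?_ ?_
    · rintro ⟨u, w⟩ ⟨g, hg, rfl, rfl⟩
      have hu := conj_fixD (fun g d hd => S.conj_mem g hd) (hHN hg) ha
      have hw := conj_fixD (fun g d hd => S.conj_mem g hd) (hHN hg) hb
      have hne : g * a * g⁻¹ ≠ g * b * g⁻¹ := fun e => hab ((MulAut.conj g).injective e)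
      rw [hset] at hu hw
      simp only [Set.mem_insert_iff, Set.mem_singleton_iff] at hu hw ⊢
      rcases hu with hu | hu | hu <;> rcases hw with hw | hw | hw <;>
        first | exact absurd (hu.trans hw.symm) hne | simp [hu, hw]
    · have key : ∀ σ : Equiv.Perm (Fin 3), ∀ u w, φ (σ * Equiv.swap 0 1 * σ⁻¹) = u →
          φ (σ * Equiv.swap 1 2 * σ⁻¹) = w →
          (u, w) ∈ {q : G × G | ∃ h ∈ H, h * a * h⁻¹ = q.1 ∧ h * b * h⁻¹ = q.2} := by
        intro σ u w hu hw
        have e1 : φ (Equiv.swap 0 1) = a := hφ 0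
        have e2 : φ (Equiv.swap 1 2) = b := hφ 1
        rw [map_mul, map_mul, map_inv, e1] at hu
        rw [map_mul, map_mul, map_inv, e2] at hw
        exact ⟨φ σ, hLH (hrange ▸ ⟨σ, rfl⟩), hu, hw⟩
      have e1 : φ (Equiv.swap 0 1) = a := hφ 0
      have e2 : φ (Equiv.swap 1 2) = b := hφ 1
      have e3 : φ (Equiv.swap 0 2) = c := by
        rw [← haba, ← e1, ← e2, ← map_mul, ← map_mul]
        exact congrArg φ (by decide)
      rintro q (rfl | rfl | rfl | rfl | rfl | rfl)
      · exact key 1 a b (by simp [e1]) (by simp [e2])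
      · exact key (Equiv.swap 0 2) b a (by rw [← e2]; exact congrArg φ (by decide)) (by rw [← e1]; exact congrArg φ (by decide))
      · exact key (Equiv.swap 0 1) a c (by rw [← e1]; exact congrArg φ (by decide)) (by rw [← e3]; exact congrArg φ (by decide))
      · exact key (Equiv.swap 1 2 * Equiv.swap 0 1 * 1) c a (by rw [← e3]; exact congrArg φ (by decide)) (by rw [← e1]; exact congrArg φ (by decide))
      · exact key (Equiv.swap 0 1 * Equiv.swap 1 2) b c (by rw [← e2]; exact congrArg φ (by decide)) (by rw [← e3]; exact congrArg φ (by decide))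
      · exact key (Equiv.swap 1 2) c b (by rw [← e3]; exact congrArg φ (by decide)) (by rw [← e2]; exact congrArg φ (by decide))
  set F := N ⊓ Subgroup.centralizer {a} ⊓ Subgroup.centralizer {b} with hF
  have hFc : Nat.card F = 42 := by
    have := hpairs N (hLC.trans hCN) le_rfl
    rw [hN, ← hF] at this
    omega
  have hcomm : ∀ x ∈ F, ∀ y ∈ L, x * y = y * x := by
    intro x hx y hy
    rw [hF, Subgroup.mem_inf, Subgroup.mem_inf, Subgroup.mem_centralizer_singleton_iff,
      Subgroup.mem_centralizer_singleton_iff] at hx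
    rw [← hrange, range_hom_perm hφ, himg] at hy
    refine ((Subgroup.closure_le (Subgroup.centralizer {x})).2 ?_ hy |> Subgroup.mem_centralizer_singleton_iff.1).symm
    rintro z (rfl | rfl)
    exacts [Subgroup.mem_centralizer_singleton_iff.2 hx.1.2.symm, Subgroup.mem_centralizer_singleton_iff.2 hx.2.symm]
  have hbot : F ⊓ L = ⊥ := inf_bot_of_center e (by decide) hcomm
  have hXF : X ≤ F := le_inf (le_inf Subgroup.le_normalizer (le_cent ha)) (le_cent hb)
  refine ⟨F, hFc, hXF, ?_, hbot, hcomm,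
    direct_split (inf_le_left.trans inf_le_left) (hLC.trans hCN) hbot hcomm (by rw [hFc, hLc, hN]), ⟨e⟩⟩
  have h7 := hpairs C hLC hCN
  have hXC : X ≤ C := fun z hz => Subgroup.mem_centralizer_iff.2 fun w hw => by
    have := isCyclic_of_prime_card hX
    exact congrArg Subtype.val ((IsMulCommutative.is_comm (M := X)).comm ⟨w, hw⟩ ⟨z, hz⟩)
  refine (Subgroup.eq_of_le_of_card_ge (le_inf hXF hXC) ?_).symm
  have heq : F ⊓ C = C ⊓ Subgroup.centralizer {a} ⊓ Subgroup.centralizer {b} := by
    refine le_antisymm (le_inf (le_inf inf_le_right ?_) ?_) (le_inf (le_inf (le_inf ?_ ?_) ?_) ?_)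
    exacts [inf_le_left.trans (inf_le_left.trans inf_le_right), inf_le_left.trans inf_le_right,
      inf_le_left.trans (inf_le_left.trans hCN), inf_le_left.trans inf_le_right, inf_le_right,
      inf_le_left.trans inf_le_left]
  rw [hC] at h7
  rw [heq, hX]
  omega

end Cfsg.Agent.PrimeNorm
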