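/-
Ten members in the shape of the Petersen graph.

Main results (namespace `Cfsg.Agent.PrimeNorm`):
* `injective_perm_large` : homomorphisms out of `Sₙ`, `n ≥ 5`;
* `Petersen D T` : in `T` every member has three commuting others, no two of which commute, and two
  non-commuting members have exactly one common commuting partner;
* `Petersen.sym_five` : then `T` has ten members and generates `S₅`;
* `petersen_split` : a group permuting `T` and containing `⟨T⟩` is `⟨T⟩` times its centraliser there.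
-/
import Cfsg.Agent.Lib.FischerM22.PrimeNorm.Seven
import Mathlib.GroupTheory.SpecificGroups.Alternating.Simple

set_option autoImplicit false

namespace Cfsg.Agent.PrimeNorm

open Cfsg.Agent.ThreeTrans Cfsg.Agent.ThreeTransSU

variable {G : Type*} [Group G]

theorem injective_perm_large {n : ℕ} (h5 : 5 ≤ n) {φ : Equiv.Perm (Fin n) →* G}
    (h : φ (Equiv.swap ⟨0, by omega⟩ ⟨1, by omega⟩ * Equiv.swap ⟨1, by omega⟩ ⟨2, by omega⟩) ≠ 1) :
    Function.Injective φ := by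
  refine (MonoidHom.ker_eq_bot_iff φ).1 ?_
  by_contra hne
  have hle := Equiv.Perm.alternatingGroup_le_of_normal (α := Fin n) (by rw [Nat.card_fin]; exact h5)
    (N := φ.ker) ((Subgroup.nontrivial_iff_ne_bot _).2 hne)
  refine h (hle ?_)
  rw [Equiv.Perm.mem_alternatingGroup, map_mul, Equiv.Perm.sign_swap (by simp [Fin.ext_iff]),
    Equiv.Perm.sign_swap (by simp [Fin.ext_iff])]
  rfl

/-- A set of pairs fibred over a set. -/
theorem fibre_le {α β : Type*} [Finite α] [Finite β] {S : Set (α × β)} {A : Set α} {k m : ℕ}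
    (hA : ∀ q ∈ S, q.1 ∈ A) (hk : A.ncard ≤ k) (hm : ∀ a ∈ A, {b | (a, b) ∈ S}.ncard ≤ m) :
    S.ncard ≤ k * m := by
  classical
  have := Fintype.ofFinite α
  have := Fintype.ofFinite β
  rw [Set.ncard_eq_toFinset_card']
  rw [Set.ncard_eq_toFinset_card'] at hk
  refine (Finset.card_le_mul_card_image_of_maps_to (f := Prod.fst) (t := A.toFinset)
    (fun q hq => Set.mem_toFinset.2 (hA q (Set.mem_toFinset.1 hq))) m fun a ha => ?_).trans
    (by rw [mul_comm]; exact Nat.mul_le_mul_right m hk)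
  refine le_trans ?_ (hm a (Set.mem_toFinset.1 ha))
  rw [← Set.ncard_coe_finset]
  refine Set.ncard_le_ncard_of_injOn Prod.snd (fun q hq => ?_) (fun q hq r hr e => ?_)
  · obtain ⟨h1, h2⟩ := Finset.mem_filter.1 hq
    show (a, q.2) ∈ S
    rw [← h2]; exact Set.mem_toFinset.1 h1
  · exact Prod.ext ((Finset.mem_filter.1 hq).2.trans (Finset.mem_filter.1 hr).2.symm) e

theorem perm_five_four : ∀ z : Equiv.Perm (Fin 5), z * Equiv.swap 0 1 = Equiv.swap 0 1 * z →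
    z * Equiv.swap 1 2 = Equiv.swap 1 2 * z → z * Equiv.swap 2 3 = Equiv.swap 2 3 * z →
    z * Equiv.swap 3 4 = Equiv.swap 3 4 * z → z = 1 := by decide +kernel

theorem perm_five_center : ∀ z : Equiv.Perm (Fin 5), (∀ t, z * t = t * z) → z = 1 :=
  fun z hz => perm_five_four z (hz _) (hz _) (hz _) (hz _)

/-- The shape of the Petersen graph. -/
structure Petersen (D T : Set G) : Prop where
  sub : T ⊆ D
  ne : T.Nonempty
  deg : ∀ a ∈ T, (T ∩ adj D a).ncard = 3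
  tri : ∀ a ∈ T, ∀ b ∈ T ∩ adj D a, ∀ c ∈ T ∩ adj D a, b ≠ c → ¬ Commute b c
  one : ∀ a ∈ T, ∀ e ∈ T, ¬ Commute a e → (T ∩ adj D a ∩ adj D e).ncard = 1
  conj : ∀ a ∈ T, ∀ b ∈ T, a * b * a⁻¹ ∈ T

variable [Finite G] {D T : Set G}

theorem Petersen.ncard_le (P : Petersen D T) : T.ncard ≤ 10 := by
  classical
  obtain ⟨d, hd⟩ := P.ne
  have hsub : T ⊆ insert d ((T ∩ adj D d) ∪ Prod.snd ''
      {q : G × G | q.1 ∈ T ∩ adj D d ∧ q.2 ∈ (T ∩ adj D q.1) \ {d}}) := by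
    intro e he
    by_cases h1 : e = d
    · exact Or.inl h1
    by_cases h2 : Commute d e
    · exact Or.inr (Or.inl ⟨he, P.sub he, h1, h2⟩)
    obtain ⟨a, ⟨haT, had⟩, hae⟩ := Set.nonempty_of_ncard_ne_zero (by rw [P.one d hd e he h2]; norm_num :
      (T ∩ adj D d ∩ adj D e).ncard ≠ 0)
    exact Or.inr (Or.inr ⟨(a, e), ⟨⟨haT, had⟩, ⟨he, P.sub he, hae.2.1.symm, hae.2.2.symm⟩, h1⟩, rfl⟩)
  refine (Set.ncard_le_ncard hsub (Set.toFinite _)).trans ((Set.ncard_insert_le _ _).trans ?_)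
  refine Nat.succ_le_succ ((Set.ncard_union_le _ _).trans ?_)
  rw [P.deg d hd]
  have h := fibre_le (S := {q : G × G | q.1 ∈ T ∩ adj D d ∧ q.2 ∈ (T ∩ adj D q.1) \ {d}})
    (A := T ∩ adj D d) (m := 2) (fun q hq => hq.1) (P.deg d hd).le fun a ha => by
      refine (Set.ncard_le_ncard (fun b hb => hb.2) (Set.toFinite _)).trans ?_
      rw [Set.ncard_sdiff_singleton_of_mem (show d ∈ T ∩ adj D a from ⟨hd, P.sub hd, ha.2.2.1.symm, ha.2.2.2.symm⟩),
        P.deg a ha.1]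
  exact (Nat.add_le_add_left ((Set.ncard_image_le (Set.toFinite _)).trans h) 3).trans (by norm_num)

/-- Quadruples generating `⟨T⟩`. -/
def frames (D T : Set G) : Set (G × G × G × G) :=
  {q | q.1 ∈ T ∧ q.2.2.1 ∈ T ∩ adj D q.1 ∧ q.2.2.2 ∈ (T ∩ adj D q.1) \ {q.2.2.1} ∧
    q.2.1 ∈ (T ∩ adj D q.2.2.2) \ {q.1}}

theorem Petersen.frames_le (P : Petersen D T) : (frames D T).ncard ≤ 120 := by
  classical
  let f : G × G × G × G → ((G × G) × G) × G := fun q => (((q.1, q.2.2.1), q.2.2.2), q.2.1)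
  have hf : Function.Injective f := fun a b e => by
    simp only [f, Prod.mk.injEq] at e
    obtain ⟨⟨⟨e1, e2⟩, e3⟩, e4⟩ := e
    exact Prod.ext e1 (Prod.ext e4 (Prod.ext e2 e3))
  rw [← Set.ncard_image_of_injective _ hf]
  refine fibre_le (A := {q : (G × G) × G | q.1.1 ∈ T ∧ q.1.2 ∈ T ∩ adj D q.1.1 ∧ q.2 ∈ (T ∩ adj D q.1.1) \ {q.1.2}})
    (k := 60) (m := 2) ?_ ?_ ?_
  · rintro _ ⟨q, hq, rfl⟩
    exact ⟨hq.1, hq.2.1, hq.2.2.1⟩
  · refine fibre_le (A := {q : G × G | q.1 ∈ T ∧ q.2 ∈ T ∩ adj D q.1}) (k := 30) (m := 2)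
      (fun q hq => ⟨hq.1, hq.2.1⟩) ?_ fun q hq => ?_
    · exact fibre_le (A := T) (k := 10) (m := 3) (fun q hq => hq.1) P.ncard_le fun a ha =>
        (Set.ncard_le_ncard (fun b hb => hb.2) (Set.toFinite _)).trans (P.deg a ha).le
    · refine (Set.ncard_le_ncard (fun b hb => hb.2.2) (Set.toFinite _)).trans ?_
      rw [Set.ncard_sdiff_singleton_of_mem hq.2, P.deg _ hq.1]
  · rintro ⟨⟨a, b⟩, c⟩ ⟨ha, -, hc⟩
    have hsub : {y | (((a, b), c), y) ∈ f '' frames D T} ⊆ (T ∩ adj D c) \ {a} := by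
      rintro y ⟨q, hq, e⟩
      simp only [f, Prod.mk.injEq] at e
      obtain ⟨⟨⟨rfl, rfl⟩, rfl⟩, rfl⟩ := e
      exact hq.2.2.2
    refine (Set.ncard_le_ncard hsub (Set.toFinite _)).trans ?_
    rw [Set.ncard_sdiff_singleton_of_mem (show a ∈ T ∩ adj D c from
      ⟨ha, P.sub ha, hc.1.2.2.1.symm, hc.1.2.2.2.symm⟩), P.deg _ hc.1.1]

variable (hD : Cfsg.IsThreeTranspositionSet D)
include hD

theorem Petersen.conj_mem_self (P : Petersen D T) : ∀ g ∈ Subgroup.closure T, ∀ b ∈ T, g * b * g⁻¹ ∈ T := by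
  intro g hg
  induction hg using Subgroup.closure_induction'' with
  | one => intro b hb; simpa using hb
  | mem a ha => exact P.conj a ha
  | inv_mem a ha => intro b hb; rw [inv_eq hD (P.sub ha)]; exact P.conj a ha b hb
  | mul x y _ _ hx hy =>
    intro b hb
    rw [show x * y * b * (x * y)⁻¹ = x * (y * b * y⁻¹) * x⁻¹ by group]
    exact hx _ (hy b hb)

/-- `T` has ten members and generates the symmetric group on five letters; frames are regular. -/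
theorem Petersen.sym_five (P : Petersen D T) :
    T.ncard = 10 ∧ Nonempty (↥(Subgroup.closure T) ≃* Equiv.Perm (Fin 5)) ∧
      (∀ q ∈ frames D T, ∀ q' ∈ frames D T, ∃ l ∈ Subgroup.closure T,
        l * q.1 * l⁻¹ = q'.1 ∧ l * q.2.1 * l⁻¹ = q'.2.1 ∧ l * q.2.2.1 * l⁻¹ = q'.2.2.1 ∧
          l * q.2.2.2 * l⁻¹ = q'.2.2.2) ∧
      ∀ q ∈ frames D T, ∀ g : G, Commute g q.1 → Commute g q.2.1 → Commute g q.2.2.1 → Commute g q.2.2.2 →
        ∀ b ∈ T, Commute g b := by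
  classical
  obtain ⟨d, hd⟩ := P.ne
  obtain ⟨t₂, t₃, x, n23, -, -, hN⟩ := Set.ncard_eq_three.1 (P.deg d hd)
  have h2 : t₂ ∈ T ∩ adj D d := hN ▸ by simp
  have h3 : t₃ ∈ T ∩ adj D d := hN ▸ by simp
  have hd3 : d ∈ T ∩ adj D t₃ := ⟨hd, P.sub hd, h3.2.2.1.symm, h3.2.2.2.symm⟩
  obtain ⟨t₁, h1, h1d⟩ : ∃ t₁ ∈ T ∩ adj D t₃, t₁ ≠ d :=
    Set.exists_ne_of_one_lt_ncard (by rw [P.deg t₃ h3.1]; norm_num) d
  have m01 : ¬ Commute d t₁ := P.tri t₃ h3.1 d hd3 t₁ h1 h1d.symm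
  have m23 : ¬ Commute t₂ t₃ := P.tri d hd t₂ h2 t₃ h3 n23
  have m12 : ¬ Commute t₁ t₂ := by
    intro hc
    have hne : t₂ ≠ t₁ := fun e => m01 (e ▸ h2.2.2.2)
    have hm2 : t₂ ∈ T ∩ adj D d ∩ adj D t₁ := ⟨h2, h2.2.1, hne, hc⟩
    have hm3 : t₃ ∈ T ∩ adj D d ∩ adj D t₁ := ⟨h3, h3.2.1, h1.2.2.1.symm, h1.2.2.2.symm⟩
    obtain ⟨z, hz⟩ := Set.ncard_eq_one.1 (P.one d hd t₁ h1.1 m01)
    rw [hz, Set.mem_singleton_iff] at hm2 hm3
    exact n23 (hm2.trans hm3.symm)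
  let t : ℕ → G := fun i => if i = 0 then d else if i = 1 then t₁ else if i = 2 then t₂ else t₃
  have hbr : BraidA t 4 := ⟨fun i hi => by
      interval_cases i
      exacts [mul_self hD (P.sub hd), mul_self hD h1.2.1, mul_self hD h2.2.1, mul_self hD h3.2.1],
    fun i hi => by
      obtain rfl | rfl | rfl : i = 0 ∨ i = 1 ∨ i = 2 := by omega
      exacts [braid hD (P.sub hd) h1.2.1 m01, braid hD h1.2.1 h2.2.1 m12, braid hD h2.2.1 h3.2.1 m23],
    fun i j hij hj => by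
      obtain ⟨rfl, rfl⟩ | ⟨rfl, rfl⟩ | ⟨rfl, rfl⟩ : (i = 0 ∧ j = 2) ∨ (i = 0 ∧ j = 3) ∨ (i = 1 ∧ j = 3) := by omega
      exacts [h2.2.2.2, h3.2.2.2, h1.2.2.2.symm]⟩
  obtain ⟨φ, hφ⟩ := exists_hom_perm hbr
  have e0 : φ (Equiv.swap 0 1) = d := hφ 0
  have e1 : φ (Equiv.swap 1 2) = t₁ := hφ 1
  have e2 : φ (Equiv.swap 2 3) = t₂ := hφ 2
  have e3 : φ (Equiv.swap 3 4) = t₃ := hφ 3
  have hinj : Function.Injective φ := injective_perm_large le_rfl fun e => h1d (by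
    have e' : φ (Equiv.swap (0 : Fin 5) 1 * Equiv.swap 1 2) = 1 := e
    rw [map_mul, e0, e1, mul_eq_one_iff_eq_inv, inv_eq hD h1.2.1] at e'
    exact e'.symm)
  have hle : φ.range ≤ Subgroup.closure T := by
    rw [range_hom_perm hφ, Subgroup.closure_le]
    rintro _ ⟨i, hi, rfl⟩
    rw [Set.mem_Iio] at hi
    interval_cases i <;> exact Subgroup.subset_closure (by first | exact hd | exact h1.1 | exact h2.1 | exact h3.1)
  -- the transpositions
  have hT : T = φ '' ↑((Finset.univ.filter fun q : Fin 5 × Fin 5 => q.1 < q.2).image fun q => Equiv.swap q.1 q.2) := by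
    refine (Set.eq_of_subset_of_ncard_le ?_ ?_ (Set.toFinite _)).symm
    · rintro _ ⟨σ, hσ, rfl⟩
      simp only [Finset.coe_image, Set.mem_image, Finset.mem_coe, Finset.mem_filter] at hσ
      obtain ⟨⟨i, j⟩, ⟨-, hij⟩, rfl⟩ := hσ
      have key : ∀ i j : Fin 5, i < j → ∃ ρ : Equiv.Perm (Fin 5), ρ * Equiv.swap 0 1 * ρ⁻¹ = Equiv.swap i j := by
        intro i j h
        obtain ⟨ρ, hρ⟩ := Equiv.Perm.isConj_swap (show (0 : Fin 5) ≠ 1 by decide) h.ne |> isConj_iff.1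
        exact ⟨ρ, hρ⟩
      obtain ⟨ρ, hρ⟩ := key i j hij
      rw [← hρ, map_mul, map_mul, map_inv, e0]
      exact P.conj_mem_self hD _ (hle ⟨ρ, rfl⟩) d hd
    · rw [Set.ncard_image_of_injective _ hinj, Set.ncard_coe_finset]
      exact P.ncard_le.trans (by decide)
  have h10 : T.ncard = 10 := by
    rw [hT, Set.ncard_image_of_injective _ hinj, Set.ncard_coe_finset]
    decide
  have hrange : φ.range = Subgroup.closure T :=
    le_antisymm hle ((Subgroup.closure_le _).2 (hT ▸ Set.image_subset_range _ _))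
  refine ⟨h10, ⟨(MulEquiv.subgroupCongr hrange.symm).trans (MonoidHom.ofInjective hinj).symm⟩, ?_⟩
  let fr : Equiv.Perm (Fin 5) → G × G × G × G := fun σ =>
    (φ σ * d * (φ σ)⁻¹, φ σ * t₁ * (φ σ)⁻¹, φ σ * t₂ * (φ σ)⁻¹, φ σ * t₃ * (φ σ)⁻¹)
  have hmem : ∀ σ, fr σ ∈ frames D T := by
    intro σ
    have hc := P.conj_mem_self hD _ (hle ⟨σ, rfl⟩)
    have hadj : ∀ {a b}, a ∈ T → b ∈ T ∩ adj D a → φ σ * b * (φ σ)⁻¹ ∈ T ∩ adj D (φ σ * a * (φ σ)⁻¹) :=
      fun {a b} ha hb => ⟨hc b hb.1, P.sub (hc b hb.1), fun e => hb.2.2.1 ((MulAut.conj (φ σ)).injective e),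
        hb.2.2.2.map (MulAut.conj (φ σ)).toMonoidHom⟩
    exact ⟨hc d hd, hadj hd h2, ⟨hadj hd h3, fun e => n23.symm ((MulAut.conj (φ σ)).injective e)⟩,
      hadj h3.1 h1, fun e => h1d ((MulAut.conj (φ σ)).injective e)⟩
  have hfr : Function.Injective fr := by
    intro σ τ e
    have hc : ∀ s : G, φ σ * s * (φ σ)⁻¹ = φ τ * s * (φ τ)⁻¹ → ∀ π : Equiv.Perm (Fin 5), φ π = s →
        Commute (τ⁻¹ * σ) π := fun s h π hπ => by
      refine Commute.of_map hinj ?_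
      rw [hπ, map_mul, map_inv]
      show (φ τ)⁻¹ * φ σ * s = s * ((φ τ)⁻¹ * φ σ)
      calc (φ τ)⁻¹ * φ σ * s = (φ τ)⁻¹ * (φ σ * s * (φ σ)⁻¹) * φ σ := by group
        _ = _ := by rw [h]; group
    simp only [fr, Prod.mk.injEq] at e
    exact (inv_mul_eq_one.1 (perm_five_four _ (hc d e.1 _ e0) (hc t₁ e.2.1 _ e1) (hc t₂ e.2.2.1 _ e2) (hc t₃ e.2.2.2 _ e3))).symm
  have hall : Set.range fr = frames D T := by
    refine Set.eq_of_subset_of_ncard_le (by rintro _ ⟨σ, rfl⟩; exact hmem σ) ?_ (Set.toFinite _)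
    rw [← Set.image_univ, Set.ncard_image_of_injective _ hfr, Set.ncard_univ, Nat.card_perm, Nat.card_fin]
    exact P.frames_le.trans (by decide)
  refine ⟨fun q hq q' hq' => ?_, fun q hq g g0 g1 g2 g3 b hb => ?_⟩
  · obtain ⟨σ, rfl⟩ := hall.ge hq
    obtain ⟨τ, rfl⟩ := hall.ge hq'
    refine ⟨φ τ * (φ σ)⁻¹, hle (mul_mem ⟨τ, rfl⟩ (inv_mem ⟨σ, rfl⟩)), ?_, ?_, ?_, ?_⟩ <;>
      simp [fr, mul_assoc]
  · obtain ⟨σ, rfl⟩ := hall.ge hq
    have back : ∀ {s}, Commute g (φ σ * s * (φ σ)⁻¹) → Commute ((φ σ)⁻¹ * g * φ σ) s := fun {s} h => by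
      have := h.map (MulAut.conj (φ σ)⁻¹).toMonoidHom
      simpa [mul_assoc] using this
    have hall' : ∀ s ∈ φ.range, Commute ((φ σ)⁻¹ * g * φ σ) s := by
      intro s hs
      rw [range_hom_perm hφ] at hs
      refine (Subgroup.mem_centralizer_singleton_iff.1
        ((Subgroup.closure_le (Subgroup.centralizer {(φ σ)⁻¹ * g * φ σ})).2 ?_ hs)).symm
      rintro _ ⟨i, hi, rfl⟩
      rw [Set.mem_Iio] at hi
      refine Subgroup.mem_centralizer_singleton_iff.2 (Commute.symm ?_)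
      interval_cases i
      exacts [back g0, back g1, back g2, back g3]
    have h := (hall' _ (mul_mem (mul_mem (inv_mem ⟨σ, rfl⟩) (hrange.ge (Subgroup.subset_closure hb)))
      (show φ σ ∈ φ.range from ⟨σ, rfl⟩))).map (MulAut.conj (φ σ)).toMonoidHom
    simpa [mul_assoc] using h

/-- A group permuting `T` and containing `⟨T⟩` is `⟨T⟩` times the centraliser of `T`. -/
theorem petersen_split (P : Petersen D T) {H : Subgroup G} (hLH : Subgroup.closure T ≤ H)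
    (hH : ∀ g ∈ H, ∀ b ∈ T, g * b * g⁻¹ ∈ T) :
    H ⊓ Subgroup.centralizer T ⊓ Subgroup.closure T = ⊥ ∧
      (∀ x ∈ H ⊓ Subgroup.centralizer T, ∀ y ∈ Subgroup.closure T, x * y = y * x) ∧
      (H ⊓ Subgroup.centralizer T) ⊔ Subgroup.closure T = H ∧
      Nat.card H = 120 * Nat.card ↥(H ⊓ Subgroup.centralizer T) := by
  obtain ⟨-, ⟨e⟩, hreg, hgen⟩ := P.sym_five hD
  have hcomm : ∀ x ∈ H ⊓ Subgroup.centralizer T, ∀ y ∈ Subgroup.closure T, x * y = y * x := by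
    intro x hx y hy
    have hxT : ∀ b ∈ T, Commute b x := fun b hb => Subgroup.mem_centralizer_iff.1 hx.2 b hb
    exact (Subgroup.mem_centralizer_singleton_iff.1
      ((Subgroup.closure_le (Subgroup.centralizer {x})).2
        (fun b hb => Subgroup.mem_centralizer_singleton_iff.2 (hxT b hb)) hy)).symm
  have hbot := inf_bot_of_center e perm_five_center hcomm
  obtain ⟨d, hd⟩ := P.ne
  obtain ⟨t₂, h2⟩ := Set.nonempty_of_ncard_ne_zero (by rw [P.deg d hd]; norm_num : (T ∩ adj D d).ncard ≠ 0)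
  obtain ⟨t₃, h3, n3⟩ := Set.exists_ne_of_one_lt_ncard (by rw [P.deg d hd]; norm_num : 1 < (T ∩ adj D d).ncard) t₂
  obtain ⟨t₁, h1, n1⟩ := Set.exists_ne_of_one_lt_ncard (by rw [P.deg t₃ h3.1]; norm_num : 1 < (T ∩ adj D t₃).ncard) d
  have hq : ((d, t₁, t₂, t₃) : G × G × G × G) ∈ frames D T := ⟨hd, h2, ⟨h3, n3⟩, h1, n1⟩
  have hsup : (H ⊓ Subgroup.centralizer T) ⊔ Subgroup.closure T = H := by
    refine le_antisymm (sup_le inf_le_left hLH) fun g hg => ?_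
    have hadj : ∀ {a b}, a ∈ T → b ∈ T ∩ adj D a → g * b * g⁻¹ ∈ T ∩ adj D (g * a * g⁻¹) :=
      fun {a b} ha hb => ⟨hH g hg b hb.1, P.sub (hH g hg b hb.1), fun e => hb.2.2.1 ((MulAut.conj g).injective e),
        hb.2.2.2.map (MulAut.conj g).toMonoidHom⟩
    have hq' : ((g * d * g⁻¹, g * t₁ * g⁻¹, g * t₂ * g⁻¹, g * t₃ * g⁻¹) : G × G × G × G) ∈ frames D T :=
      ⟨hH g hg d hd, hadj hd h2, ⟨hadj hd h3, fun e => n3 ((MulAut.conj g).injective e)⟩,
        hadj h3.1 h1, fun e => n1 ((MulAut.conj g).injective e)⟩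
    obtain ⟨l, hl, l0, l1, l2, l3⟩ := hreg _ hq _ hq'
    have hk : l⁻¹ * g ∈ H ⊓ Subgroup.centralizer T := by
      refine Subgroup.mem_inf.2 ⟨H.mul_mem (H.inv_mem (hLH hl)) hg, Subgroup.mem_centralizer_iff.2 fun b hb => ?_⟩
      have fix : ∀ s : G, l * s * l⁻¹ = g * s * g⁻¹ → Commute (l⁻¹ * g) s := fun s h => by
        show l⁻¹ * g * s = s * (l⁻¹ * g)
        calc l⁻¹ * g * s = l⁻¹ * (g * s * g⁻¹) * g := by group
          _ = _ := by rw [← h]; group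
      exact (hgen _ hq _ (fix d l0) (fix t₁ l1) (fix t₂ l2) (fix t₃ l3) b hb).eq.symm
    rw [show g = (l * (l⁻¹ * g) * l⁻¹) * l by group]
    refine mul_mem (Subgroup.mem_sup_left ?_) (Subgroup.mem_sup_right hl)
    rw [← hcomm _ hk l hl, mul_inv_cancel_right]
    exact hk
  refine ⟨hbot, hcomm, hsup, ?_⟩
  conv_lhs => rw [← hsup]
  rw [sup_card (fun y hy => Subgroup.centralizer_le_normalizer _
    (Subgroup.mem_centralizer_iff.2 fun x hx => hcomm x hx y hy)) hbot, Nat.card_congr e.toEquiv, Nat.card_perm,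
    Nat.card_fin]
  exact mul_comm _ _

end Cfsg.Agent.PrimeNorm
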