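/-
The irreducible characters of degrees 429 and 3080 of a group of type M(22).

Main results (namespace `Cfsg.Agent.PrimeNorm`):
* `mfun_sq` : `5 A + 45 - J` for the adjacency matrix `A` of the class squares to 360 times itself;
* `psd_bound` : `|T| ^ 2 ≤ 5 K + 45 |T|` for a set `T` of members spanning `K` commuting pairs;
* `exists_chars` : the permutation character is `1 + χ + ψ`, and `72 χ g + 702 = a(g) + 9 π(g)`.
-/
import Cfsg.Agent.Lib.FischerM22.PrimeNorm.Frame
import Cfsg.Agent.Lib.FischerM22.Involutions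
import Cfsg.Agent.Lib.Char.Perm
import Cfsg.Agent.Lib.Char.Inner

set_option autoImplicit false

namespace Cfsg.Agent.PrimeNorm

open Cfsg Cfsg.Agent.ThreeTrans Cfsg.Agent.FischerM22

section general

variable {G : Type*} [Group G] {X : Type*} [MulAction G X] [Fintype X]

/-- An invariant idempotent matrix cuts a character out of a permutation character. -/
theorem isCharacter_idem [DecidableEq X] (P : Matrix X X ℂ) (hP : P * P = P)
    (hinv : ∀ (g : G) x y, P (g • x) (g • y) = P x y) :
    IsCharacter G fun g => ∑ x, P x (g • x) := by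
  classical
  set f : (X → ℂ) →ₗ[ℂ] (X → ℂ) := Matrix.toLin' P with hf
  have hidem : ∀ v, f (f v) = f v := fun v => by
    rw [hf, ← LinearMap.comp_apply, ← Matrix.toLin'_mul, hP]
  have hcomm : ∀ g v, f (Char.permRep G X g v) = Char.permRep G X g (f v) := by
    intro g v
    ext x
    show ∑ y, P x y * v (g⁻¹ • y) = ∑ y, P (g⁻¹ • x) y * v y
    refine (Fintype.sum_equiv (MulAction.toPerm g) _ _ fun y => ?_).symm
    show P (g⁻¹ • x) y * v y = P x (g • y) * v (g⁻¹ • g • y)
    rw [inv_smul_smul, ← hinv g, smul_inv_smul]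
  let W := LinearMap.range f
  have hW : ∀ (g : G), ∀ v ∈ W, Char.permRep G X g v ∈ W := by
    rintro g _ ⟨v, rfl⟩
    exact ⟨_, hcomm g v⟩
  let ρ : Representation ℂ G W :=
    { toFun := fun g => (Char.permRep G X g).restrict (hW g)
      map_one' := LinearMap.ext fun v => Subtype.ext (by
        rw [LinearMap.restrict_apply]; simp [map_one])
      map_mul' := fun g h => LinearMap.ext fun v => Subtype.ext (by
        rw [LinearMap.restrict_apply]; simp [map_mul]) }
  convert Char.isCharacter_character ρ using 1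
  funext g
  have hF : ∀ v, (Char.permRep G X g ∘ₗ f) v ∈ W := fun v => hW g _ ⟨v, rfl⟩
  have h1 : (Char.permRep G X g ∘ₗ f).restrict (fun v (_ : v ∈ W) => hF v) = ρ g := by
    refine LinearMap.ext fun v => Subtype.ext ?_
    obtain ⟨_, u, rfl⟩ := v
    show Char.permRep G X g (f (f u)) = _
    rw [hidem]
    rfl
  show _ = LinearMap.trace ℂ W (ρ g)
  rw [← h1, LinearMap.trace_restrict_eq_of_forall_mem W _ hF, LinearMap.trace_eq_matrix_trace ℂ (Pi.basisFun ℂ X), Matrix.trace]
  refine (Fintype.sum_equiv (MulAction.toPerm g⁻¹) _ _ fun x => ?_).symm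
  show (LinearMap.toMatrix (Pi.basisFun ℂ X) (Pi.basisFun ℂ X) (Char.permRep G X g ∘ₗ f)) x x =
    P (g⁻¹ • x) (g • g⁻¹ • x)
  simp [Char.permRep, hf, LinearMap.funLeft_apply, Matrix.toLin'_apply]

end general

variable {G : Type*} [Group G] {D : Set G}

/-- The members of `D` commuting with `g`. -/
def cenD (D : Set G) (g : G) : Set G := {d | d ∈ D ∧ Commute g d}

/-- The members of `D` commuting with their image under `g` and moved by it. -/
def moveC (D : Set G) (g : G) : Set G := {d | d ∈ D ∧ g * d * g⁻¹ ∈ adj D d}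

open scoped Classical in
/-- The entries of `5 A + 45 - J`. -/
noncomputable def mfun (D : Set G) (d e : G) : ℤ :=
  5 * (if e ∈ adj D d then 1 else 0) + 45 * (if d = e then 1 else 0) - 1

variable [Finite G]

open scoped Classical in
theorem mfun_sq (S : Fi22Setup D) {d e : G} (hd : d ∈ D) (he : e ∈ D) :
    ∑ c ∈ D.toFinite.toFinset, mfun D d c * mfun D c e = 360 * mfun D d e := by
  set Dn := D.toFinite.toFinset with hDn
  have mD : ∀ {x}, x ∈ Dn ↔ x ∈ D := fun {x} => by simp [hDn]
  have hcard : ∀ (P : G → Prop) [DecidablePred P], ∀ T : Set G, (∀ c, (c ∈ D ∧ P c) ↔ c ∈ T) →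
      (∑ c ∈ Dn, if P c then (1 : ℤ) else 0) = T.ncard := fun P _ T h => by
    rw [Finset.sum_boole, ← Set.ncard_coe_finset]
    congr 2
    ext c
    rw [Finset.coe_filter]
    exact (and_congr_left' mD).trans (h c)
  have hsym : ∀ c ∈ Dn, e ∈ adj D c ↔ c ∈ adj D e := fun c hc => adj_comm (mD.1 hc) he
  have s0 : ∑ _c ∈ Dn, (1 : ℤ) = 3510 := by
    rw [Finset.sum_const, nsmul_eq_mul, mul_one, hDn, ← Set.ncard_eq_toFinset_card, class_ncard S]; rfl
  have s1 : (∑ c ∈ Dn, if c ∈ adj D d then (1 : ℤ) else 0) = 693 := by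
    rw [hcard _ (adj D d) fun c => ⟨fun h => h.2, fun h => ⟨h.1, h⟩⟩, adj_ncard S hd]; rfl
  have s2 : (∑ c ∈ Dn, if e ∈ adj D c then (1 : ℤ) else 0) = 693 := by
    rw [Finset.sum_congr rfl fun c hc => if_congr (hsym c hc) rfl rfl,
      hcard _ (adj D e) fun c => ⟨fun h => h.2, fun h => ⟨h.1, h⟩⟩, adj_ncard S he]; rfl
  have s3 : (∑ c ∈ Dn, if c ∈ adj D d ∧ e ∈ adj D c then (1 : ℤ) else 0) =
      54 * (if e ∈ adj D d then 1 else 0) + 567 * (if d = e then 1 else 0) + 126 := by
    rw [Finset.sum_congr rfl fun c hc => if_congr (and_congr_right fun _ => hsym c hc) rfl rfl,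
      hcard (fun c => c ∈ adj D d ∧ c ∈ adj D e) (adj D d ∩ adj D e) fun c => ⟨fun h => h.2, fun h => ⟨h.1.1, h⟩⟩]
    by_cases h1 : d = e
    · subst h1
      rw [Set.inter_self, adj_ncard S hd, if_pos rfl, if_neg fun h => h.2.1 rfl]
      norm_num
    by_cases h2 : e ∈ adj D d
    · rw [common_ncard S hd h2, if_neg h1, if_pos h2]
      norm_num
    · rw [if_neg h1, if_neg h2]
      have := common_card S hd he fun hc => h2 ⟨he, Ne.symm h1, hc⟩
      rw [show adj D d ∩ adj D e = common D d e from rfl, this]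
      norm_num
  have hterm : ∀ c ∈ Dn, mfun D d c * mfun D c e =
      25 * (if c ∈ adj D d ∧ e ∈ adj D c then (1 : ℤ) else 0)
      + 225 * (if c = e then (if e ∈ adj D d then 1 else 0) else 0)
      + 225 * (if c = d then (if e ∈ adj D d then 1 else 0) else 0)
      + 2025 * (if c = d then (if d = e then 1 else 0) else 0)
      - 5 * (if c ∈ adj D d then 1 else 0) - 5 * (if e ∈ adj D c then 1 else 0)
      - 45 * (if c = d then 1 else 0) - 45 * (if c = e then 1 else 0) + 1 := by
    intro c hc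
    have hno : ∀ {x}, x ∉ adj D x := fun h => h.2.1 rfl
    unfold mfun
    by_cases h1 : c = d
    · subst h1
      by_cases h2 : c = e
      · subst h2; simp [hno]
      · simp [hno, h2]; split_ifs <;> norm_num
    · by_cases h2 : c = e
      · subst h2; simp [hno, h1, Ne.symm h1]; split_ifs <;> norm_num
      · simp [h1, h2, Ne.symm h1, ite_and]; split_ifs <;> norm_num
  rw [Finset.sum_congr rfl hterm]
  simp only [Finset.sum_add_distrib, Finset.sum_sub_distrib, ← Finset.mul_sum, Finset.sum_ite_eq', mD.2 hd,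
    mD.2 he, if_true, s0, s1, s2, s3]
  unfold mfun
  ring

open scoped Classical in
/-- The quadratic form of `5 A + 45 - J` is non-negative. -/
theorem psd_bound (S : Fi22Setup D) (T : Finset G) (hT : ∀ y ∈ T, y ∈ D) :
    (T.card : ℤ) ^ 2 ≤ 5 * (∑ y ∈ T, ((T.filter (· ∈ adj D y)).card : ℤ)) + 45 * T.card := by
  have key : 360 * ∑ d ∈ T, ∑ e ∈ T, mfun D d e =
      ∑ c ∈ D.toFinite.toFinset, (∑ d ∈ T, mfun D d c) ^ 2 := by
    rw [Finset.mul_sum, Finset.sum_congr rfl fun c (_ : c ∈ D.toFinite.toFinset) =>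
      (sq (∑ d ∈ T, mfun D d c)).trans (Finset.sum_mul_sum _ _ _ _), Finset.sum_comm (s := D.toFinite.toFinset)]
    refine Finset.sum_congr rfl fun d hd => ?_
    rw [Finset.mul_sum, Finset.sum_comm (s := D.toFinite.toFinset)]
    refine Finset.sum_congr rfl fun e he => ?_
    rw [← mfun_sq S (hT d hd) (hT e he)]
    refine Finset.sum_congr rfl fun c hc => ?_
    have hc' : c ∈ D := by simpa using hc
    congr 1
    unfold mfun
    rw [if_congr (adj_comm hc' (hT e he)) rfl rfl, if_congr (eq_comm (a := c) (b := e)) rfl rfl]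
  have h0 : 0 ≤ ∑ d ∈ T, ∑ e ∈ T, mfun D d e := by
    have := Finset.sum_nonneg fun c (_ : c ∈ D.toFinite.toFinset) => sq_nonneg (∑ d ∈ T, mfun D d c)
    omega
  have hval : ∑ d ∈ T, ∑ e ∈ T, mfun D d e =
      5 * (∑ y ∈ T, ((T.filter (· ∈ adj D y)).card : ℤ)) + 45 * T.card - (T.card : ℤ) ^ 2 := by
    have : ∀ d ∈ T, ∑ e ∈ T, mfun D d e = 5 * ((T.filter (· ∈ adj D d)).card : ℤ) + 45 - T.card := by
      intro d hd
      unfold mfun
      rw [Finset.sum_sub_distrib, Finset.sum_add_distrib, ← Finset.mul_sum, ← Finset.mul_sum, Finset.sum_boole,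
        Finset.sum_ite_eq, if_pos hd, Finset.sum_const, nsmul_eq_mul]
      simp
    rw [Finset.sum_congr rfl this, Finset.sum_sub_distrib, Finset.sum_add_distrib, ← Finset.mul_sum]
    simp only [Finset.sum_const, nsmul_eq_mul]
    ring
  omega

open scoped Classical in
/-- The two non-principal constituents of the permutation character on the class. -/
theorem exists_chars [Fintype G] (S : Fi22Setup D) : ∃ χ ψ : G → ℂ, IsIrrCharacter G χ ∧ IsIrrCharacter G ψ ∧
    χ 1 = 429 ∧ ψ 1 = 3080 ∧ (∀ g, 72 * χ g + 702 = (moveC D g).ncard + 9 * (cenD D g).ncard) ∧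
    ∀ g, 1 + χ g + ψ g = (cenD D g).ncard := by
  have hconj : ∀ g : G, ∀ d ∈ D, g * d * g⁻¹ ∈ D := fun g d hd => S.conj_mem g hd
  letI := conjOn hconj
  letI := Fintype.ofFinite D
  have hsm : ∀ (g : G) (d : D), ((g • d : D) : G) = g * d * g⁻¹ := fun _ _ => rfl
  have hN : Fintype.card D = 3510 := by
    rw [← Nat.card_eq_fintype_card, Nat.card_coe_set_eq, class_ncard S]
  have hsum : ∀ F : G → ℤ, ∑ x : D, F x = ∑ c ∈ D.toFinite.toFinset, F c := fun F =>
    (Finset.sum_subtype _ (fun x => by simp) F).symm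
  let M : Matrix D D ℂ := Matrix.of fun d e => (mfun D (d : G) e : ℂ)
  have hMM : M * M = (360 : ℂ) • M := by
    ext d e
    rw [Matrix.mul_apply, Matrix.smul_apply, smul_eq_mul]
    simp only [M, Matrix.of_apply, ← Int.cast_mul, ← Int.cast_sum]
    rw [hsum fun c => mfun D (d : G) c * mfun D c e, mfun_sq S d.2 e.2]
    push_cast
    ring
  have hrow : ∀ d : D, ∑ c : D, mfun D (d : G) c = 0 := by
    intro d
    have h1 : (∑ c : D, if (c : G) ∈ adj D d then (1 : ℤ) else 0) = 693 := by
      rw [hsum fun c => if c ∈ adj D d then 1 else 0, Finset.sum_boole, ← Set.ncard_coe_finset,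
        show (693 : ℤ) = ((693 : ℕ) : ℤ) from rfl, ← adj_ncard S d.2]
      congr 2
      ext c
      simp only [Finset.coe_filter, Set.Finite.mem_toFinset, Set.mem_ofPred_eq]
      exact ⟨fun h => h.2, fun h => ⟨h.1, h⟩⟩
    simp only [mfun, Finset.sum_sub_distrib, Finset.sum_add_distrib, ← Finset.mul_sum, h1, Subtype.coe_inj,
      Finset.sum_ite_eq, Finset.mem_univ, if_true, Finset.sum_const, Finset.card_univ, hN]
    norm_num
  have hcol : ∀ d : D, ∑ c : D, mfun D (c : G) d = 0 := by
    intro d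
    rw [← hrow d]
    refine Finset.sum_congr rfl fun c _ => ?_
    unfold mfun
    rw [if_congr (adj_comm c.2 d.2) rfl rfl, if_congr (eq_comm (a := (c : G)) (b := (d : G))) rfl rfl]
  let P : Matrix D D ℂ := (360 : ℂ)⁻¹ • M
  let J : Matrix D D ℂ := Matrix.of fun _ _ => (3510 : ℂ)⁻¹
  let Q : Matrix D D ℂ := 1 - J - P
  have hPP : P * P = P := by
    simp only [P, Matrix.smul_mul, Matrix.mul_smul, hMM, smul_smul]
    norm_num
  have hJJ : J * J = J := by
    ext d e
    simp only [Matrix.mul_apply, J, Matrix.of_apply, Finset.sum_const, Finset.card_univ, hN, nsmul_eq_mul]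
    norm_num
  have hPJ : P * J = 0 := by
    ext d e
    simp only [Matrix.mul_apply, P, J, M, Matrix.smul_apply, Matrix.of_apply, ← Finset.sum_mul, ← Finset.smul_sum, ← Int.cast_sum, hrow, Int.cast_zero, smul_zero,
      zero_mul, Matrix.zero_apply]
  have hJP : J * P = 0 := by
    ext d e
    simp only [Matrix.mul_apply, P, J, M, Matrix.smul_apply, Matrix.of_apply, ← Finset.mul_sum, ← Finset.smul_sum, ← Int.cast_sum, hcol, Int.cast_zero, smul_zero,
      mul_zero, Matrix.zero_apply]
  have hQQ : Q * Q = Q := by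
    simp only [Q, mul_sub, sub_mul, one_mul, mul_one, hPP, hJJ, hPJ, hJP]
    abel
  have hinv : ∀ (g : G) (d e : D), mfun D ((g • d : D) : G) (g • e : D) = mfun D (d : G) e := fun g d e => by
    unfold mfun
    rw [hsm, hsm, if_congr ((conj_adj S.grp.2.1 g (d : G) (g * e * g⁻¹)).trans (iff_of_eq (congrArg (· ∈ adj D (d : G))
        (by group : g⁻¹ * (g * e * g⁻¹) * g = (e : G))))) rfl rfl,
      if_congr (show g * d * g⁻¹ = g * e * g⁻¹ ↔ (d : G) = e from (MulAut.conj g).injective.eq_iff) rfl rfl]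
  have hPinv : ∀ (g : G) (d e : D), P (g • d) (g • e) = P d e := fun g d e => by
    simp only [P, M, Matrix.smul_apply, Matrix.of_apply, hinv]
  have hQinv : ∀ (g : G) (d e : D), Q (g • d) (g • e) = Q d e := fun g d e => by
    simp only [Q, J, Matrix.sub_apply, Matrix.of_apply, Matrix.one_apply, hPinv, (MulAction.injective g).eq_iff]
  have hχ := isCharacter_idem P hPP hPinv
  have hψ := isCharacter_idem Q hQQ hQinv
  set χ := fun g : G => ∑ x : D, P x (g • x) with hχdef
  set ψ := fun g : G => ∑ x : D, Q x (g • x) with hψdef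
  have hπ : ∀ g : G, Nat.card (MulAction.fixedBy D g) = (cenD D g).ncard := by
    intro g
    rw [← Nat.card_coe_set_eq (cenD D g)]
    exact Nat.card_congr
      { toFun := fun d => ⟨(d : D), (d : D).2, mul_inv_eq_iff_eq_mul.1 (congrArg Subtype.val d.2)⟩
        invFun := fun d => ⟨⟨d, d.2.1⟩, Subtype.ext (mul_inv_eq_iff_eq_mul.2 d.2.2)⟩
        left_inv := fun d => rfl
        right_inv := fun d => rfl }
  have hfix : ∀ g : G, (Finset.univ.filter fun x : D => x = g • x).card = (cenD D g).ncard := fun g => by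
    rw [← hπ g, Nat.card_eq_fintype_card, Fintype.card_subtype]
    congr 1
    ext x
    simp [MulAction.mem_fixedBy, eq_comm]
  have hmove : ∀ g : G, (Finset.univ.filter fun x : D => ((g • x : D) : G) ∈ adj D x).card = (moveC D g).ncard := by
    intro g
    rw [← Finset.card_map ⟨Subtype.val, Subtype.val_injective⟩, ← Set.ncard_coe_finset]
    congr 1
    ext x
    simp only [Finset.coe_map, Function.Embedding.coeFn_mk, Finset.coe_filter, Finset.mem_univ, true_and,
      Set.mem_image, Set.mem_ofPred_eq, moveC, hsm]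
    exact ⟨fun ⟨y, hy, e⟩ => e ▸ ⟨y.2, hy⟩, fun h => ⟨⟨x, h.1⟩, h.2, rfl⟩⟩
  have hval : ∀ g, 72 * χ g + 702 = (moveC D g).ncard + 9 * (cenD D g).ncard := by
    intro g
    have e : χ g = (360 : ℂ)⁻¹ * ((∑ x : D, mfun D (x : G) (g • x : D) : ℤ) : ℂ) := by
      simp only [hχdef, P, M, Matrix.smul_apply, Matrix.of_apply, smul_eq_mul, ← Finset.mul_sum, Int.cast_sum]
    have e2 : (∑ x : D, mfun D (x : G) (g • x : D) : ℤ) =
        5 * (moveC D g).ncard + 45 * (cenD D g).ncard - 3510 := by
      simp only [mfun, Finset.sum_sub_distrib, Finset.sum_add_distrib, ← Finset.mul_sum, Subtype.coe_inj,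
        Finset.sum_boole, hmove, hfix, Finset.sum_const, Finset.card_univ, hN]
      norm_num
    rw [e, e2]
    push_cast
    ring
  have htot : ∀ g, 1 + χ g + ψ g = (cenD D g).ncard := by
    intro g
    simp only [hχdef, hψdef, Q, J, Matrix.sub_apply, Matrix.of_apply, Matrix.one_apply, Finset.sum_sub_distrib, Finset.sum_boole,
      hfix, Finset.sum_const, Finset.card_univ, hN, nsmul_eq_mul]
    push_cast
    ring
  have hc1 : (cenD D 1).ncard = 3510 := by
    rw [show cenD D 1 = D from Set.ext fun d => ⟨fun h => h.1, fun h => ⟨h, Commute.one_left d⟩⟩, class_ncard S]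
  have h429 : χ 1 = 429 := by
    have h := hval 1
    rw [hc1, show moveC D 1 = ∅ from Set.eq_empty_of_forall_notMem fun d hd => hd.2.2.1 (by simp),
      Set.ncard_empty] at h
    push_cast at h
    linear_combination h / 72
  have h3080 : ψ 1 = 3080 := by
    have h := htot 1
    rw [hc1, h429] at h
    push_cast at h
    linear_combination h
  -- the norm
  have h3 : Nat.card (MulAction.orbitRel.Quotient G (D × D)) ≤ 3 := by
    letI := Fintype.ofFinite (MulAction.orbitRel.Quotient G (D × D))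
    rw [Nat.card_eq_fintype_card]
    let c : D × D → Fin 3 := fun x => if x.1 = x.2 then 0 else if Commute (x.1 : G) (x.2 : G) then 1 else 2
    refine (Fintype.card_le_of_injective (fun q => c q.out) fun q r h => ?_).trans_eq (Fintype.card_fin 3)
    rw [← Quotient.out_eq q, ← Quotient.out_eq r]
    refine Quotient.sound ?_
    change c q.out = c r.out at h
    generalize (Quotient.out q : D × D) = a at h
    generalize (Quotient.out r : D × D) = b at h
    obtain ⟨⟨a, ha⟩, ⟨a', ha'⟩⟩ := a
    obtain ⟨⟨b, hb⟩, ⟨b', hb'⟩⟩ := b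
    simp only [c, Subtype.mk.injEq] at h
    split_ifs at h with e1 e2 e3 e4 e5 e6 <;> try (exact absurd h (by decide))
    · subst e1; subst e2
      obtain ⟨g, hg⟩ := class_conj S.cls hb ha
      exact ⟨g, Prod.ext (Subtype.ext hg) (Subtype.ext hg)⟩
    · obtain ⟨g, hg, hg'⟩ := pair_conj S hb ⟨hb', Ne.symm (by assumption), (by assumption)⟩ ha
        ⟨ha', Ne.symm (by assumption), (by assumption)⟩
      exact ⟨g, Prod.ext (Subtype.ext hg) (Subtype.ext hg')⟩
    · obtain ⟨g, hg⟩ := class_conj S.cls hb ha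
      have hb1 : ¬ Commute b b' := by assumption
      have hn1 : ¬ Commute a (g * b' * g⁻¹) := fun hc => hb1 (by
        refine Commute.of_map (f := (MulAut.conj g).toMonoidHom) (MulAut.conj g).injective ?_
        show Commute (g * b * g⁻¹) (g * b' * g⁻¹)
        rwa [hg])
      obtain ⟨k, hka, hkb⟩ := centralizer_transitive S ha (S.conj_mem g hb') ha' hn1 (by assumption)
      refine ⟨k * g, Prod.ext (Subtype.ext ?_) (Subtype.ext ?_)⟩
      · show k * g * b * (k * g)⁻¹ = a
        rw [show k * g * b * (k * g)⁻¹ = k * (g * b * g⁻¹) * k⁻¹ by group, hg, hka.eq, mul_inv_cancel_right]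
      · show k * g * b' * (k * g)⁻¹ = a'
        rw [show k * g * b' * (k * g)⁻¹ = k * (g * b' * g⁻¹) * k⁻¹ by group, hkb]
  have hsq : classInner (fun g => (1 + χ g + ψ g : ℂ)) (fun g => 1 + χ g + ψ g) =
      Nat.card (MulAction.orbitRel.Quotient G (D × D)) := by
    rw [← Char.classInner_fixedPoints_one]
    simp only [classInner, Pi.one_apply, map_one, mul_one]
    congr 1
    refine Finset.sum_congr rfl fun g _ => ?_
    rw [htot g, map_natCast, ← Nat.cast_mul, ← hπ g, ← Nat.card_prod]
    congr 1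
    exact Nat.card_congr
      { toFun := fun x => ⟨((x.1 : D), (x.2 : D)), Prod.ext x.1.2 x.2.2⟩
        invFun := fun x => (⟨x.1.1, congrArg Prod.fst x.2⟩, ⟨x.1.2, congrArg Prod.snd x.2⟩)
        left_inv := fun x => rfl
        right_inv := fun x => rfl }
  rw [show (fun g => (1 + χ g + ψ g : ℂ)) = (1 : G → ℂ) + χ + ψ from rfl] at hsq
  have h11 := Char.classInner_irr_self (Char.isIrrCharacter_one (G := G))
  simp only [Char.classInner_add_left, Char.classInner_add_right, h11] at hsq
  obtain ⟨a1, e1⟩ := Char.IsCharacter.classInner_nat Char.isCharacter_one hχ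
  obtain ⟨a2, e2⟩ := Char.IsCharacter.classInner_nat Char.isCharacter_one hψ
  obtain ⟨b1, f1⟩ := Char.IsCharacter.classInner_nat hχ (Char.isCharacter_one (G := G))
  obtain ⟨b2, f2⟩ := Char.IsCharacter.classInner_nat hψ (Char.isCharacter_one (G := G))
  obtain ⟨n1, g1⟩ := Char.IsCharacter.classInner_nat hχ hχ
  obtain ⟨n2, g2⟩ := Char.IsCharacter.classInner_nat hψ hψ
  obtain ⟨c1, i1⟩ := Char.IsCharacter.classInner_nat hχ hψ
  obtain ⟨c2, i2⟩ := Char.IsCharacter.classInner_nat hψ hχ
  rw [e1, e2, f1, f2, g1, g2, i1, i2] at hsq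
  have hsq' : 1 + b1 + b2 + (a1 + n1 + c2) + (a2 + c1 + n2) = Nat.card (MulAction.orbitRel.Quotient G (D × D)) :=
    Nat.cast_injective (R := ℂ) (by push_cast; linear_combination hsq)
  have p1 : n1 ≠ 0 := fun h0 => by
    rw [h0, Nat.cast_zero, Char.classInner_self_eq_zero] at g1
    rw [g1] at h429
    norm_num at h429
  have p2 : n2 ≠ 0 := fun h0 => by
    rw [h0, Nat.cast_zero, Char.classInner_self_eq_zero] at g2
    rw [g2] at h3080
    norm_num at h3080
  refine ⟨χ, ψ, (Char.isIrrCharacter_iff_norm_one hχ).2 ?_, (Char.isIrrCharacter_iff_norm_one hψ).2 ?_,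
    h429, h3080, hval, htot⟩
  · rw [g1, show n1 = 1 by omega, Nat.cast_one]
  · rw [g2, show n2 = 1 by omega, Nat.cast_one]

end Cfsg.Agent.PrimeNorm
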