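/-
Elements of order three of a group of type M(22) on the class.

Main results (namespace `Cfsg.Agent.PrimeNorm`):
* `class_split` : every member is fixed, moved to a neighbour, or moved to a non-commuting member;
* `three_local` : the neighbours of a fixed member, by the behaviour under `w`;
* `three_upper` : `a(w) + 9 π(w) < 3510` when `π(w) ≠ 0`;
* `three_not_all` : some member is fixed or moved to a non-commuting one.
-/
import Cfsg.Agent.Lib.FischerM22.PrimeNorm.Srg
import Cfsg.Agent.Lib.FischerM22.PrimeNorm.ThreeLin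
import Cfsg.Agent.Lib.FischerM22.PrimeNorm.Lift

set_option autoImplicit false

namespace Cfsg.Agent.PrimeNorm

open Cfsg.Agent.Unitary Cfsg.Agent.U62Cover Cfsg.Agent.ThreeTrans Cfsg.Agent.ThreeTransSU Cfsg.Agent.FischerM22

variable {G : Type*} [Group G] {D : Set G}

/-- The members moved to non-commuting members. -/
def moveN (D : Set G) (g : G) : Set G := {d | d ∈ D ∧ ¬ Commute d (g * d * g⁻¹)}

variable [Finite G]

theorem class_split (S : Fi22Setup D) (g : G) :
    (moveC D g).ncard + (cenD D g).ncard + (moveN D g).ncard = 3510 := by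
  have h1 : Disjoint (moveC D g) (cenD D g) := Set.disjoint_left.2 fun d hd hd' =>
    hd.2.2.1 (mul_inv_eq_iff_eq_mul.2 hd'.2)
  have h2 : Disjoint (moveC D g ∪ cenD D g) (moveN D g) := Set.disjoint_left.2 fun d hd hd' => by
    rcases hd with hd | hd
    · exact hd'.2 hd.2.2.2
    · exact hd'.2 (by rw [mul_inv_eq_iff_eq_mul.2 hd.2])
  rw [← Set.ncard_union_eq h1 (Set.toFinite _) (Set.toFinite _),
    ← Set.ncard_union_eq h2 (Set.toFinite _) (Set.toFinite _)]
  suffices e : moveC D g ∪ cenD D g ∪ moveN D g = D by rw [e, class_ncard S]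
  ext d
  refine ⟨fun h => by rcases h with (h | h) | h <;> exact h.1, fun hd => ?_⟩
  by_cases e : g * d * g⁻¹ = d
  · exact Or.inl (Or.inr ⟨hd, mul_inv_eq_iff_eq_mul.1 e⟩)
  · by_cases hc : Commute d (g * d * g⁻¹)
    · exact Or.inl (Or.inl ⟨hd, S.conj_mem g hd, e, hc⟩)
    · exact Or.inr ⟨hd, hc⟩

/-- The neighbours of a fixed member. -/
theorem three_local (S : Fi22Setup D) {w y : G} (hw : w ^ 3 = 1) (hw1 : w ≠ 1) (hy : y ∈ cenD D w) :
    (moveN D w ∩ adj D y).ncard = 8 * (cenD D w ∩ adj D y).ncard + 288 := by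
  obtain ⟨F, _, _, pt, θ, L⟩ := exists_locModel S hy.1
  have M := L.M
  have hF := M.card
  let W : ↥(Loc D y) := ⟨w, by
    rw [← centralizer_eq_loc S hy.1]; exact Subgroup.mem_centralizer_singleton_iff.2 hy.2⟩
  have hW3 : W ^ 3 = 1 := Subtype.ext (by rw [Subgroup.coe_pow]; exact hw)
  obtain ⟨g, hg⟩ := QuotientGroup.mk'_surjective _ (θ W)
  have hgc : g ^ 3 ∈ Subgroup.center (Cfsg.SU 6 F 2) := toPSU_eq_one.1 (by
    rw [map_pow, hg, ← map_pow, hW3, map_one])
  obtain ⟨z, -, hz3, hz⟩ := center_SU_scalar (card_sq hF) (by norm_num) hgc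
  have hz1 : z = 1 := by
    by_contra hne
    refine no_cube_omega hF (fun h0 => by simp [h0] at hz3) hne (M := ((g : Matrix.SpecialLinearGroup (Fin 6) F) : Matrix (Fin 6) (Fin 6) F))
      ?_ (g : Matrix.SpecialLinearGroup (Fin 6) F).2
    rw [← Matrix.SpecialLinearGroup.coe_pow, ← Subgroup.coe_pow, hz]
    exact (Matrix.smul_one_eq_diagonal z).symm
  have hg3 : g ^ 3 = 1 := Subtype.ext (Subtype.ext (by rw [hz, hz1, map_one]; rfl))
  have hnc : g ∉ Subgroup.center (Cfsg.SU 6 F 2) := fun h => by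
    have h1 : θ W = 1 := hg ▸ toPSU_eq_one.2 h
    rcases (mem_center_loc_iff S hy.1 W).1 (L.ker _ h1) with h | h
    · exact hw1 h
    · rw [show w = y from h] at hw
      refine ne_one S.cls.1 hy.1 ?_
      rwa [pow_succ, pow_two, mul_self S.cls.1 hy.1, one_mul] at hw
  have hconj : ∀ v, Iso v → w * pt v * w⁻¹ = pt (act g v) := fun v hv => L.conj_pt S hy.1 hg.symm hv
  have e1 := card_pts M fun b => Commute b (w * b * w⁻¹)
  rw [show Nat.card {v : Fin 6 → F // Iso v ∧ Commute (pt v) (w * pt v * w⁻¹)} =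
      Nat.card {v : Fin 6 → F // Iso v ∧ hf v (act g v) = 0} from
    Nat.card_congr (Equiv.subtypeEquivRight fun v => and_congr_right fun hv => by
      rw [hconj v hv]; exact M.comm v _ hv (hv.act g))] at e1
  have e2 := card_pts M fun b => Commute w b
  rw [show Nat.card {v : Fin 6 → F // Iso v ∧ Commute w (pt v)} =
      Nat.card {v : Fin 6 → F // Iso v ∧ ∃ c : F, c ≠ 0 ∧ act g v = c • v} from
    Nat.card_congr (Equiv.subtypeEquivRight fun v => and_congr_right fun hv => by
      constructor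
      · exact fun h => M.inj v _ hv (hv.act g) (by rw [← hconj v hv, h.eq, mul_inv_cancel_right])
      · rintro ⟨c, hc, e⟩
        exact mul_inv_eq_iff_eq_mul.1 ((hconj v hv).trans (by rw [e, M.smul v c hv hc])))] at e2
  have h := three_counts hF hg3 hnc
  rw [e1, e2] at h
  have s1 : cenD D w ∩ adj D y = {b | b ∈ adj D y ∧ Commute w b} :=
    Set.ext fun b => ⟨fun h => ⟨h.2, h.1.2⟩, fun h => ⟨⟨h.1.1, h.2⟩, h.1⟩⟩
  have s2 : adj D y = (moveN D w ∩ adj D y) ∪ {b | b ∈ adj D y ∧ Commute b (w * b * w⁻¹)} := by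
    ext b
    refine ⟨fun hb => ?_, fun h => h.elim (fun h => h.2) fun h => h.1⟩
    by_cases hc : Commute b (w * b * w⁻¹)
    exacts [Or.inr ⟨hb, hc⟩, Or.inl ⟨⟨hb.1, hc⟩, hb⟩]
  have hsum := adj_ncard S hy.1
  rw [s2, Set.ncard_union_eq (Set.disjoint_left.2 fun b hb hb' => hb.1.2 hb'.2) (Set.toFinite _) (Set.toFinite _)] at hsum
  rw [s1]
  omega

open scoped Classical in
/-- An element of order three fixing a member. -/
theorem three_upper (S : Fi22Setup D) {w : G} (hw : w ^ 3 = 1) (hw1 : w ≠ 1) (hs : (cenD D w).ncard ≠ 0) :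
    (moveC D w).ncard + 9 * (cenD D w).ncard < 3510 := by
  by_contra hlt
  have hsplit := class_split S w
  set T := (cenD D w).toFinite.toFinset with hTdef
  set Nc := (moveN D w).toFinite.toFinset with hNdef
  have mT : ∀ {y}, y ∈ T ↔ y ∈ cenD D w := fun {y} => by simp [hTdef]
  have mN : ∀ {y}, y ∈ Nc ↔ y ∈ moveN D w := fun {y} => by simp [hNdef]
  have cT : T.card = (cenD D w).ncard := (Set.ncard_eq_toFinset_card _).symm
  have cN : Nc.card = (moveN D w).ncard := (Set.ncard_eq_toFinset_card _).symm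
  have hcT : ∀ B : Set G, (T.filter (· ∈ B)).card = (cenD D w ∩ B).ncard := fun B => by
    rw [← Set.ncard_coe_finset]; congr 1; ext b; simp [mT]
  have hcN : ∀ B : Set G, (Nc.filter (· ∈ B)).card = (moveN D w ∩ B).ncard := fun B => by
    rw [← Set.ncard_coe_finset]; congr 1; ext b; simp [mN]
  have hT : ∀ q ∈ T, q ∈ D := fun q hq => (mT.1 hq).1
  let R : G → G → Prop := fun p q => p ∈ adj D q
  let c : G → ℕ := fun p => (T.filter (R p)).card
  let K : ℕ := ∑ q ∈ T, (T.filter (· ∈ adj D q)).card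
  have hf : ∀ q ∈ T, (Nc.filter (· ∈ adj D q)).card = 8 * (T.filter (· ∈ adj D q)).card + 288 := fun q hq => by
    rw [hcN, hcT]; exact three_local S hw hw1 (mT.1 hq)
  have h1 : ∑ p ∈ Nc, c p = 8 * K + 288 * T.card := by
    rw [sum_card_filter Nc T R, Finset.sum_congr rfl hf, Finset.sum_add_distrib, ← Finset.mul_sum,
      Finset.sum_const, smul_eq_mul, mul_comm T.card]
  have h2 : ∑ p ∈ Nc, c p ^ 2 ≤ 8 * K + 288 * T.card + 180 * K + 126 * (T.card * T.card) := by
    rw [sum_card_filter_sq Nc T R]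
    calc _ ≤ ∑ q ∈ T, ∑ r ∈ T, ((if q = r then (Nc.filter (· ∈ adj D q)).card else 0) +
          (if r ∈ adj D q then 180 else 0) + 126) := by
          refine Finset.sum_le_sum fun q hq => Finset.sum_le_sum fun r hr => ?_
          have hle : ∀ B : Set G, (∀ p, p ∈ adj D q → p ∈ adj D r → p ∈ B) →
              (Nc.filter fun p => R p q ∧ R p r).card ≤ B.ncard := fun B hB => by
            rw [← Set.ncard_coe_finset]
            refine Set.ncard_le_ncard (fun p hp => ?_) (Set.toFinite _)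
            obtain ⟨-, h1, h2⟩ := Finset.mem_filter.1 hp
            exact hB p h1 h2
          by_cases e : q = r
          · subst e
            rw [if_pos rfl]
            refine le_add_right (le_add_right (Finset.card_le_card fun p hp => ?_))
            obtain ⟨h1, h2, -⟩ := Finset.mem_filter.1 hp
            exact Finset.mem_filter.2 ⟨h1, h2⟩
          · rw [if_neg e]
            by_cases hc : r ∈ adj D q
            · rw [if_pos hc]
              have := hle (adj D q ∩ adj D r) fun p h1 h2 => ⟨h1, h2⟩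
              rw [common_ncard S (hT q hq) hc] at this
              omega
            · rw [if_neg hc]
              have := hle (common D q r) fun p h1 h2 => ⟨h1, h2⟩
              rw [common_card S (hT q hq) (hT r hr) fun h => hc ⟨hT r hr, Ne.symm e, h⟩] at this
              omega
      _ = _ := by
          have e1 : ∀ q ∈ T, ∑ r ∈ T, ((if q = r then (Nc.filter (· ∈ adj D q)).card else 0) +
              (if r ∈ adj D q then 180 else 0) + 126) =
              8 * (T.filter (· ∈ adj D q)).card + 288 + 180 * (T.filter (· ∈ adj D q)).card + 126 * T.card := by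
            intro q hq
            rw [Finset.sum_add_distrib, Finset.sum_add_distrib, Finset.sum_ite_eq, if_pos hq, hf q hq,
              Finset.sum_ite, Finset.sum_const_zero, add_zero, Finset.sum_const, Finset.sum_const, smul_eq_mul,
              smul_eq_mul, mul_comm T.card, mul_comm _ 180]
          rw [Finset.sum_congr rfl e1]
          simp only [Finset.sum_add_distrib, ← Finset.mul_sum, Finset.sum_const, smul_eq_mul, K]
          ring
  have h3 := sq_sum_le_card_mul_sum_sq (s := Nc) (f := c)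
  rw [h1] at h3
  have h4 := psd_bound S T hT
  rw [← Nat.cast_sum, show (∑ y ∈ T, (T.filter (· ∈ adj D y)).card) = K from rfl] at h4
  have h5 : Nc.card ≤ 8 * T.card := by omega
  have h6 := h3.trans (Nat.mul_le_mul h5 h2)
  have hspos : (0 : ℤ) < T.card := by exact_mod_cast (by omega : 0 < T.card)
  zify at h6
  generalize (T.card : ℤ) = s at h4 h6 hspos
  generalize hKi : (K : ℤ) = k at h4 h6
  nlinarith [mul_le_mul_of_nonneg_left h4 (by linarith : (0 : ℤ) ≤ 1008 * s), sq_nonneg (8 * k - 121 * s),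
    mul_pos hspos hspos]

/-- No element of order three moves every member to a neighbour. -/
theorem three_not_all (S : Fi22Setup D) {w : G} (hw : w ^ 3 = 1) (hw1 : w ≠ 1) :
    ¬ ∀ d ∈ D, w * d * w⁻¹ ∈ adj D d := by
  intro hall
  have := Fact.mk Nat.prime_three
  obtain ⟨d, hd, -⟩ := S.two_members
  set e := w * d * w⁻¹ with hedef
  set f := w * e * w⁻¹ with hfdef
  have he := hall d hd
  have hf' : f ∈ adj D e := hall e he.1
  have hcyc : ∀ x, w * (w * (w * x * w⁻¹) * w⁻¹) * w⁻¹ = x := fun x => by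
    calc _ = w ^ 3 * x * (w ^ 3)⁻¹ := by simp [pow_succ, mul_assoc]
      _ = x := by rw [hw, inv_one, one_mul, mul_one]
  have hback : w * f * w⁻¹ = d := hcyc d
  have hdf : d ∈ adj D f := hback ▸ hall f hf'.1
  have hfd : f ∈ adj D d := adj_symm hf'.1 hdf
  obtain ⟨F, _, _, pt, θ, L⟩ := exists_locModel S hd
  have M := L.M
  have hF := M.card
  obtain ⟨u, hu, hue⟩ := M.surj e he
  obtain ⟨u', hu', huf⟩ := M.surj f hfd
  have hef : f ≠ e := hf'.2.1
  have hP : OrthPair u u' := ⟨hu, hu', (M.comm u u' hu hu').1 (by rw [hue, huf]; exact hf'.2.2), fun c hc => hef (by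
    rw [← hue, ← huf, hc, M.smul u c hu fun h0 => hu'.1 (by rw [hc, h0, zero_smul])])⟩
  set C := adj D d ∩ adj D e ∩ adj D f with hC
  have hCw : ∀ x ∈ C, w * x * w⁻¹ ∈ C := by
    intro x hx
    have key : ∀ a, x ∈ adj D a → w * x * w⁻¹ ∈ adj D (w * a * w⁻¹) := fun a ha =>
      (conj_adj S.grp.2.1 w a _).2 (by simpa [mul_assoc] using ha)
    exact ⟨⟨hback ▸ key f hx.2, key d hx.1.1⟩, key e hx.1.2⟩
  -- a common neighbour outside the line
  obtain ⟨v, hv, hv1, hv2, hout⟩ : ∃ v, Iso v ∧ hf v u = 0 ∧ hf v u' = 0 ∧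
      v ∉ Submodule.span F (Set.range ![u, u']) := by
    by_contra hno
    push Not at hno
    have h := Nat.card_le_card_of_injective
      (fun v : {x : Fin 6 → F // Iso x ∧ hf x u = 0 ∧ hf x u' = 0} =>
        (⟨v.1, hno v.1 v.2.1 v.2.2.1 v.2.2.2⟩ : {x // x ∈ Submodule.span F (Set.range ![u, u'])}))
      fun a b e => Subtype.ext (congrArg Subtype.val e :)
    rw [count_orth hF hP, card_submodule_four hF, finrank_span_eq_card hP.li, Fintype.card_fin] at h
    norm_num at h
  have hne : ∀ p : Fin 6 → F, p ∈ ({u, u'} : Set (Fin 6 → F)) → Iso p → pt v ≠ pt p := fun p hp hpi e => by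
    obtain ⟨c, -, rfl⟩ := M.inj p v hpi hv e.symm
    refine hout (Submodule.smul_mem _ _ (Submodule.subset_span ?_))
    rcases hp with rfl | rfl
    exacts [⟨0, rfl⟩, ⟨1, rfl⟩]
  set z := pt v with hzdef
  have hzC : z ∈ C := ⟨⟨M.mem v hv, hue ▸ ⟨(M.mem v hv).1, hne u (by simp) hu, ((M.comm v u hv hu).2 hv1).symm⟩⟩,
    huf ▸ ⟨(M.mem v hv).1, hne u' (by simp) hu', ((M.comm v u' hv hu').2 hv2).symm⟩⟩
  have hli : LinearIndependent F ![v, u, u'] := linearIndependent_fin_cons.2 ⟨hP.li, hout⟩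
  have horth : ∀ i j, hf (![v, u, u'] i) (![v, u, u'] j) = 0 := by
    intro i j
    fin_cases i <;> fin_cases j <;>
      simp [hv.2, hu.2, hu'.2, hv1, hv2, hP.2.2.1, (hf_eq_zero_symm hF).1 hv1, (hf_eq_zero_symm hF).1 hv2,
        (hf_eq_zero_symm hF).1 hP.2.2.1]
  have hperp : perp hF ![v, u, u'] = Submodule.span F (Set.range ![v, u, u']) := by
    refine (Submodule.eq_of_le_of_finrank_le (Submodule.span_le.2 ?_) ?_).symm
    · rintro _ ⟨i, rfl⟩
      exact (mem_perp hF).2 (horth i)
    · have := finrank_perp hF hli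
      rw [finrank_span_eq_card hli, Fintype.card_fin]
      omega
  have hmemP : ∀ x, (hf x v = 0 ∧ hf x u = 0 ∧ hf x u' = 0) ↔ x ∈ perp hF ![v, u, u'] := fun x => by
    rw [mem_perp]
    exact ⟨fun h i => by fin_cases i; exacts [h.1, h.2.1, h.2.2], fun h => ⟨h 0, h 1, h 2⟩⟩
  set T := {y | y ∈ C ∧ Commute z y} with hT
  set z' := w * z * w⁻¹ with hz'
  have hz'C : z' ∈ C := hCw z hzC
  have hzz' : Commute z z' := (hall z hzC.1.1.1).2.2
  have hsub : T ⊆ {y | y ∈ C ∧ Commute z' y} := by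
    rintro y ⟨hy, hzy⟩
    refine ⟨hy, ?_⟩
    obtain ⟨x, hx, rfl⟩ := M.surj y hy.1.1
    obtain ⟨x', hx', hx'e⟩ := M.surj z' hz'C.1.1
    rw [← hx'e] at hzz' hz'C ⊢
    have m1 : x ∈ Submodule.span F (Set.range ![v, u, u']) := hperp ▸ (hmemP x).1
      ⟨(M.comm x v hx hv).1 hzy.symm, (M.comm x u hx hu).1 (hue ▸ hy.1.2.2.2.symm),
        (M.comm x u' hx hu').1 (huf ▸ hy.2.2.2.symm)⟩
    have m2 : Submodule.span F (Set.range ![v, u, u']) ≤ perp hF ![x'] := Submodule.span_le.2 (by
      rintro _ ⟨i, rfl⟩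
      refine (mem_perp hF).2 fun j => ?_
      fin_cases j
      fin_cases i
      exacts [(M.comm v x' hv hx').1 hzz', (M.comm u x' hu hx').1 (hue ▸ hz'C.1.2.2.2),
        (M.comm u' x' hu' hx').1 (huf ▸ hz'C.2.2.2)])
    exact (M.comm x' x hx' hx).2 ((hf_eq_zero_symm hF).1 ((mem_perp hF).1 (m2 m1) 0))
  have hcard : T.ncard = 19 := by
    have h := card_pts M fun y => Commute y z ∧ Commute y e ∧ Commute y f
    rw [show Nat.card {x : Fin 6 → F // Iso x ∧ Commute (pt x) z ∧ Commute (pt x) e ∧ Commute (pt x) f} =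
        Nat.card {x : Fin 6 → F // x ≠ 0 ∧ x ∈ perp hF ![v, u, u']} from
      Nat.card_congr (Equiv.subtypeEquivRight fun x => by
        constructor
        · rintro ⟨hx, h1, h2, h3⟩
          exact ⟨hx.1, (hmemP x).1 ⟨(M.comm x v hx hv).1 h1, (M.comm x u hx hu).1 (hue ▸ h2),
            (M.comm x u' hx hu').1 (huf ▸ h3)⟩⟩
        · rintro ⟨hx0, hx⟩
          obtain ⟨h1, h2, h3⟩ := (hmemP x).2 hx
          have hxs := hx
          rw [hperp] at hxs
          have hle : Submodule.span F (Set.range ![v, u, u']) ≤ perp hF ![x] := Submodule.span_le.2 (by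
            rintro _ ⟨i, rfl⟩
            refine (mem_perp hF).2 fun j => ?_
            fin_cases j
            fin_cases i
            exacts [(hf_eq_zero_symm hF).1 h1, (hf_eq_zero_symm hF).1 h2, (hf_eq_zero_symm hF).1 h3])
          have hxi : Iso x := ⟨hx0, (mem_perp hF).1 (hle hxs) 0⟩
          exact ⟨hxi, (M.comm x v hxi hv).2 h1, hue ▸ (M.comm x u hxi hu).2 h2, huf ▸ (M.comm x u' hxi hu').2 h3⟩)] at h
    have h0 := ncard_zero_insert (P := fun x : Fin 6 → F => x ∈ perp hF ![v, u, u']) (zero_mem _)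
    rw [show Nat.card {x : Fin 6 → F // x ∈ perp hF ![v, u, u']} = 4 ^ Module.finrank F (perp hF ![v, u, u']) from
      card_submodule_four hF _, hperp, finrank_span_eq_card hli, Fintype.card_fin] at h0
    rw [hperp] at h
    have hs : {y | y ∈ adj D d ∧ Commute y z ∧ Commute y e ∧ Commute y f} = insert e (insert f T) := by
      ext y
      constructor
      · rintro ⟨hy, h1, h2, h3⟩
        by_cases a1 : y = e
        · exact Or.inl a1
        by_cases a2 : y = f
        · exact Or.inr (Or.inl a2)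
        exact Or.inr (Or.inr ⟨⟨⟨hy, hy.1, a1, h2.symm⟩, hy.1, a2, h3.symm⟩, h1.symm⟩)
      · rintro (rfl | rfl | ⟨⟨⟨hy, h2⟩, h3⟩, h1⟩)
        exacts [⟨he, hzC.1.2.2.2, Commute.refl e, hf'.2.2⟩, ⟨hfd, hzC.2.2.2, hf'.2.2.symm, Commute.refl f⟩,
          ⟨hy, h1.symm, h2.2.2.symm, h3.2.2.symm⟩]
    rw [hs, Set.ncard_insert_of_notMem (by
        rintro (h | h)
        exacts [hef h.symm, h.1.1.2.2.1 rfl]), Set.ncard_insert_of_notMem (fun h => h.1.2.2.1 rfl)] at h
    norm_num at h0 h ⊢
    omega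
  have hshift : (fun y => w * y * w⁻¹) '' T = T := by
    have hinj : Function.Injective fun y => w * y * w⁻¹ := (MulAut.conj w).injective
    have himg : (fun y => w * y * w⁻¹) '' T = {y | y ∈ C ∧ Commute z' y} := by
      ext y
      constructor
      · rintro ⟨x, ⟨hx, hzx⟩, rfl⟩
        exact ⟨hCw x hx, hzx.map (MulAut.conj w).toMonoidHom⟩
      · rintro ⟨hy, hy'⟩
        refine ⟨w * (w * y * w⁻¹) * w⁻¹, ⟨hCw _ (hCw y hy), ?_⟩, hcyc y⟩
        have h := (hy'.map (MulAut.conj w).toMonoidHom).map (MulAut.conj w).toMonoidHom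
        have e : w * (w * z' * w⁻¹) * w⁻¹ = z := hcyc z
        simp only [MulEquiv.coe_toMonoidHom, MulAut.conj_apply] at h
        rwa [e] at h
    have h1 := Set.ncard_image_of_injective T hinj
    rw [himg] at h1
    exact (himg.trans (Set.eq_of_subset_of_ncard_le hsub h1.le (Set.toFinite _)).symm)
  have hX : Nat.card (Subgroup.zpowers w) = 3 := by rw [Nat.card_zpowers, orderOf_eq_prime hw hw1]
  have h := fix_modEq hX T fun x hx y hy => by
    obtain ⟨n, rfl⟩ := (mem_powers_iff_mem_zpowers (x := w)).2 hx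
    dsimp only
    clear hx
    induction n with
    | zero => simpa using hy
    | succ n ih =>
      rw [show w ^ (n + 1) * y * (w ^ (n + 1))⁻¹ = w * (w ^ n * y * (w ^ n)⁻¹) * w⁻¹ by
        rw [pow_succ', mul_inv_rev]; simp [mul_assoc]]
      exact hshift.subset ⟨_, ih, rfl⟩
  obtain ⟨y, hy⟩ : (fixD T (Subgroup.zpowers w)).Nonempty := by
    refine Set.nonempty_of_ncard_ne_zero fun h0 => ?_
    rw [h0, hcard] at h
    exact absurd h (by decide)
  exact (hall y hy.1.1.1.1.1).2.1 (mul_inv_eq_iff_eq_mul.2 ((mem_fixD.1 hy).2 w (Subgroup.mem_zpowers w)))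

end Cfsg.Agent.PrimeNorm
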