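/-
Elements of order three of SU(6,2): eigenspaces and isotropic vectors.

Main results (namespace `Cfsg.Agent.PrimeNorm`):
* `eig_dims` : the three dimensions add up to six and satisfy the determinant condition;
* `count_self_orth` : isotropic vectors orthogonal to their image, by eigenspaces;
* `count_eigvec` : isotropic eigenvectors;
* `three_counts` : `2079 = M + 8 K + 864` for non-central elements.
-/
import Cfsg.Agent.Lib.FischerM22.PrimeNorm.Linear

set_option autoImplicit false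

namespace Cfsg.Agent.PrimeNorm

open scoped Matrix
open Cfsg.Agent.Unitary Cfsg.Agent.U62Cover Cfsg.Agent.ThreeTransSU

variable {F : Type*} [Field F] [Fintype F]

theorem ncard_zero_insert {V : Type*} [Zero V] [Finite V] {P : V → Prop} (h : P 0) :
    Nat.card {v : V // P v} = Nat.card {v : V // v ≠ 0 ∧ P v} + 1 := by
  classical
  rw [← Nat.card_congr (Equiv.optionSubtypeNe (⟨0, h⟩ : {v : V // P v})), Finite.card_option]
  congr 1
  exact Nat.card_congr ((Equiv.subtypeEquivRight fun v => not_congr Subtype.ext_iff).trans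
    ((Equiv.subtypeSubtypeEquivSubtypeInter P (· ≠ 0)).trans (Equiv.subtypeEquivRight fun v => And.comm)))

theorem omega_ne (hF : Fintype.card F = 4) {ω : F} (hω : ω ^ 2 = ω + 1) :
    ω ≠ 0 ∧ ω ≠ 1 ∧ ω ^ 2 ≠ 0 ∧ (1 : F) ≠ ω ^ 2 ∧ ω ≠ ω ^ 2 := by
  have h0 : ω ≠ 0 := fun h => by simp [h] at hω
  have h1 : ω ≠ 1 := fun h => by rw [h, one_pow] at hω; exact one_ne_zero (add_self hF (1 : F) ▸ hω)
  exact ⟨h0, h1, pow_ne_zero 2 h0, fun h => h1 (by linear_combination (1 : F) * U62Cover.pow_three hF h0 + ω * h),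
    fun h => h1 (mul_left_cancel₀ h0 (by linear_combination -h))⟩

/-- The dimensions of the eigenspaces. -/
theorem eig_dims (hF : Fintype.card F = 4) {ω : F} (hω : ω ^ 2 = ω + 1) {g : Cfsg.SU 6 F 2} (hg : g ^ 3 = 1) :
    Module.finrank F (eig g 1) + Module.finrank F (eig g ω) + Module.finrank F (eig g (ω ^ 2)) = 6 ∧
      ω ^ (Module.finrank F (eig g ω) + 2 * Module.finrank F (eig g (ω ^ 2))) = 1 := by
  classical
  obtain ⟨hω0, hω1, hω20, n1, n2⟩ := omega_ne hF hω
  have H := herm (n := 6) hF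
  let T : Fin 3 → F := ![1, ω, ω ^ 2]
  have hT : ∀ i, T i ≠ 0 := by intro i; fin_cases i <;> simp [T, hω0]
  have hTinj : ∀ i j, i ≠ j → T i ≠ T j := by
    intro i j h
    fin_cases i <;> fin_cases j <;>
      first | exact absurd rfl h | simp [T, hω1, hω1.symm, n1, n1.symm, n2, n2.symm]
  choose b hb hbs using fun i => subspace_orthonormalBasis (card_sq hF) _ (eig_nondeg hF hω hg (hT i))
  set n : Fin 3 → ℕ := fun i => Module.finrank F (eig g (T i)) with hn
  let c : (Σ i, Fin (n i)) → (Fin 6 → F) := fun x => b x.1 x.2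
  have hmem : ∀ x : Σ i, Fin (n i), c x ∈ eig g (T x.1) := fun x =>
    (hbs x.1).symm ▸ Submodule.subset_span ⟨x.2, rfl⟩
  have hc : Unitary.Orthonormal (Cfsg.hermForm 6 F 2) c := by
    refine ⟨fun x => (hb x.1).1 x.2, fun x y hxy => ?_⟩
    by_cases e : x.1 = y.1
    · obtain ⟨i, u⟩ := x; obtain ⟨j, v⟩ := y; subst e
      exact (hb i).2 fun e => hxy (congrArg (Sigma.mk i) e)
    · exact hf_eig hF (hTinj _ _ e) (hT _) (hT _) (hmem x) (hmem y)
  have hli := Unitary.Orthonormal.linearIndependent H hc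
  have hle := hli.fintype_card_le_finrank
  rw [Module.finrank_fin_fun, Fintype.card_sigma, Fin.sum_univ_three] at hle
  simp only [Fintype.card_fin] at hle
  have hge := eig_finrank_sum hF hω hg
  have hsum : n 0 + n 1 + n 2 = 6 := le_antisymm hle hge
  refine ⟨hsum, ?_⟩
  let e : Fin 6 ≃ Σ i, Fin (n i) := (Fintype.equivFinOfCardEq (by
    rw [Fintype.card_sigma, Fin.sum_univ_three]; simpa only [Fintype.card_fin] using hsum)).symm
  let d : (Σ i, Fin (n i)) → F := fun x => T x.1
  set P : Matrix (Fin 6) (Σ i, Fin (n i)) F := Matrix.of fun i j => c j i with hP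
  have hMP : ((g : Matrix.SpecialLinearGroup (Fin 6) F) : Matrix (Fin 6) (Fin 6) F) * P = P * Matrix.diagonal d := by
    ext i j
    rw [Matrix.mul_diagonal, mul_comm (P i j)]
    exact congrFun (hmem j) i
  have hdet := congrArg (fun M : Matrix (Fin 6) (Σ i, Fin (n i)) F => (M.submatrix id e).det) hMP
  rw [Matrix.submatrix_mul _ _ id id e Function.bijective_id, Matrix.submatrix_id_id, Matrix.det_mul,
    (g : Matrix.SpecialLinearGroup (Fin 6) F).2, one_mul,
    ← Matrix.submatrix_mul_equiv P (Matrix.diagonal d) id e e,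
    Matrix.det_mul, Matrix.det_submatrix_equiv_self, Matrix.det_diagonal] at hdet
  have hP0 : (P.submatrix id e).det ≠ 0 := by
    refine fun h => ?_
    obtain ⟨x, hx, hx0⟩ := Matrix.exists_mulVec_eq_zero_iff.2 h
    refine hx (funext fun i => ?_)
    have hl := Fintype.linearIndependent_iff.1 hli (x ∘ e.symm) ?_ (e i)
    · simpa using hl
    · rw [← e.sum_comp]
      funext k
      have := congrFun hx0 k
      simpa [Matrix.mulVec, dotProduct, hP, Finset.sum_apply, mul_comm] using this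
  have hprod : ∏ i, d i = 1 := mul_left_cancel₀ hP0 (by rw [mul_one]; exact hdet.symm)
  rw [Fintype.prod_sigma, Fin.prod_univ_three] at hprod
  simp only [d, Finset.prod_const, Finset.card_univ, Fintype.card_fin] at hprod
  change (1 : F) ^ n 0 * ω ^ n 1 * (ω ^ 2) ^ n 2 = 1 at hprod
  rwa [one_pow, one_mul, ← pow_mul, ← pow_add] at hprod

theorem self_val (hF : Fintype.card F = 4) (v : Fin 6 → F) : hf v v = 0 ∨ hf v v = 1 :=
  Classical.or_iff_not_imp_left.2 fun h => fixed_eq_one hF ((herm hF).self_fixed _) h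

/-- The forms of a vector and its image in terms of the components. -/
theorem hf_sum (hF : Fintype.card F = 4) {ω : F} (hω : ω ^ 2 = ω + 1) {g : Cfsg.SU 6 F 2}
    {a b c : Fin 6 → F} (ha : a ∈ eig g 1) (hb : b ∈ eig g ω) (hc : c ∈ eig g (ω ^ 2)) :
    hf (a + b + c) (a + b + c) = hf a a + hf b b + hf c c ∧
      hf (a + b + c) (act g (a + b + c)) = hf a a + ω ^ 2 * hf b b + ω * hf c c := by
  obtain ⟨hω0, hω1, hω20, n1, n2⟩ := omega_ne hF hω
  have e1 := hf_eig hF hω1.symm one_ne_zero hω0 ha hb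
  have e2 := hf_eig hF n1 one_ne_zero hω20 ha hc
  have e3 := hf_eig hF hω1 hω0 one_ne_zero hb ha
  have e4 := hf_eig hF n2 hω0 hω20 hb hc
  have e5 := hf_eig hF n1.symm hω20 one_ne_zero hc ha
  have e6 := hf_eig hF n2.symm hω20 hω0 hc hb
  have h4 : ω ^ 4 = ω := by linear_combination ω * U62Cover.pow_three hF hω0
  constructor
  · simp only [hf_add_left hF, hf_add_right hF, e1, e2, e3, e4, e5, e6]; ring
  · rw [act_add, act_add, show act g a = (1 : F) • a from ha, show act g b = ω • b from hb,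
      show act g c = ω ^ 2 • c from hc]
    simp only [hf_add_left hF, hf_add_right hF, hf_smul_right hF, e1, e2, e3, e4, e5, e6]
    linear_combination hf c c * h4

/-- Isotropic vectors orthogonal to their image. -/
theorem count_self_orth (hF : Fintype.card F = 4) {ω : F} (hω : ω ^ 2 = ω + 1) {g : Cfsg.SU 6 F 2}
    (hg : g ^ 3 = 1) :
    Nat.card {v : Fin 6 → F // Iso v ∧ hf v (act g v) = 0} + 1 =
      (isoNum (Module.finrank F (eig g 1)) + 1) * (isoNum (Module.finrank F (eig g ω)) + 1) *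
        (isoNum (Module.finrank F (eig g (ω ^ 2))) + 1) := by
  obtain ⟨hω0, hω1, hω20, n1, n2⟩ := omega_ne hF hω
  have z0 : hf (0 : Fin 6 → F) 0 = 0 := (herm hF).zero_left 0
  have key : ∀ t : F, t ≠ 0 → isoNum (Module.finrank F (eig g t)) + 1 =
      Nat.card {v : Fin 6 → F // v ∈ eig g t ∧ hf v v = 0} := fun t ht => by
    rw [← iso_count hF _ (eig_nondeg hF hω hg ht),
      ncard_zero_insert (P := fun v : Fin 6 → F => v ∈ eig g t ∧ hf v v = 0) ⟨zero_mem _, z0⟩]
    exact congrArg (· + 1) (Nat.card_congr (Equiv.subtypeEquivRight fun v => by unfold Iso; tauto))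
  have el : Nat.card {v : Fin 6 → F // Iso v ∧ hf v (act g v) = 0} + 1 =
      Nat.card {v : Fin 6 → F // hf v v = 0 ∧ hf v (act g v) = 0} := by
    rw [ncard_zero_insert (P := fun v : Fin 6 → F => hf v v = 0 ∧ hf v (act g v) = 0)
      ⟨z0, (herm hF).zero_left _⟩]
    exact congrArg (· + 1) (Nat.card_congr (Equiv.subtypeEquivRight fun v => by unfold Iso; tauto))
  rw [el, key 1 one_ne_zero, key ω hω0, key _ hω20, ← Nat.card_prod, ← Nat.card_prod]
  symm
  refine Nat.card_congr (Equiv.ofBijective (fun x => ⟨x.1.1.1 + x.1.2.1 + x.2.1, ?_⟩) ⟨fun x y e => ?_, fun v => ?_⟩)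
  · obtain ⟨e1, e2⟩ := hf_sum hF hω x.1.1.2.1 x.1.2.2.1 x.2.2.1
    rw [e1, e2, x.1.1.2.2, x.1.2.2.2, x.2.2.2]
    simp
  · have e' : x.1.1.1 + x.1.2.1 + x.2.1 = y.1.1.1 + y.1.2.1 + y.2.1 := congrArg Subtype.val e
    set a := x.1.1.1 - y.1.1.1
    set b := x.1.2.1 - y.1.2.1
    set c := x.2.1 - y.2.1
    have ha : a ∈ eig g 1 := sub_mem x.1.1.2.1 y.1.1.2.1
    have hb : b ∈ eig g ω := sub_mem x.1.2.2.1 y.1.2.2.1
    have hc : c ∈ eig g (ω ^ 2) := sub_mem x.2.2.1 y.2.2.1
    have h0 : a + b + c = 0 := by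
      simp only [a, b, c]
      rw [← sub_eq_zero] at e'
      rw [← e']
      abel
    have ea : a = 0 := eig_nondeg hF hω hg one_ne_zero a ha fun u hu => by
      have := congrArg (hf · u) h0
      simp only [hf_add_left hF, hf_eig hF hω1 hω0 one_ne_zero hb hu, hf_eig hF n1.symm hω20 one_ne_zero hc hu,
        add_zero] at this
      exact this.trans ((herm hF).zero_left u)
    have eb : b = 0 := eig_nondeg hF hω hg hω0 b hb fun u hu => by
      have := congrArg (hf · u) h0
      simp only [hf_add_left hF, hf_eig hF hω1.symm one_ne_zero hω0 ha hu, hf_eig hF n2.symm hω20 hω0 hc hu,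
        add_zero, zero_add] at this
      exact this.trans ((herm hF).zero_left u)
    rw [ea, eb, zero_add, zero_add] at h0
    exact Prod.ext (Prod.ext (Subtype.ext (sub_eq_zero.1 ea)) (Subtype.ext (sub_eq_zero.1 eb)))
      (Subtype.ext (sub_eq_zero.1 h0))
  · have hm := proj_mem hF hg one_ne_zero v.1
    have hm' := proj_mem hF hg hω0 v.1
    have hm'' := proj_mem hF hg hω20 v.1
    obtain ⟨e1, e2⟩ := hf_sum hF hω hm hm' hm''
    rw [proj_sum hF hω g v.1, v.2.1] at e1
    rw [proj_sum hF hω g v.1, v.2.2] at e2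
    have hz : hf (proj g 1 v.1) (proj g 1 v.1) = 0 ∧ hf (proj g ω v.1) (proj g ω v.1) = 0 ∧
        hf (proj g (ω ^ 2) v.1) (proj g (ω ^ 2) v.1) = 0 := by
      have h2 := two_eq_zero hF
      rcases self_val hF (proj g 1 v.1) with a | a <;> rcases self_val hF (proj g ω v.1) with b | b <;>
        rcases self_val hF (proj g (ω ^ 2) v.1) with c | c <;> rw [a, b, c] at e1 e2 <;>
        simp only [a, b, c, and_self] <;> exfalso <;>
        first
        | exact one_ne_zero (show (1 : F) = 0 by linear_combination -e1)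
        | exact one_ne_zero (show (1 : F) = 0 by linear_combination -e1 - h2)
        | exact hω1 (show ω = 1 by linear_combination -e2 - h2)
        | exact n1 (show (1 : F) = ω ^ 2 by linear_combination -e2 - ω ^ 2 * h2)
        | exact one_ne_zero (show (1 : F) = 0 by linear_combination -e2 - hω - ω * h2)
    exact ⟨((⟨_, hm, hz.1⟩, ⟨_, hm', hz.2.1⟩), ⟨_, hm'', hz.2.2⟩), Subtype.ext (proj_sum hF hω g v.1)⟩

/-- Isotropic eigenvectors. -/
theorem count_eigvec (hF : Fintype.card F = 4) {ω : F} (hω : ω ^ 2 = ω + 1) {g : Cfsg.SU 6 F 2}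
    (hg : g ^ 3 = 1) :
    Nat.card {v : Fin 6 → F // Iso v ∧ ∃ c : F, c ≠ 0 ∧ act g v = c • v} =
      isoNum (Module.finrank F (eig g 1)) + isoNum (Module.finrank F (eig g ω)) +
        isoNum (Module.finrank F (eig g (ω ^ 2))) := by
  obtain ⟨hω0, hω1, hω20, n1, n2⟩ := omega_ne hF hω
  have hdis : ∀ s t : F, s ≠ t → Disjoint {v | v ∈ eig g s ∧ Iso v} {v | v ∈ eig g t ∧ Iso v} := fun s t hst =>
    Set.disjoint_left.2 fun x hx hx' => hx.2.1 (by
      have e : (s - t) • x = 0 := by rw [sub_smul, ← (hx.1 : act g x = _), ← (hx'.1 : act g x = _), sub_self]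
      exact (smul_eq_zero.1 e).resolve_left (sub_ne_zero.2 hst))
  have hset : {v : Fin 6 → F | Iso v ∧ ∃ c : F, c ≠ 0 ∧ act g v = c • v} =
      {v | v ∈ eig g 1 ∧ Iso v} ∪ {v | v ∈ eig g ω ∧ Iso v} ∪ {v | v ∈ eig g (ω ^ 2) ∧ Iso v} := by
    ext v
    simp only [Set.mem_union, Set.mem_ofPred_eq]
    constructor
    · rintro ⟨hv, c, hc, e⟩
      rcases four_cases hF hω c with rfl | rfl | rfl | rfl
      exacts [absurd rfl hc, Or.inl (Or.inl ⟨e, hv⟩), Or.inl (Or.inr ⟨e, hv⟩), Or.inr ⟨e, hv⟩]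
    · rintro ((⟨e, hv⟩ | ⟨e, hv⟩) | ⟨e, hv⟩)
      exacts [⟨hv, 1, one_ne_zero, e⟩, ⟨hv, ω, hω0, e⟩, ⟨hv, _, hω20, e⟩]
  have e0 : Nat.card {v : Fin 6 → F // Iso v ∧ ∃ c : F, c ≠ 0 ∧ act g v = c • v} =
      {v : Fin 6 → F | Iso v ∧ ∃ c : F, c ≠ 0 ∧ act g v = c • v}.ncard := Nat.card_coe_set_eq _
  rw [e0, hset, Set.ncard_union_eq (Disjoint.union_left (hdis _ _ n1) (hdis _ _ n2)) (Set.toFinite _) (Set.toFinite _),
    Set.ncard_union_eq (hdis _ _ hω1.symm) (Set.toFinite _) (Set.toFinite _),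
    ← iso_count hF _ (eig_nondeg hF hω hg one_ne_zero), ← iso_count hF _ (eig_nondeg hF hω hg hω0),
    ← iso_count hF _ (eig_nondeg hF hω hg hω20)]
  rfl

/-- The counts for a non-central element of order three. -/
theorem three_counts (hF : Fintype.card F = 4) {g : Cfsg.SU 6 F 2} (hg : g ^ 3 = 1)
    (hnc : g ∉ Subgroup.center (Cfsg.SU 6 F 2)) :
    2079 = Nat.card {v : Fin 6 → F // Iso v ∧ hf v (act g v) = 0} +
      8 * Nat.card {v : Fin 6 → F // Iso v ∧ ∃ c : F, c ≠ 0 ∧ act g v = c • v} + 864 := by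
  obtain ⟨ω, hω0, hω⟩ := U62Cover.exists_omega hF
  obtain ⟨-, hω1, hω20, n1, n2⟩ := omega_ne hF hω
  obtain ⟨hsum, hdet⟩ := eig_dims hF hω hg
  have h6 : ∀ t : F, Module.finrank F (eig g t) ≠ 6 := by
    intro t h
    have htop : eig g t = ⊤ := Submodule.eq_top_of_finrank_eq (by rw [h, Module.finrank_fin_fun])
    refine hnc (Subgroup.mem_center_iff.2 fun B => act_ext fun v => ?_)
    have hall : ∀ w, act g w = t • w := fun w => (htop ▸ Submodule.mem_top : w ∈ eig g t)
    rw [act_mul, act_mul, hall, hall, act_smul]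
  have h1 := count_self_orth hF hω hg
  rw [count_eigvec hF hω hg]
  have a6 := h6 1
  have b6 := h6 ω
  have c6 := h6 (ω ^ 2)
  have hmod : ∀ m, ω ^ m = 1 → m % 3 = 0 := by
    intro m hm
    have e : ω ^ (m % 3) = 1 := by
      rwa [← Nat.mod_add_div m 3, pow_add, pow_mul, U62Cover.pow_three hF hω0, one_pow, mul_one] at hm
    rcases (show m % 3 = 0 ∨ m % 3 = 1 ∨ m % 3 = 2 by omega) with h | h | h
    · exact h
    · rw [h, pow_one] at e; exact absurd e hω1
    · rw [h] at e; exact absurd e.symm n1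
  have hm := hmod _ hdet
  generalize Module.finrank F (eig g 1) = a at *
  generalize Module.finrank F (eig g ω) = b at *
  generalize Module.finrank F (eig g (ω ^ 2)) = c at *
  generalize Nat.card {v : Fin 6 → F // Iso v ∧ hf v (act g v) = 0} = M at *
  have : a ≤ 5 := by omega
  have : b ≤ 5 := by omega
  have : c ≤ 5 := by omega
  interval_cases a <;> interval_cases b <;> interval_cases c <;>
    first | omega | (simp only [isoNum] at *; omega)

end Cfsg.Agent.PrimeNorm
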