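/-
The local group of a member and an element of order five in a group of type M(22).

Main results (namespace `Cfsg.Agent.PrimeNorm`):
* `five_plane` : the neighbours centralising `X` are the three points of a plane;
* `five_petersen` : the members centralising `X` have the shape of the Petersen graph;
* `five_core` : only `X` centralises `X` and all those members;
* `chain_exists`, `chain_perp` : four neighbours in a chain, their three common commuting neighbours.
-/
import Cfsg.Agent.Lib.FischerM22.PrimeNorm.FiveLin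
import Cfsg.Agent.Lib.FischerM22.PrimeNorm.Petersen

set_option autoImplicit false

namespace Cfsg.Agent.PrimeNorm

open Cfsg.Agent.Unitary Cfsg.Agent.U62Cover Cfsg.Agent.ThreeTrans Cfsg.Agent.ThreeTransSU Cfsg.Agent.FischerM22

variable {G : Type*} [Group G] [Finite G] {D : Set G}

theorem gen_of_card {p : ℕ} [hp : Fact p.Prime] {X : Subgroup G} (hX : Nat.card X = p) :
    ∃ x ∈ X, x ≠ 1 ∧ x ^ p = 1 ∧ ∀ z ∈ X, ∃ k : ℕ, z = x ^ k := by
  obtain ⟨x, hx, hx1⟩ : ∃ x ∈ X, x ≠ 1 := by
    refine (Subgroup.bot_or_exists_ne_one X).resolve_left fun h => ?_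
    rw [h, Subgroup.card_bot] at hX
    exact hp.out.ne_one hX.symm
  refine ⟨x, hx, hx1, ?_, fun z hz => ?_⟩
  · have := pow_card_eq_one' (x := (⟨x, hx⟩ : X))
    rw [hX] at this
    exact congrArg Subtype.val this
  · obtain ⟨k, hk⟩ := Submonoid.mem_powers_iff _ _ |>.1
      (mem_powers_of_prime_card (p := p) hX (g := (⟨x, hx⟩ : X)) (g' := ⟨z, hz⟩) fun e => hx1 (congrArg Subtype.val e))
    exact ⟨k, by rw [← SubmonoidClass.coe_pow ⟨x, hx⟩ k, hk]⟩

/-- The lift of `X` and its plane. -/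
theorem five_plane (S : Fi22Setup D) {X : Subgroup G} (hX : Nat.card X = 5) {a : G} (ha : a ∈ fixD D X)
    {F : Type*} [Field F] [Fintype F] {pt : (Fin 6 → F) → G} {θ : ↥(Loc D a) →* Cfsg.PSU 6 F 2}
    (L : LocModel D a pt θ) :
    ∃ (x : ↥(Loc D a)) (A : Cfsg.SU 6 F 2), (x : G) ∈ X ∧ A ^ 5 = 1 ∧ A ≠ 1 ∧ toPSU 6 F A = θ x ∧
      ∀ v, Iso v → ((∀ z ∈ X, Commute z (pt v)) ↔ v ∈ eig A 1) := by
  have := Fact.mk (by norm_num : Nat.Prime 5)
  have hF := L.M.card
  obtain ⟨x, hx, hx1, hx5, hgen⟩ := gen_of_card hX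
  have hxL : x ∈ Loc D a := by rw [← centralizer_eq_loc S ha.1]; exact le_cent ha hx
  obtain ⟨A, hA, hAθ⟩ := lift_prime L (x := ⟨x, hxL⟩) (p := 5) (Subtype.ext (by rw [Subgroup.coe_pow]; exact hx5))
  have h3x : x = (x ^ 3) ^ 2 := by rw [← pow_mul, show 3 * 2 = 5 + 1 from rfl, pow_succ, hx5, one_mul]
  refine ⟨(⟨x, hxL⟩ : ↥(Loc D a)) ^ 3, A, by rw [Subgroup.coe_pow]; exact pow_mem hx 3, hA, fun h1 => hx1 ?_, hAθ,
    fun v hv => ⟨fun h => ?_, fun h z hz => ?_⟩⟩
  · rw [h1, map_one] at hAθ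
    have h6 : x ^ 6 = 1 := by
      rcases (mem_center_loc_iff S ha.1 _).1 (L.ker _ hAθ.symm) with h | h <;>
        rw [Subgroup.coe_pow] at h <;> rw [show 6 = 3 * 2 from rfl, pow_mul, show x ^ 3 = _ from h]
      · exact one_pow 2
      · rw [pow_two, mul_self S.cls.1 ha.1]
    rw [pow_succ, hx5, one_mul] at h6
    exact h6
  · have e := L.conj_pt S ha.1 hAθ.symm hv
    rw [Subgroup.coe_pow, ((h x hx).pow_left 3).eq, mul_inv_cancel_right] at e
    obtain ⟨c, hc, hcv⟩ := L.M.inj _ _ hv (hv.act A) e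
    have hk : ∀ k : ℕ, act (A ^ k) v = c ^ k • v := by
      intro k
      induction k with
      | zero => rw [pow_zero, act_one, pow_zero, one_smul]
      | succ k ih => rw [pow_succ, act_mul, hcv, act_smul, ih, smul_smul, pow_succ']
    have h5 := hk 5
    rw [hA, act_one] at h5
    have hc5 : c ^ 5 = 1 := by
      by_contra hne
      have e0 : (c ^ 5 - 1) • v = 0 := by rw [sub_smul, one_smul, ← h5, sub_self]
      exact hv.1 ((smul_eq_zero.1 e0).resolve_left (sub_ne_zero.2 hne))
    have hc1 : c = 1 := by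
      have h3 := U62Cover.pow_three hF hc
      linear_combination (c ^ 3 + 1) * h3 - c * hc5
    rw [mem_eig_one, hcv, hc1, one_smul]
  · have e := L.conj_pt S ha.1 hAθ.symm hv
    rw [mem_eig_one.1 h, Subgroup.coe_pow] at e
    have h3 : Commute (x ^ 3) (pt v) := mul_inv_eq_iff_eq_mul.1 e
    obtain ⟨k, rfl⟩ := hgen z hz
    refine Commute.pow_left ?_ k
    rw [h3x]
    exact h3.pow_left 2

theorem five_petersen (S : Fi22Setup D) {X : Subgroup G} (hX : Nat.card X = 5) (hne : (fixD D X).Nonempty) :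
    Petersen D (fixD D X) := by
  have := Fact.mk (by norm_num : Nat.Prime 5)
  have hconj : ∀ g : G, ∀ d ∈ D, g * d * g⁻¹ ∈ D := fun g d hd => S.conj_mem g hd
  have key : ∀ a ∈ fixD D X, (fixD D X ∩ adj D a).ncard = 3 ∧
      ∀ b ∈ fixD D X ∩ adj D a, ∀ c ∈ fixD D X ∩ adj D a, b ≠ c → ¬ Commute b c := by
    intro a ha
    obtain ⟨F, _, _, pt, θ, L⟩ := exists_locModel S ha.1
    obtain ⟨x, A, -, hA, hA1, -, hP⟩ := five_plane S hX ha L
    obtain ⟨h1, h2⟩ := three_points L.M (fix_nondeg L.M.card (p := 5) (by decide) hA) (fix_five L.M.card hA hA1)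
      (fun y => ∀ z ∈ X, Commute z y) hP
    have e : fixD D X ∩ adj D a = {y | y ∈ adj D a ∧ ∀ z ∈ X, Commute z y} := by
      ext y
      exact ⟨fun h => ⟨h.2, (mem_fixD.1 h.1).2⟩, fun h => ⟨mem_fixD.2 ⟨h.1.1, h.2⟩, h.1⟩⟩
    rw [e]
    exact ⟨h1, h2⟩
  refine ⟨fun a ha => ha.1, hne, fun a ha => (key a ha).1, fun a ha => (key a ha).2, ?_,
    fun a ha b hb => conj_fixD hconj (Subgroup.centralizer_le_normalizer _ ha.2) hb⟩
  intro a ha e he hae
  have hS : ∀ x ∈ X, ∀ y ∈ common D a e, x * y * x⁻¹ ∈ common D a e := fun x hx y hy => by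
    have hxa : x * a * x⁻¹ = a := mul_inv_eq_iff_eq_mul.2 ((mem_fixD.1 ha).2 x hx)
    have hxe : x * e * x⁻¹ = e := mul_inv_eq_iff_eq_mul.2 ((mem_fixD.1 he).2 x hx)
    have h1 := (conj_adj hconj x a (x * y * x⁻¹)).2 (by simpa [mul_assoc] using hy.1)
    have h2 := (conj_adj hconj x e (x * y * x⁻¹)).2 (by simpa [mul_assoc] using hy.2)
    rw [hxa] at h1
    rw [hxe] at h2
    exact ⟨h1, h2⟩
  have h := fix_modEq hX (common D a e) hS
  rw [common_card S ha.1 he.1 hae] at h
  have heq : fixD (common D a e) X = fixD D X ∩ adj D a ∩ adj D e := by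
    ext y
    exact ⟨fun hy => ⟨⟨⟨hy.1.1.1, hy.2⟩, hy.1.1⟩, hy.1.2⟩, fun hy => ⟨⟨hy.1.2, hy.2⟩, hy.1.1.2⟩⟩
  rw [heq] at h
  have hle : (fixD D X ∩ adj D a ∩ adj D e).ncard ≤ 3 :=
    (Set.ncard_le_ncard Set.inter_subset_left (Set.toFinite _)).trans (key a ha).1.le
  have h' : 126 % 5 = (fixD D X ∩ adj D a ∩ adj D e).ncard % 5 := h
  omega

/-- Only `X` centralises `X` and all members centralising it. -/
theorem five_core (S : Fi22Setup D) {X : Subgroup G} (hX : Nat.card X = 5) (hne : (fixD D X).Nonempty) :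
    Nat.card ↥(Subgroup.centralizer (X : Set G) ⊓ Subgroup.centralizer (fixD D X)) = 5 := by
  have := Fact.mk (by norm_num : Nat.Prime 5)
  have hD := S.cls.1
  have P := five_petersen S hX hne
  obtain ⟨a, ha⟩ := hne
  obtain ⟨b, hb, -⟩ := Set.exists_ne_of_one_lt_ncard (by rw [P.deg a ha]; norm_num : 1 < (fixD D X ∩ adj D a).ncard) a
  set K := Subgroup.centralizer (X : Set G) ⊓ Subgroup.centralizer (fixD D X)
  have memK : ∀ {g}, g ∈ K → (∀ x ∈ X, Commute x g) ∧ ∀ t ∈ fixD D X, Commute t g := fun {g} hg =>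
    ⟨Subgroup.mem_centralizer_iff.1 hg.1, Subgroup.mem_centralizer_iff.1 hg.2⟩
  have h2 : ¬ 2 ∣ Nat.card K := fun h => by
    have := Fact.mk Nat.prime_two
    obtain ⟨y, hy⟩ := exists_prime_orderOf_dvd_card' 2 h
    obtain ⟨hyX, hyT⟩ := memK y.2
    have hy2 : (y : G) * y = 1 := by
      have := pow_orderOf_eq_one y
      rw [hy, pow_two] at this
      exact congrArg Subtype.val this
    have hy1 : (y : G) ≠ 1 := fun e => by
      rw [show y = 1 from Subtype.ext e, orderOf_one] at hy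
      norm_num at hy
    obtain ⟨m, m1, m3, hp⟩ := involution_prod S hy2 hy1
    rcases isProd_cases m1 m3 hp with ⟨-, hmem⟩ | ⟨-, u, hu, w, hw, e⟩ | ⟨-, u, v, w, hT, e⟩
    · have hyF : (y : G) ∈ fixD D X := mem_fixD.2 ⟨hmem, hyX⟩
      have h3 := P.deg _ hyF
      have hsub : fixD D X \ {(y : G)} ⊆ fixD D X ∩ adj D (y : G) := fun t ht =>
        ⟨ht.1, ht.1.1, ht.2, (hyT t ht.1).symm⟩
      have := Set.ncard_le_ncard hsub (Set.toFinite _)
      rw [Set.ncard_sdiff_singleton_of_mem hyF, (P.sym_five hD).1, h3] at this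
      omega
    · obtain ⟨h1, h1'⟩ := pair_fixed S hX (by norm_num) hu hw e.symm hyX
      obtain ⟨c, hc, hcw⟩ := Set.exists_ne_of_one_lt_ncard
        (by rw [P.deg u h1]; norm_num : 1 < (fixD D X ∩ adj D u).ncard) w
      refine P.tri u h1 w ⟨h1', hw⟩ c hc hcw.symm ?_
      have hcy : Commute c (u * w) := e ▸ hyT c hc.1
      have := (hc.2.2.2.symm.inv_right).mul_right hcy
      rw [inv_mul_cancel_left] at this
      exact this.symm
    · obtain ⟨h1, h1', h1''⟩ := triple_fixed S hX (by norm_num) hT (fun x hx => e ▸ hyX x hx)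
      obtain ⟨hu, hv, hw, n1, n2, n3, c1, c2, c3⟩ := hT
      exact P.tri u h1 v ⟨h1', hv, n1.symm, c1⟩ w ⟨h1'', hw, n2.symm, c2⟩ n3 c3
  have h3 : ¬ 3 ∣ Nat.card K := fun h => by
    have := Fact.mk Nat.prime_three
    obtain ⟨y, hy⟩ := exists_prime_orderOf_dvd_card' 3 h
    obtain ⟨hyX, hyT⟩ := memK y.2
    have hy3 : (y : G) ^ 3 = 1 := by rw [← hy, ← Subgroup.coe_pow, pow_orderOf_eq_one, Subgroup.coe_one]
    obtain ⟨F, _, _, pt, θ, L⟩ := exists_locModel S ha.1
    have hF := L.M.card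
    obtain ⟨x, A, hxX, hA, hA1, hAθ, hP⟩ := five_plane S hX ha L
    have hyL : (y : G) ∈ Loc D a := by
      rw [← centralizer_eq_loc S ha.1]; exact Subgroup.mem_centralizer_singleton_iff.2 (hyT a ha).symm
    let Y : ↥(Loc D a) := ⟨y, hyL⟩
    obtain ⟨g, hg⟩ := QuotientGroup.mk'_surjective _ (θ Y)
    have hcomm : Commute g A := lift_commute hF (by norm_num) hA (by
      rw [hAθ, show toPSU 6 F g = θ Y from hg]
      exact (show Commute Y x from Subtype.ext (hyX x hxX).symm).map θ)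
    have hg3 : g ^ 3 ∈ Subgroup.center (Cfsg.SU 6 F 2) := toPSU_eq_one.1 (by
      rw [map_pow, hg, ← map_pow, show Y ^ 3 = 1 from Subtype.ext (by rw [Subgroup.coe_pow]; exact hy3), map_one])
    have heigen : ∀ v ∈ eig A 1, Iso v → ∃ c : F, c ≠ 0 ∧ act g v = c • v := fun v hv hi => by
      have hmem : pt v ∈ fixD D X := mem_fixD.2 ⟨(L.M.mem v hi).1, (hP v hi).2 hv⟩
      have e := L.conj_pt S ha.1 hg.symm hi
      rw [show ((Y : ↥(Loc D a)) : G) = (y : G) from rfl, (hyT _ hmem).symm.eq, mul_inv_cancel_right] at e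
      exact L.M.inj _ _ hi (hi.act g) e
    have hnd := fix_nondeg hF (p := 5) (by decide) hA
    have h2 := fix_five hF hA hA1
    obtain ⟨u, hu, iu⟩ := exists_iso_mem hF (W := eig A 1) h2.ge
    obtain ⟨w0, hw0, iw0, hne⟩ : ∃ w ∈ eig A 1, Iso w ∧ hf u w ≠ 0 := by
      by_contra hno
      have h9 := iso_count hF _ hnd
      rw [h2] at h9
      let f : {v : Fin 6 → F // v ∈ eig A 1 ∧ Iso v} → {t : F // t ≠ 0} := fun v =>
        ⟨(plane_orth hF hnd h2 hu v.2.1 iu v.2.2 (by_contra fun h => hno ⟨v, v.2.1, v.2.2, h⟩)).choose,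
          (plane_orth hF hnd h2 hu v.2.1 iu v.2.2 (by_contra fun h => hno ⟨v, v.2.1, v.2.2, h⟩)).choose_spec.1⟩
      have hf' : Function.Injective f := fun v w e => Subtype.ext (by
        have h1 := (plane_orth hF hnd h2 hu v.2.1 iu v.2.2 (by_contra fun h => hno ⟨v, v.2.1, v.2.2, h⟩)).choose_spec.2
        have h1' := (plane_orth hF hnd h2 hu w.2.1 iu w.2.2 (by_contra fun h => hno ⟨w, w.2.1, w.2.2, h⟩)).choose_spec.2
        exact h1.trans ((congrArg (fun t : {t : F // t ≠ 0} => t.1 • u) e).trans h1'.symm))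
      have := Nat.card_le_card_of_injective f hf'
      rw [h9, show isoNum 2 = 9 from rfl] at this
      have h4 := Nat.card_le_card_of_injective (Subtype.val : {t : F // t ≠ 0} → F) Subtype.val_injective
      rw [Nat.card_eq_fintype_card (α := F), hF] at h4
      omega
    have hc0 : ((hf u w0)⁻¹) ^ 2 ≠ 0 := pow_ne_zero _ (inv_ne_zero hne)
    set w := ((hf u w0)⁻¹) ^ 2 • w0 with hwdef
    have h1 : hf u w = 1 := by
      rw [hwdef, hf_smul_right hF, show (((hf u w0)⁻¹) ^ 2) ^ 2 = (hf u w0)⁻¹ from pow_q_pow_q (card_sq hF) _,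
        inv_mul_cancel₀ hne]
    have hw : w ∈ eig A 1 := Submodule.smul_mem _ _ hw0
    have iw : Iso w := iw0.smul hF hc0
    have hli := li_of_not_orth hF iu (by rw [h1]; exact one_ne_zero)
    have iuw : Iso (u + w) := by
      refine ⟨fun h => ?_, ?_⟩
      · have := congrArg (fun z => hf z w) h
        simp only [hf_add_left hF, hf_zero_left hF, h1, iw.2, add_zero] at this
        exact one_ne_zero this
      · rw [hf_add_left hF, hf_add_right hF, hf_add_right hF, iu.2, iw.2, h1, hf_eq_one_symm hF h1]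
        linear_combination two_eq_zero hF
    obtain ⟨α, hα, hgu⟩ := heigen u hu iu
    obtain ⟨β, -, hgw⟩ := heigen w hw iw
    obtain ⟨γ, -, hguw⟩ := heigen _ (add_mem hu hw) iuw
    rw [act_add, hgu, hgw, smul_add] at hguw
    have hpair := LinearIndependent.pair_iff.1 hli (α - γ) (β - γ) (by
      rw [sub_smul, sub_smul, sub_add_sub_comm, hguw, sub_self])
    have hle : eig A 1 ≤ eig g α := by
      have hspan : Submodule.span F (Set.range ![u, w]) = eig A 1 := by
        refine Submodule.eq_of_le_of_finrank_le (Submodule.span_le.2 ?_) ?_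
        · rintro _ ⟨j, rfl⟩
          fin_cases j
          exacts [hu, hw]
        · rw [finrank_span_eq_card hli, Fintype.card_fin, h2]
      rw [← hspan, Submodule.span_le]
      rintro _ ⟨j, rfl⟩
      fin_cases j
      · exact hgu
      · show act g w = α • w
        rw [hgw, sub_eq_zero.1 hpair.1, sub_eq_zero.1 hpair.2]
    have hθ : θ Y = 1 := hg ▸ toPSU_eq_one.2 (central_of_cube_five hF hA hA1 hcomm hg3 hα hle)
    rcases (mem_center_loc_iff S ha.1 Y).1 (L.ker _ hθ) with h | h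
    · rw [show y = 1 from Subtype.ext h, orderOf_one] at hy
      norm_num at hy
    · rw [show (y : G) = a from h, pow_succ, pow_two, mul_self hD ha.1, one_mul] at hy3
      exact ne_one hD ha.1 hy3
  have hdvd : Nat.card K ∣ 26542080 := by
    rw [← pair_fix_card S ha.1 hb.2]
    refine Subgroup.card_dvd_of_le (le_inf ?_ ?_) <;> intro g hg <;>
      exact Subgroup.mem_centralizer_singleton_iff.2 ((memK hg).2 _ (by first | exact ha | exact hb.1)).symm
  have h5 : 5 ∣ Nat.card K := by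
    rw [← hX]
    refine Subgroup.card_dvd_of_le (le_inf (fun z hz => Subgroup.mem_centralizer_iff.2 fun w hw => ?_)
      fun z hz => Subgroup.mem_centralizer_iff.2 fun t ht => ((mem_fixD.1 ht).2 z hz).symm)
    obtain ⟨x, -, -, -, hgen⟩ := gen_of_card (p := 5) hX
    obtain ⟨i, rfl⟩ := hgen w hw
    obtain ⟨j, rfl⟩ := hgen z hz
    exact Commute.pow_pow_self x i j
  have c2 := ((Nat.prime_two.coprime_iff_not_dvd.2 h2).symm).pow_right 16
  have c3 := ((Nat.prime_three.coprime_iff_not_dvd.2 h3).symm).pow_right 4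
  exact Nat.dvd_antisymm ((c2.mul_right c3).dvd_of_dvd_mul_right (by simpa using hdvd)) h5

/-! ### chains -/

/-- Four neighbours of a member in a chain. -/
def IsChain4 (D : Set G) (a : G) (t : Fin 4 → G) : Prop :=
  (∀ i, t i ∈ adj D a) ∧ ¬ Commute (t 0) (t 1) ∧ ¬ Commute (t 1) (t 2) ∧ ¬ Commute (t 2) (t 3) ∧
    Commute (t 0) (t 2) ∧ Commute (t 0) (t 3) ∧ Commute (t 1) (t 3)

theorem chain_exists (S : Fi22Setup D) {a : G} (ha : a ∈ D) : ∃ t, IsChain4 D a t := by
  obtain ⟨F, _, _, pt, θ, L⟩ := exists_locModel S ha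
  have hF := L.M.card
  let v : Fin 4 → Fin 6 → F := fun i => Pi.single i.castSucc.castSucc 1 + Pi.single i.succ.castSucc 1
  have hval : ∀ i j : Fin 4, hf (v i) (v j) =
      ((if i.castSucc.castSucc = j.castSucc.castSucc then (1 : F) else 0) +
        if i.castSucc.castSucc = j.succ.castSucc then 1 else 0) +
      ((if i.succ.castSucc = j.castSucc.castSucc then 1 else 0) +
        if i.succ.castSucc = j.succ.castSucc then 1 else 0) := by
    intro i j
    have he : ∀ k l : Fin 6, hf (Pi.single k (1 : F)) (Pi.single l 1) = if k = l then 1 else 0 := fun k l => by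
      split_ifs with h
      · exact h ▸ (single_orthonormal (card_sq hF) 6).1 k
      · exact (single_orthonormal (card_sq hF) 6).2 h
    simp only [v, hf_add_left hF, hf_add_right hF, he]
  have hiso : ∀ i, Iso (v i) := fun i => by
    refine ⟨fun h => ?_, ?_⟩
    · have := congrFun h i.castSucc.castSucc
      simp [v, Fin.ext_iff] at this
    · rw [hval]
      simp [Fin.ext_iff, add_self hF]
  have hc : ∀ i j, Commute (pt (v i)) (pt (v j)) ↔ hf (v i) (v j) = 0 := fun i j => L.M.comm _ _ (hiso i) (hiso j)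
  refine ⟨fun i => pt (v i), fun i => L.M.mem _ (hiso i), ?_, ?_, ?_, ?_, ?_, ?_⟩ <;>
    simp only [hc, hval] <;> simp

/-- The neighbours of `b` commuting with a chain. -/
theorem chain_perp (S : Fi22Setup D) {b : G} (hb : b ∈ D) {t : Fin 4 → G} (ht : IsChain4 D b t) :
    {y | y ∈ adj D b ∧ ∀ i, Commute y (t i)}.ncard = 3 := by
  obtain ⟨F, _, _, pt, θ, L⟩ := exists_locModel S hb
  have hF := L.M.card
  obtain ⟨hadj, n01, n12, n23, c02, c03, c13⟩ := ht
  choose v hv hvt using fun i => L.M.surj (t i) (hadj i)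
  have hz : ∀ {i j}, Commute (t i) (t j) → hf (v i) (v j) = 0 := fun {i j} h =>
    (L.M.comm _ _ (hv i) (hv j)).1 (by rw [hvt, hvt]; exact h)
  have hn : ∀ {i j}, ¬ Commute (t i) (t j) → hf (v i) (v j) ≠ 0 := fun {i j} h e => h (by
    rw [← hvt i, ← hvt j]; exact (L.M.comm _ _ (hv i) (hv j)).2 e)
  have hself : ∀ i, hf (v i) (v i) = 0 := fun i => (hv i).2
  have sys : ∀ x : Fin 4 → F, (∀ j, hf (∑ i, x i • v i) (v j) = 0) → ∀ i, x i = 0 := by
    intro x hx
    have e : ∀ j, x 0 * hf (v 0) (v j) + x 1 * hf (v 1) (v j) + x 2 * hf (v 2) (v j) + x 3 * hf (v 3) (v j) = 0 := by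
      intro j
      have h := hx j
      rw [Fin.sum_univ_four, hf_add_left hF, hf_add_left hF, hf_add_left hF, hf_smul_left hF, hf_smul_left hF,
        hf_smul_left hF, hf_smul_left hF] at h
      exact h
    have e0 := e 0
    rw [hself, hz c02.symm, hz c03.symm] at e0
    have x1 : x 1 = 0 := by
      simpa [hn (fun h => n01 h.symm)] using e0
    have e2 := e 2
    rw [hz c02, hself, x1] at e2
    have x3 : x 3 = 0 := by
      simpa [hn (fun h => n23 h.symm)] using e2
    have e3 := e 3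
    rw [hz c03, hz c13, hself] at e3
    have x2 : x 2 = 0 := by simpa [hn n23] using e3
    have e1 := e 1
    rw [hself, x2, x3] at e1
    have x0 : x 0 = 0 := by simpa [hn n01] using e1
    intro i
    fin_cases i <;> assumption
  have hli : LinearIndependent F v := Fintype.linearIndependent_iff.2 fun x hx => sys x fun j => by
    rw [hx, hf_zero_left hF]
  have hW2 : Module.finrank F (perp hF v) = 2 := by
    have := finrank_perp hF hli
    omega
  have hWmem : ∀ u, u ∈ perp hF v ↔ ∀ i, hf u (v i) = 0 := fun u => mem_perp hF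
  have hspan : perpW hF (perp hF v) = Submodule.span F (Set.range v) := by
    symm
    refine Submodule.eq_of_le_of_finrank_le (Submodule.span_le.2 ?_) ?_
    · rintro _ ⟨i, rfl⟩ w hw
      exact (hWmem w).1 hw i
    · rw [finrank_span_eq_card hli, Fintype.card_fin]
      let bs := Module.finBasis F (perp hF v)
      have hbs : LinearIndependent F fun i => (bs i : Fin 6 → F) :=
        bs.linearIndependent.map' (perp hF v).subtype (perp hF v).ker_subtype
      have h2 := finrank_perp hF hbs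
      have hle : perpW hF (perp hF v) ≤ perp hF fun i => (bs i : Fin 6 → F) := fun u hu =>
        (mem_perp hF).2 fun i => (hf_eq_zero_symm hF).1 (hu _ (bs i).2)
      have := Submodule.finrank_mono hle
      omega
  have hnd : ∀ u ∈ perp hF v, (∀ w ∈ perp hF v, hf u w = 0) → u = 0 := by
    intro u hu h
    have hmem : u ∈ Submodule.span F (Set.range v) := by
      rw [← hspan]
      exact fun w hw => (hf_eq_zero_symm hF).1 (h w hw)
    obtain ⟨x, rfl⟩ := (Submodule.mem_span_range_iff_exists_fun F).1 hmem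
    have := sys x ((hWmem _).1 hu)
    simp [this]
  refine (three_points L.M hnd hW2 (fun y => ∀ i, Commute y (t i)) fun u hu => ?_).1
  rw [hWmem]
  exact forall_congr' fun i => by rw [← hvt i]; exact L.M.comm _ _ hu (hv i)

end Cfsg.Agent.PrimeNorm
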