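/-
The normaliser of a subgroup of order 5 in a group of type M(22).

Main results (namespace `Cfsg.Agent.PrimeNorm`):
* `five_all_fixed` : every subgroup of order 5 centralises a member;
* `five_conj` : subgroups of order 5 are conjugate;
* `five_structure` : `N(X)` is the direct product of a Frobenius group of order 20 and a group `S₅`.
-/
import Cfsg.Agent.Lib.FischerM22.PrimeNorm.FiveLocal

set_option autoImplicit false

namespace Cfsg.Agent.PrimeNorm

open Cfsg.Agent.ThreeTrans Cfsg.Agent.ThreeTransSU Cfsg.Agent.FischerM22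

variable {G : Type*} [Group G] [Finite G] {D : Set G}

theorem five_structure (S : Fi22Setup D) {X : Subgroup G} (hX : Nat.card X = 5) (hne : (fixD D X).Nonempty) :
    ∃ F : Subgroup G, Nat.card ↥F = 20 ∧ X ≤ F ∧ F ⊓ Subgroup.centralizer (X : Set G) = X ∧
      F ⊓ Subgroup.closure (fixD D X) = ⊥ ∧
      (∀ x ∈ F, ∀ y ∈ Subgroup.closure (fixD D X), x * y = y * x) ∧
      F ⊔ Subgroup.closure (fixD D X) = Subgroup.normalizer (X : Set G) ∧
      Nonempty (↥(Subgroup.closure (fixD D X)) ≃* Equiv.Perm (Fin 5)) := by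
  have := Fact.mk (by norm_num : Nat.Prime 5)
  have hD := S.cls.1
  have hconj : ∀ g : G, ∀ d ∈ D, g * d * g⁻¹ ∈ D := fun g d hd => S.conj_mem g hd
  have hcore := five_core S hX hne
  have P := five_petersen S hX hne
  obtain ⟨h10, he, hreg, -⟩ := P.sym_five hD
  set T := fixD D X with hT
  set N := Subgroup.normalizer (X : Set G)
  set C := Subgroup.centralizer (X : Set G)
  have hLC : Subgroup.closure T ≤ C := (Subgroup.closure_le _).2 fun y hy => hy.2
  have hCN : C ≤ N := Subgroup.centralizer_le_normalizer _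
  have hN : ∀ g ∈ N, ∀ b ∈ T, g * b * g⁻¹ ∈ T := fun g hg b hb => conj_fixD hconj hg hb
  obtain ⟨hbot, hcomm, hsup, hcard⟩ := petersen_split hD P (hLC.trans hCN) hN
  obtain ⟨-, -, -, hcardC⟩ := petersen_split hD P hLC fun g hg => hN g (hCN hg)
  rw [hcore] at hcardC
  obtain ⟨d, hd⟩ := P.ne
  obtain ⟨t₂, h2⟩ := Set.nonempty_of_ncard_ne_zero (by rw [P.deg d hd]; norm_num : (T ∩ adj D d).ncard ≠ 0)
  obtain ⟨t₃, h3, n3⟩ := Set.exists_ne_of_one_lt_ncard (by rw [P.deg d hd]; norm_num : 1 < (T ∩ adj D d).ncard) t₂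
  obtain ⟨t₁, h1, n1⟩ := Set.exists_ne_of_one_lt_ncard (by rw [P.deg t₃ h3.1]; norm_num : 1 < (T ∩ adj D t₃).ncard) d
  have hq : ((d, t₁, t₂, t₃) : G × G × G × G) ∈ frames D T := ⟨hd, h2, ⟨h3, n3⟩, h1, n1⟩
  have htr : ∀ y ∈ T, ∃ g ∈ C, g * d * g⁻¹ = y := by
    intro y hy
    obtain ⟨u₂, k2⟩ := Set.nonempty_of_ncard_ne_zero (by rw [P.deg y hy]; norm_num : (T ∩ adj D y).ncard ≠ 0)
    obtain ⟨u₃, k3, m3⟩ := Set.exists_ne_of_one_lt_ncard (by rw [P.deg y hy]; norm_num : 1 < (T ∩ adj D y).ncard) u₂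
    obtain ⟨u₁, k1, m1⟩ := Set.exists_ne_of_one_lt_ncard (by rw [P.deg u₃ k3.1]; norm_num : 1 < (T ∩ adj D u₃).ncard) y
    obtain ⟨l, hl, e, -⟩ := hreg _ hq ((y, u₁, u₂, u₃) : G × G × G × G) ⟨hy, k2, ⟨k3, m3⟩, k1, m1⟩
    exact ⟨l, hLC hl, e⟩
  have htr' : ∀ y ∈ T ∩ adj D d, ∃ g ∈ C ⊓ Subgroup.centralizer {d}, g * t₂ * g⁻¹ = y := by
    intro y hy
    by_cases e : t₂ = y
    · exact ⟨1, one_mem _, by simp [e]⟩
    obtain ⟨hg, hg'⟩ := fixD_conj hD h2.1 hy.1 (P.tri d hd t₂ h2 y hy e)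
    exact ⟨_, ⟨hg, Subgroup.mem_centralizer_singleton_iff.2 (h2.2.2.2.symm.mul_left hy.2.2.2.symm)⟩, hg'⟩
  have step : ∀ H : Subgroup G, C ≤ H → H ≤ N →
      Nat.card H = 30 * Nat.card ↥(H ⊓ Subgroup.centralizer {d} ⊓ Subgroup.centralizer {t₂}) := by
    intro H hCH hHN
    have hO : ∀ y, y ∈ T ∩ adj D d ↔ ∃ g ∈ H ⊓ Subgroup.centralizer {d}, g * t₂ * g⁻¹ = y := by
      intro y
      refine ⟨fun hy => let ⟨g, hg, e⟩ := htr' y hy; ⟨g, ⟨hCH hg.1, hg.2⟩, e⟩, ?_⟩
      rintro ⟨g, hg, rfl⟩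
      have hgd : g * d * g⁻¹ = d := mul_inv_eq_iff_eq_mul.2 (Subgroup.mem_centralizer_singleton_iff.1 hg.2)
      have hadj := (conj_adj hconj g d (g * t₂ * g⁻¹)).2 (by simpa [mul_assoc] using h2.2)
      rw [hgd] at hadj
      exact ⟨hN g (hHN hg.1) t₂ h2.1, hadj⟩
    rw [orbit_single H d (O := T) fun y =>
      ⟨fun hy => let ⟨g, hg, e⟩ := htr y hy; ⟨g, hCH hg, e⟩, fun ⟨g, hg, e⟩ => e ▸ hN g (hHN hg) d hd⟩, h10,
      orbit_single (H ⊓ Subgroup.centralizer {d}) t₂ hO, P.deg d hd]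
    omega
  have sC := step C le_rfl hCN
  have sN := step N hCN le_rfl
  set H0 := Subgroup.centralizer ({d} : Set G) ⊓ Subgroup.centralizer {t₂}
  have hH0 : Nat.card H0 = 26542080 := pair_fix_card S hd.1 h2.2
  have hXH : X ≤ H0 := le_inf (le_cent hd) (le_cent h2.1)
  obtain ⟨k, hk, hk1⟩ := norm_count hXH hX (by rw [hH0]; norm_num)
  obtain ⟨e, he', he4⟩ := norm_cent hX H0
  have eC : C ⊓ Subgroup.centralizer {d} ⊓ Subgroup.centralizer {t₂} = H0 ⊓ C := by
    rw [inf_assoc, inf_comm]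
  have eN : N ⊓ Subgroup.centralizer {d} ⊓ Subgroup.centralizer {t₂} = H0 ⊓ N := by
    rw [inf_assoc, inf_comm]
  rw [eC, hcardC] at sC
  rw [show Nat.card ↥(H0 ⊓ C) = 20 by omega] at he'
  rw [he', hH0] at hk
  have he4' : e = 4 := by
    have he5 : e ≤ 4 := Nat.le_of_dvd (by norm_num) he4
    have h1 : k % 5 = 1 := hk1
    interval_cases e <;> omega
  subst he4'
  rw [eN, he'] at sN
  rw [sN] at hcard
  have hXC : X ≤ C := fun z hz => Subgroup.mem_centralizer_iff.2 fun w hw => by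
    have := isCyclic_of_prime_card hX
    exact congrArg Subtype.val ((IsMulCommutative.is_comm (M := X)).comm ⟨w, hw⟩ ⟨z, hz⟩)
  have hXF : X ≤ N ⊓ Subgroup.centralizer T :=
    le_inf (hXC.trans hCN) fun x hx => Subgroup.mem_centralizer_iff.2 fun t ht => ((mem_fixD.1 ht).2 x hx).symm
  refine ⟨N ⊓ Subgroup.centralizer T, by omega, hXF, ?_, hbot, hcomm, hsup, he⟩
  refine (Subgroup.eq_of_le_of_card_ge (le_inf hXF hXC) ?_).symm
  have e : (N ⊓ Subgroup.centralizer T) ⊓ C = C ⊓ Subgroup.centralizer T :=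
    le_antisymm (le_inf inf_le_right (inf_le_left.trans inf_le_right))
      (le_inf (le_inf (inf_le_left.trans hCN) inf_le_right) inf_le_left)
  rw [e, hcore, hX]

theorem good_conj (S : Fi22Setup D) {X : Subgroup G} (g : G) (h : (fixD D X).Nonempty) :
    (fixD D (X.map (MulAut.conj g).toMonoidHom)).Nonempty := by
  obtain ⟨d, hd⟩ := h
  refine ⟨g * d * g⁻¹, mem_fixD.2 ⟨S.conj_mem g hd.1, ?_⟩⟩
  rintro _ ⟨x, hx, rfl⟩
  exact ((mem_fixD.1 hd).2 x hx).map (MulAut.conj g).toMonoidHom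

/-- A Sylow subgroup two of whose subgroups of order five centralise members. -/
theorem exists_axes (S : Fi22Setup D) : ∃ X Y : Subgroup G, Nat.card X = 5 ∧ Nat.card Y = 5 ∧
    (fixD D X).Nonempty ∧ (fixD D Y).Nonempty ∧ X ⊓ Y = ⊥ ∧ (∀ x ∈ X, ∀ y ∈ Y, x * y = y * x) := by
  have := Fact.mk (by norm_num : Nat.Prime 5)
  have hD := S.cls.1
  obtain ⟨a, ha, -⟩ := S.two_members
  obtain ⟨t, hchain⟩ := chain_exists S ha
  obtain ⟨hadj, n01, n12, n23, c02, c03, c13⟩ := hchain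
  let s : ℕ → G := fun i => if i = 0 then t 0 else if i = 1 then t 1 else if i = 2 then t 2 else t 3
  have hbr : BraidA s 4 := ⟨fun i hi => by
      interval_cases i
      exacts [mul_self hD (hadj 0).1, mul_self hD (hadj 1).1, mul_self hD (hadj 2).1, mul_self hD (hadj 3).1],
    fun i hi => by
      obtain rfl | rfl | rfl : i = 0 ∨ i = 1 ∨ i = 2 := by omega
      exacts [braid hD (hadj 0).1 (hadj 1).1 n01, braid hD (hadj 1).1 (hadj 2).1 n12,
        braid hD (hadj 2).1 (hadj 3).1 n23],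
    fun i j hij hj => by
      obtain ⟨rfl, rfl⟩ | ⟨rfl, rfl⟩ | ⟨rfl, rfl⟩ : (i = 0 ∧ j = 2) ∨ (i = 0 ∧ j = 3) ∨ (i = 1 ∧ j = 3) := by omega
      exacts [c02, c03, c13]⟩
  obtain ⟨φ, hφ⟩ := exists_hom_perm hbr
  have e0 : φ (Equiv.swap 0 1) = t 0 := hφ 0
  have e1 : φ (Equiv.swap 1 2) = t 1 := hφ 1
  have hinj : Function.Injective φ := injective_perm_large le_rfl fun e => n01 (by
    have e' : φ (Equiv.swap (0 : Fin 5) 1 * Equiv.swap 1 2) = 1 := e
    rw [map_mul, e0, e1, mul_eq_one_iff_eq_inv, inv_eq hD (hadj 1).1] at e'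
    rw [e'])
  have hσ : orderOf (finRotate 5) = 5 := orderOf_eq_prime (by decide) (by decide)
  set u := φ (finRotate 5)
  set X := Subgroup.zpowers u
  have hX : Nat.card X = 5 := by rw [Nat.card_zpowers, orderOf_injective φ hinj, hσ]
  -- members centralising the chain
  set C0 := {b : G | b ∈ D ∧ ∀ i, Commute b (t i)}
  have hC0 : C0 ⊆ fixD D X := fun b hb => mem_fixD.2 ⟨hb.1, fun x hx => by
    obtain ⟨k, rfl⟩ := hx
    refine Commute.zpow_left ?_ k
    have hr : u ∈ φ.range := ⟨_, rfl⟩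
    rw [range_hom_perm hφ] at hr
    refine Subgroup.mem_centralizer_singleton_iff.1 ((Subgroup.closure_le (Subgroup.centralizer {b})).2 ?_ hr)
    rintro _ ⟨i, hi, rfl⟩
    rw [Set.mem_Iio] at hi
    refine Subgroup.mem_centralizer_singleton_iff.2 (Commute.symm ?_)
    interval_cases i
    exacts [hb.2 0, hb.2 1, hb.2 2, hb.2 3]⟩
  have haX : a ∈ fixD D X := hC0 ⟨ha, fun i => (hadj i).2.2⟩
  have P := five_petersen S hX ⟨a, haX⟩
  have hclosed : ∀ b ∈ C0, ∀ c ∈ fixD D X ∩ adj D b, c ∈ C0 := by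
    intro b hb
    have hne : ∀ i, t i ≠ b := fun i e => by
      subst e
      fin_cases i
      exacts [n01 (hb.2 1), n01 (hb.2 0).symm, n12 (hb.2 1).symm, n23 (hb.2 2).symm]
    have h3 := chain_perp S hb.1 (t := t) ⟨fun i => ⟨(hadj i).1, hne i, hb.2 i⟩, n01, n12, n23, c02, c03, c13⟩
    have hsub : {y | y ∈ adj D b ∧ ∀ i, Commute y (t i)} ⊆ fixD D X ∩ adj D b :=
      fun y hy => ⟨hC0 ⟨hy.1.1, hy.2⟩, hy.1⟩
    have heq := Set.eq_of_subset_of_ncard_le hsub (by rw [h3, P.deg b (hC0 hb)]) (Set.toFinite _)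
    exact fun c hc => ⟨hc.1.1, (heq.ge hc).2⟩
  have hall : ∀ y ∈ fixD D X, ∀ i, Commute y (t i) := by
    intro y hy
    have hm : y ∈ C0 := by
      by_cases h1 : y = a
      · exact h1 ▸ ⟨ha, fun i => (hadj i).2.2⟩
      by_cases h2 : Commute a y
      · exact hclosed a ⟨ha, fun i => (hadj i).2.2⟩ y ⟨hy, hy.1, h1, h2⟩
      obtain ⟨b, hb⟩ := Set.nonempty_of_ncard_ne_zero (by rw [P.one a haX y hy h2]; norm_num :
        (fixD D X ∩ adj D a ∩ adj D y).ncard ≠ 0)
      exact hclosed b (hclosed a ⟨ha, fun i => (hadj i).2.2⟩ b hb.1) y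
        ⟨hy, hy.1, hb.2.2.1.symm, hb.2.2.2.symm⟩
    exact hm.2
  obtain ⟨-, ⟨e⟩, -, -⟩ := P.sym_five hD
  set w : ↥(Subgroup.closure (fixD D X)) := e.symm (finRotate 5)
  set Y := Subgroup.zpowers (w : G)
  have hY : Nat.card Y = 5 := by rw [Nat.card_zpowers, Subgroup.orderOf_coe, e.symm.orderOf_eq, hσ]
  have hwt : Commute (w : G) (t 0) := Subgroup.mem_centralizer_singleton_iff.1
    ((Subgroup.closure_le (Subgroup.centralizer {t 0})).2
      (fun y hy => Subgroup.mem_centralizer_singleton_iff.2 (hall y hy 0)) w.2)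
  have hYL : Y ≤ Subgroup.closure (fixD D X) := Subgroup.zpowers_le.2 w.2
  have hcomm : ∀ x ∈ X, ∀ y ∈ Subgroup.closure (fixD D X), x * y = y * x := fun x hx y hy =>
    (Subgroup.mem_centralizer_iff.1 ((Subgroup.closure_le _).2 (fun b hb => hb.2) hy) x hx)
  refine ⟨X, Y, hX, hY, ⟨a, haX⟩, ⟨t 0, mem_fixD.2 ⟨(hadj 0).1, fun z hz => ?_⟩⟩, ?_,
    fun x hx y hy => hcomm x hx y (hYL hy)⟩
  · obtain ⟨k, rfl⟩ := hz
    exact hwt.zpow_left k
  · refine eq_bot_iff.2 ((inf_le_inf_left X hYL).trans ?_)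
    exact (inf_bot_of_center e perm_five_center hcomm).le

theorem five_all_fixed (S : Fi22Setup D) {Z : Subgroup G} (hZ : Nat.card Z = 5) : (fixD D Z).Nonempty := by
  classical
  have := Fact.mk (by norm_num : Nat.Prime 5)
  letI := Fintype.ofFinite G
  obtain ⟨X, Y, hX, hY, hXf, hYf, hbot, hcomm⟩ := exists_axes S
  set E := X ⊔ Y
  have hE : Nat.card E = 25 := by
    rw [sup_card (fun y hy => Subgroup.centralizer_le_normalizer _
      (Subgroup.mem_centralizer_iff.2 fun x hx => hcomm x hx y hy)) hbot, hX, hY]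
  have hEP : IsPGroup 5 E := IsPGroup.of_card (n := 2) (by rw [hE]; norm_num)
  letI := conjOn (fun (g : G) d hd => S.conj_mem g hd : ∀ g : G, ∀ d ∈ D, g * d * g⁻¹ ∈ D)
  letI := Fintype.ofFinite D
  letI := Fintype.ofFinite (MulAction.orbitRel.Quotient E D)
  have hfix : ∀ g : E, Fintype.card (MulAction.fixedBy D g) = (fixD D (Subgroup.zpowers (g : G))).ncard := by
    intro g
    rw [← Nat.card_eq_fintype_card, ← Nat.card_coe_set_eq]
    refine Nat.card_congr
      { toFun := fun d => ⟨d.1.1, mem_fixD.2 ⟨d.1.2, ?_⟩⟩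
        invFun := fun d => ⟨⟨d.1, d.2.1⟩, Subtype.ext ?_⟩
        left_inv := fun d => rfl
        right_inv := fun d => rfl }
    · rintro _ ⟨k, rfl⟩
      exact (show Commute (g : G) d.1.1 from mul_inv_eq_iff_eq_mul.1 (congrArg Subtype.val d.2)).zpow_left k
    · exact mul_inv_eq_iff_eq_mul.2 ((mem_fixD.1 d.2).2 g (Subgroup.mem_zpowers (g : G)))
  have hord : ∀ g : E, g ≠ 1 → Nat.card (Subgroup.zpowers (g : G)) = 5 := by
    intro g hg
    rw [Nat.card_zpowers, Subgroup.orderOf_coe]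
    refine orderOf_eq_prime ?_ hg
    obtain ⟨⟨x, hx⟩, ⟨y, hy⟩, e⟩ : ∃ x : X, ∃ y : Y, (x : G) * y = (g : G) := by
      have hg2 := g.2
      rw [← SetLike.mem_coe, Subgroup.coe_mul_of_right_le_normalizer_left X Y (fun y hy =>
        Subgroup.centralizer_le_normalizer _ (Subgroup.mem_centralizer_iff.2 fun x hx => hcomm x hx y hy))] at hg2
      obtain ⟨x, hx, y, hy, e⟩ := hg2
      exact ⟨⟨x, hx⟩, ⟨y, hy⟩, e⟩
    refine Subtype.ext ?_
    rw [Subgroup.coe_pow, ← e, (show Commute x y from hcomm x hx y hy).mul_pow]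
    have h1 := pow_card_eq_one' (x := (⟨x, hx⟩ : X))
    have h2 := pow_card_eq_one' (x := (⟨y, hy⟩ : Y))
    rw [hX] at h1
    rw [hY] at h2
    rw [show x ^ 5 = 1 from congrArg Subtype.val h1, show y ^ 5 = 1 from congrArg Subtype.val h2, one_mul]
    rfl
  have hten : ∀ g : E, g ≠ 1 → (fixD D (Subgroup.zpowers (g : G))).Nonempty →
      (fixD D (Subgroup.zpowers (g : G))).ncard = 10 := fun g hg h =>
    ((five_petersen S (hord g hg) h).sym_five S.cls.1).1
  let bad : Finset E := Finset.univ.filter fun g => g ≠ 1 ∧ ¬ (fixD D (Subgroup.zpowers (g : G))).Nonempty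
  let good : Finset E := Finset.univ.filter fun g => g ≠ 1 ∧ (fixD D (Subgroup.zpowers (g : G))).Nonempty
  have hsum : ∑ g : E, Fintype.card (MulAction.fixedBy D g) = 3510 + 10 * good.card := by
    rw [← Finset.sum_erase_add _ _ (Finset.mem_univ (1 : E)), add_comm]
    congr 1
    · rw [hfix, ← class_ncard S]
      congr 1
      ext d
      exact ⟨fun h => h.1, fun h => mem_fixD.2 ⟨h, fun x hx => by
        rw [Subgroup.coe_one, Subgroup.zpowers_one_eq_bot, Subgroup.mem_bot] at hx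
        rw [hx]; exact Commute.one_left d⟩⟩
    · rw [← Finset.sum_filter_add_sum_filter_not _ fun g => (fixD D (Subgroup.zpowers ((g : E) : G))).Nonempty,
        Finset.sum_congr rfl fun g hg => (hfix g).trans (hten g
          (Finset.ne_of_mem_erase (Finset.mem_filter.1 hg).1) (Finset.mem_filter.1 hg).2), Finset.sum_const,
        smul_eq_mul, Finset.sum_eq_zero (s := Finset.filter _ _) fun g hg => by
          rw [hfix, Set.not_nonempty_iff_eq_empty.1 (Finset.mem_filter.1 hg).2, Set.ncard_empty], add_zero, mul_comm]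
      congr 2
      ext g
      simp [good]
  rw [MulAction.sum_card_fixedBy_eq_card_orbits_mul_card_group] at hsum
  rw [← Nat.card_eq_fintype_card (α := E), hE] at hsum
  have htot : good.card + bad.card = 24 := by
    rw [← Finset.card_union_of_disjoint (Finset.disjoint_left.2 fun g h h' =>
      (Finset.mem_filter.1 h').2.2 (Finset.mem_filter.1 h).2.2)]
    rw [show good ∪ bad = Finset.univ.erase 1 by
      ext g
      simp only [good, bad, Finset.mem_union, Finset.mem_filter, Finset.mem_univ, true_and, Finset.mem_erase, and_true]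
      tauto]
    rw [Finset.card_erase_of_mem (Finset.mem_univ _), Finset.card_univ, ← Nat.card_eq_fintype_card, hE]
  -- bad elements come in fours
  have h4 : 4 ∣ bad.card := by
    rw [Finset.card_eq_sum_card_image (fun g : E => Subgroup.zpowers (g : G)) bad]
    refine Finset.dvd_sum fun W hW => ?_
    obtain ⟨g, hg, rfl⟩ := Finset.mem_image.1 hW
    obtain ⟨hg1, hgb⟩ := (Finset.mem_filter.1 hg).2
    refine ⟨1, ?_⟩
    rw [mul_one]
    have e : (bad.filter fun h : E => Subgroup.zpowers (h : G) = Subgroup.zpowers (g : G)) =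
        (Finset.univ.filter fun h : E => h ∈ Subgroup.zpowers g).erase 1 := by
      ext h
      simp only [bad, Finset.mem_filter, Finset.mem_univ, true_and, Finset.mem_erase]
      have key : h ∈ Subgroup.zpowers g ↔ (h : G) ∈ Subgroup.zpowers (g : G) := by
        constructor
        · rintro ⟨k, rfl⟩; exact ⟨k, rfl⟩
        · rintro ⟨k, hk⟩; exact ⟨k, Subtype.ext hk⟩
      constructor
      · rintro ⟨⟨h1, -⟩, h2⟩
        exact ⟨h1, key.2 (h2 ▸ Subgroup.mem_zpowers (h : G))⟩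
      · rintro ⟨h1, h2⟩
        have e : Subgroup.zpowers (h : G) = Subgroup.zpowers (g : G) := Subgroup.eq_of_le_of_card_ge
          (Subgroup.zpowers_le.2 (key.1 h2)) (by rw [hord h h1, hord g hg1])
        exact ⟨⟨h1, e ▸ hgb⟩, e⟩
    rw [e, Finset.card_erase_of_mem (Finset.mem_filter.2 ⟨Finset.mem_univ _, one_mem _⟩), ← Fintype.card_subtype,
      ← Nat.card_eq_fintype_card]
    have := hord g hg1
    rw [Nat.card_zpowers, Subgroup.orderOf_coe, ← Nat.card_zpowers] at this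
    exact congrArg (· - 1) this
  -- the two axes
  have h8 : 8 ≤ good.card := by
    have hsub : ((Finset.univ.filter fun g : E => (g : G) ∈ X).erase 1) ∪
        ((Finset.univ.filter fun g : E => (g : G) ∈ Y).erase 1) ⊆ good := by
      intro g hg
      simp only [Finset.mem_union, Finset.mem_erase, Finset.mem_filter, Finset.mem_univ, true_and] at hg
      have mk : ∀ {W : Subgroup G}, (fixD D W).Nonempty → g ≠ 1 → (g : G) ∈ W → g ∈ good := fun {W} ⟨d, hd⟩ h1 h =>
        Finset.mem_filter.2 ⟨Finset.mem_univ _, h1, d, mem_fixD.2 ⟨hd.1, fun z hz =>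
          (mem_fixD.1 hd).2 z (Subgroup.zpowers_le.2 h hz)⟩⟩
      rcases hg with ⟨h1, h⟩ | ⟨h1, h⟩
      exacts [mk hXf h1 h, mk hYf h1 h]
    refine le_trans ?_ (Finset.card_le_card hsub)
    have hc : ∀ {W : Subgroup G}, W ≤ E → Nat.card W = 5 →
        ((Finset.univ.filter fun g : E => (g : G) ∈ W).erase 1).card = 4 := fun {W} hW h5 => by
      rw [Finset.card_erase_of_mem (show (1 : E) ∈ Finset.univ.filter (fun g : E => (g : G) ∈ W) from Finset.mem_filter.2 ⟨Finset.mem_univ _, one_mem W⟩), ← Fintype.card_subtype,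
        ← Nat.card_eq_fintype_card, show Nat.card {g : E // (g : G) ∈ W} = Nat.card (W.subgroupOf E) from rfl,
        Nat.card_congr (Subgroup.subgroupOfEquivOfLe hW).toEquiv, h5]
    rw [Finset.card_union_of_disjoint, hc le_sup_left hX, hc le_sup_right hY]
    refine Finset.disjoint_left.2 fun g h h' => ?_
    simp only [Finset.mem_erase, Finset.mem_filter, Finset.mem_univ, true_and] at h h'
    refine h.1 (Subtype.ext ?_)
    have : (g : G) ∈ X ⊓ Y := ⟨h.2, h'.2⟩
    rwa [hbot, Subgroup.mem_bot] at this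
  have hbad : bad.card = 0 := by omega
  -- move `Z` into `E`
  obtain ⟨P, hP⟩ := (IsPGroup.of_card (n := 1) (by rw [hZ, pow_one]) : IsPGroup 5 Z).exists_le_sylow
  obtain ⟨Q, hQ⟩ := hEP.exists_le_sylow
  have hQc : Nat.card (Q : Subgroup G) ≤ 25 := by
    rw [Q.card_eq_multiplicity, group_card S]
    have : (64561751654400 : ℕ).factorization 5 = 2 := by
      rw [show (64561751654400 : ℕ) = 5 ^ 2 * 2582470066176 by norm_num, Nat.factorization_mul (by norm_num) (by norm_num),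
        Finsupp.add_apply, Nat.Prime.factorization_pow Fact.out, Finsupp.single_eq_same,
        Nat.factorization_eq_zero_of_not_dvd (by norm_num)]
    rw [this]; norm_num
  have hQE : (Q : Subgroup G) = E := (Subgroup.eq_of_le_of_card_ge hQ (by rw [hE]; exact hQc)).symm
  obtain ⟨g, hg⟩ := MulAction.exists_smul_eq G P Q
  have hZE : Z.map (MulAut.conj g).toMonoidHom ≤ E := by
    rw [← hQE, ← hg]
    exact Subgroup.map_mono hP
  obtain ⟨x, hx, hx1, -, hgen⟩ := gen_of_card (p := 5)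
    (show Nat.card (Z.map (MulAut.conj g).toMonoidHom) = 5 by
      rw [← Nat.card_congr (Z.equivMapOfInjective _ (MulAut.conj g).injective).toEquiv, hZ])
  have hgood : (fixD D (Subgroup.zpowers x)).Nonempty := by
    by_contra h
    have : (⟨x, hZE hx⟩ : E) ∈ bad := Finset.mem_filter.2
      ⟨Finset.mem_univ _, fun e => hx1 (congrArg Subtype.val e), h⟩
    rw [Finset.card_eq_zero.1 hbad] at this
    exact absurd this (Finset.notMem_empty _)
  obtain ⟨d, hd⟩ := hgood
  have hZ' : (fixD D (Z.map (MulAut.conj g).toMonoidHom)).Nonempty :=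
    ⟨d, mem_fixD.2 ⟨hd.1, fun z hz => by
      obtain ⟨k, rfl⟩ := hgen z hz
      exact ((mem_fixD.1 hd).2 x (Subgroup.mem_zpowers x)).pow_left k⟩⟩
  have h := good_conj S g⁻¹ hZ'
  rwa [Subgroup.map_map, show (MulAut.conj g⁻¹).toMonoidHom.comp (MulAut.conj g).toMonoidHom = MonoidHom.id G by
    ext y; simp [mul_assoc], Subgroup.map_id] at h

theorem five_conj (S : Fi22Setup D) {X Y : Subgroup G} (hX : Nat.card X = 5) (hY : Nat.card Y = 5) :
    ∃ g : G, X.map (MulAut.conj g).toMonoidHom = Y := by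
  have := Fact.mk (by norm_num : Nat.Prime 5)
  obtain ⟨a, ha⟩ := five_all_fixed S hX
  obtain ⟨b, hb⟩ := five_all_fixed S hY
  obtain ⟨g, rfl⟩ := class_conj S.cls ha.1 hb.1
  set H := Subgroup.centralizer ({g * a * g⁻¹} : Set G)
  let X' := X.map (MulAut.conj g).toMonoidHom
  have hX'H : X' ≤ H := by
    rintro _ ⟨x, hx, rfl⟩
    exact Subgroup.mem_centralizer_singleton_iff.2 (((mem_fixD.1 ha).2 x hx).map (MulAut.conj g).toMonoidHom)
  have hYH : Y ≤ H := le_cent hb
  obtain ⟨k, hk⟩ := conj_prime (G := H) (p := 5) (X := X'.subgroupOf H) (Y := Y.subgroupOf H)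
    (by rw [cent_card_of_mem S hb.1]; norm_num)
    (by rw [Nat.card_congr (Subgroup.subgroupOfEquivOfLe hX'H).toEquiv,
      ← Nat.card_congr (X.equivMapOfInjective _ (MulAut.conj g).injective).toEquiv, hX])
    (by rw [Nat.card_congr (Subgroup.subgroupOfEquivOfLe hYH).toEquiv, hY])
  refine ⟨(k : G) * g, Subgroup.eq_of_le_of_card_ge ?_ (by
    rw [hY, ← Nat.card_congr (X.equivMapOfInjective _ (MulAut.conj _).injective).toEquiv, hX])⟩
  rintro _ ⟨x, hx, rfl⟩
  have hmem : (⟨g * x * g⁻¹, hX'H ⟨x, hx, rfl⟩⟩ : H) ∈ X'.subgroupOf H := ⟨x, hx, rfl⟩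
  have := hk.le ⟨_, hmem, rfl⟩
  show (k : G) * g * x * ((k : G) * g)⁻¹ ∈ Y
  rw [show (k : G) * g * x * ((k : G) * g)⁻¹ = k * (g * x * g⁻¹) * (k : G)⁻¹ by group]
  exact this

end Cfsg.Agent.PrimeNorm
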