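/-
Subgroups of prime order acting on a class of rank three: counting.

Main results (namespace `Cfsg.Agent.PrimeNorm`):
* `fix_modEq` : a conjugation-invariant set and its members centralising `X` agree modulo `p`;
* `conj_prime`, `norm_count`, `norm_cent` : the theorems of Sylow and the automiser of `X`;
* `fix_bound` : `(s - 1) ^ 2 * (p - 1) ≤ 2 * |N(X)|` for the number `s` of members centralising `X`.
-/
import Cfsg.Agent.EqLemmas

set_option autoImplicit false

namespace Cfsg.Agent.PrimeNorm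

variable {G : Type*} [Group G]

/-- The members of `D` centralising `X`. -/
def fixD (D : Set G) (X : Subgroup G) : Set G := D ∩ (Subgroup.centralizer (X : Set G) : Set G)

theorem mem_fixD {D : Set G} {X : Subgroup G} {y : G} : y ∈ fixD D X ↔ y ∈ D ∧ ∀ x ∈ X, Commute x y :=
  and_congr_right fun _ => Subgroup.mem_centralizer_iff

variable [Finite G] {p : ℕ} [hp : Fact p.Prime]

/-- The members centralising `X` modulo `p`. -/
theorem fix_modEq {X : Subgroup G} (hX : Nat.card X = p) (S : Set G)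
    (hS : ∀ x ∈ X, ∀ y ∈ S, x * y * x⁻¹ ∈ S) : S.ncard ≡ (fixD S X).ncard [MOD p] := by
  letI : MulAction X S :=
    { smul := fun x y => ⟨x * y * x⁻¹, hS x x.2 y y.2⟩
      one_smul := fun y => Subtype.ext (by show ((1 : X) : G) * y * ((1 : X) : G)⁻¹ = y; simp)
      mul_smul := fun a b y => Subtype.ext (by
        show ((a * b : X) : G) * y * ((a * b : X) : G)⁻¹ = a * (b * y * (b : G)⁻¹) * (a : G)⁻¹
        simp [mul_assoc]) }
  have h := (IsPGroup.of_card (n := 1) (by rw [hX, pow_one]) : IsPGroup p X).card_modEq_card_fixedPoints S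
  rw [Nat.card_coe_set_eq] at h
  suffices e : Nat.card (MulAction.fixedPoints X S) = (fixD S X).ncard from e ▸ h
  rw [← Nat.card_coe_set_eq (fixD S X)]
  refine Nat.card_congr
    { toFun := fun y => ⟨(y : S), (y : S).2, Subgroup.mem_centralizer_iff.2 fun x hx => ?_⟩
      invFun := fun y => ⟨⟨y, y.2.1⟩, fun x => Subtype.ext ?_⟩
      left_inv := fun y => rfl
      right_inv := fun y => rfl }
  · exact mul_inv_eq_iff_eq_mul.1 (congrArg Subtype.val (y.2 ⟨x, hx⟩))
  · show (x : G) * y * (x : G)⁻¹ = y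
    rw [Subgroup.mem_centralizer_iff.1 y.2.2 x x.2, mul_inv_cancel_right]

theorem sylow_of_card {X : Subgroup G} (hX : Nat.card X = p) (h2 : ¬ p ^ 2 ∣ Nat.card G) :
    ∃ P : Sylow p G, (P : Subgroup G) = X := by
  obtain ⟨P, hP⟩ := (IsPGroup.of_card (n := 1) (by rw [hX, pow_one]) : IsPGroup p X).exists_le_sylow
  refine ⟨P, (Subgroup.eq_of_le_of_card_ge hP ?_).symm⟩
  obtain ⟨k, hk⟩ := P.isPGroup'.exists_card_eq
  rw [hX, hk]
  refine (Nat.pow_le_pow_right hp.out.pos ?_).trans (pow_one p).le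
  by_contra h
  exact h2 ((pow_dvd_pow p (by omega : 2 ≤ k)).trans (hk ▸ Subgroup.card_subgroup_dvd_card _))

/-- Subgroups of order `p` are conjugate. -/
theorem conj_prime (h2 : ¬ p ^ 2 ∣ Nat.card G) {X Y : Subgroup G} (hX : Nat.card X = p)
    (hY : Nat.card Y = p) : ∃ g : G, X.map (MulAut.conj g).toMonoidHom = Y := by
  obtain ⟨P, rfl⟩ := sylow_of_card hX h2
  obtain ⟨Q, rfl⟩ := sylow_of_card hY h2
  obtain ⟨g, rfl⟩ := MulAction.exists_smul_eq G P Q
  exact ⟨g, rfl⟩

/-- The theorem of Sylow inside a subgroup containing `X`. -/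
theorem norm_count {X H : Subgroup G} (hXH : X ≤ H) (hX : Nat.card X = p) (h2 : ¬ p ^ 2 ∣ Nat.card H) :
    ∃ k, Nat.card H = Nat.card ↥(H ⊓ Subgroup.normalizer (X : Set G)) * k ∧ k ≡ 1 [MOD p] := by
  have hX' : Nat.card ↥(X.subgroupOf H) = p := by rw [Nat.card_congr (Subgroup.subgroupOfEquivOfLe hXH).toEquiv, hX]
  obtain ⟨P, hP⟩ := sylow_of_card hX' h2
  have hN : Subgroup.normalizer ((X.subgroupOf H : Subgroup H) : Set H) = (Subgroup.normalizer (X : Set G)).subgroupOf H := by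
    ext g
    simp only [Subgroup.mem_subgroupOf, Subgroup.mem_normalizer_iff, SetLike.mem_coe, Subgroup.coe_mul,
      Subgroup.coe_inv]
    exact ⟨fun h n => ⟨fun hn => (h ⟨n, hXH hn⟩).1 hn, fun hn => (h ⟨n, by
      simpa [mul_assoc] using mul_mem (mul_mem (inv_mem g.2) (hXH hn)) g.2⟩).2 hn⟩,
      fun h n => h n⟩
  refine ⟨((Subgroup.normalizer (X : Set G)).subgroupOf H).index, ?_, ?_⟩
  · rw [← Subgroup.card_mul_index ((Subgroup.normalizer (X : Set G)).subgroupOf H)]
    congr 1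
    rw [← Subgroup.inf_subgroupOf_left, Nat.card_congr (Subgroup.subgroupOfEquivOfLe inf_le_left).toEquiv]
  · rw [← hN, ← hP]
    have h1 := card_sylow_modEq_one p H
    rwa [P.card_eq_index_normalizer] at h1

/-- The automiser of a group of order `p`. -/
theorem norm_cent {X : Subgroup G} (hX : Nat.card X = p) (H : Subgroup G) :
    ∃ e, Nat.card ↥(H ⊓ Subgroup.normalizer (X : Set G)) =
      Nat.card ↥(H ⊓ Subgroup.centralizer (X : Set G)) * e ∧ e ∣ p - 1 := by
  set N := H ⊓ Subgroup.normalizer (X : Set G) with hN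
  have hle : H ⊓ Subgroup.centralizer (X : Set G) ≤ N := inf_le_inf_left H (Subgroup.centralizer_le_normalizer (X : Set G))
  let φ : N →* MulAut X := X.normalizerMonoidHom.comp (Subgroup.inclusion inf_le_right)
  have hk : φ.ker = (H ⊓ Subgroup.centralizer (X : Set G)).subgroupOf N := by
    ext g
    rw [MonoidHom.mem_ker, MonoidHom.comp_apply, ← MonoidHom.mem_ker, Subgroup.normalizerMonoidHom_ker,
      Subgroup.mem_subgroupOf, Subgroup.mem_subgroupOf, Subgroup.mem_inf]
    exact ⟨fun h => ⟨g.2.1, h⟩, fun h => h.2⟩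
  refine ⟨Nat.card φ.range, ?_, ?_⟩
  · rw [← Subgroup.card_mul_index φ.ker, Subgroup.index_ker, hk,
      Nat.card_congr (Subgroup.subgroupOfEquivOfLe hle).toEquiv]
  · have := isCyclic_of_prime_card hX
    refine (Subgroup.card_subgroup_dvd_card _).trans ?_
    rw [IsCyclic.card_mulAut, hX, Nat.totient_prime hp.out]

/-- Conjugation on a class. -/
@[instance_reducible] def conjOn {D : Set G} (hconj : ∀ g : G, ∀ d ∈ D, g * d * g⁻¹ ∈ D) :
    MulAction G D where
  smul g d := ⟨g * d * g⁻¹, hconj g d d.2⟩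
  one_smul d := Subtype.ext (by show (1 : G) * d * (1 : G)⁻¹ = d; simp)
  mul_smul g h d := Subtype.ext (by
    show g * h * d * (g * h)⁻¹ = g * (h * d * h⁻¹) * g⁻¹
    simp [mul_assoc])

/-- The bound on the number of members centralising a group of order `p`. -/
theorem fix_bound {D : Set G} (hconj : ∀ g : G, ∀ d ∈ D, g * d * g⁻¹ ∈ D)
    (htr : ∀ a ∈ D, ∀ b ∈ D, ∃ g : G, g * a * g⁻¹ = b)
    (hcm : ∀ a ∈ D, ∀ b ∈ D, a ≠ b → Commute a b → ∀ a' ∈ D, ∀ b' ∈ D, a' ≠ b' → Commute a' b' →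
      ∃ g : G, g * a * g⁻¹ = a' ∧ g * b * g⁻¹ = b')
    (hnc : ∀ a ∈ D, ∀ b ∈ D, ¬ Commute a b → ∀ a' ∈ D, ∀ b' ∈ D, ¬ Commute a' b' →
      ∃ g : G, g * a * g⁻¹ = a' ∧ g * b * g⁻¹ = b')
    (hne : D.Nonempty) {X : Subgroup G} (hX : Nat.card X = p) :
    (((fixD D X).ncard : ℤ) - 1) ^ 2 * ((p : ℤ) - 1) ≤
      2 * (Nat.card ↥(Subgroup.normalizer (X : Set G)) : ℤ) := by
  classical
  letI := Fintype.ofFinite G
  letI := conjOn hconj
  letI := Fintype.ofFinite D
  letI := Fintype.ofFinite (MulAction.orbitRel.Quotient G D)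
  letI := Fintype.ofFinite (MulAction.orbitRel.Quotient G (D × D))
  obtain ⟨d₀, hd₀⟩ := hne
  have hsm : ∀ (g : G) (d : D), ((g • d : D) : G) = g * d * g⁻¹ := fun _ _ => rfl
  have h1 : Fintype.card (MulAction.orbitRel.Quotient G D) = 1 := by
    refine le_antisymm (Fintype.card_le_one_iff.2 ?_) (Fintype.card_pos_iff.2 ⟨Quotient.mk _ ⟨d₀, hd₀⟩⟩)
    intro a b
    induction a using Quotient.inductionOn
    induction b using Quotient.inductionOn
    rename_i a b
    obtain ⟨g, hg⟩ := htr b b.2 a a.2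
    exact Quotient.sound ⟨g, Subtype.ext hg⟩
  have h3 : Fintype.card (MulAction.orbitRel.Quotient G (D × D)) ≤ 3 := by
    let c : D × D → Fin 3 := fun x => if x.1 = x.2 then 0 else if Commute (x.1 : G) (x.2 : G) then 1 else 2
    let f : MulAction.orbitRel.Quotient G (D × D) → Fin 3 := fun q => c q.out
    refine (Fintype.card_le_of_injective f fun q r h => ?_).trans_eq (Fintype.card_fin 3)
    rw [← Quotient.out_eq q, ← Quotient.out_eq r]
    refine Quotient.sound ?_
    change c q.out = c r.out at h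
    generalize (Quotient.out q : D × D) = a at h
    generalize (Quotient.out r : D × D) = b at h
    obtain ⟨⟨a, ha⟩, ⟨a', ha'⟩⟩ := a
    obtain ⟨⟨b, hb⟩, ⟨b', hb'⟩⟩ := b
    simp only [c, Subtype.mk.injEq] at h
    split_ifs at h with e1 e2 e3 e4 <;> try (exact absurd h (by decide))
    · subst e1; subst e2
      obtain ⟨g, hg⟩ := htr b hb a ha
      exact ⟨g, Prod.ext (Subtype.ext hg) (Subtype.ext hg)⟩
    · obtain ⟨g, hg, hg'⟩ := hcm b hb b' hb' (by assumption) (by assumption) a ha a' ha' (by assumption) (by assumption)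
      exact ⟨g, Prod.ext (Subtype.ext hg) (Subtype.ext hg')⟩
    · obtain ⟨g, hg, hg'⟩ := hnc b hb b' hb' (by assumption) a ha a' ha' (by assumption)
      exact ⟨g, Prod.ext (Subtype.ext hg) (Subtype.ext hg')⟩
  let π : G → ℤ := fun g => (Fintype.card (MulAction.fixedBy D g) : ℤ)
  have hS1 : ∑ g : G, π g = (Nat.card G : ℤ) := by
    have := MulAction.sum_card_fixedBy_eq_card_orbits_mul_card_group G D
    rw [h1, one_mul] at this
    rw [Nat.card_eq_fintype_card]
    simp only [π]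
    exact_mod_cast this
  have hS2 : ∑ g : G, π g ^ 2 ≤ 3 * (Nat.card G : ℤ) := by
    have := MulAction.sum_card_fixedBy_eq_card_orbits_mul_card_group G (D × D)
    have e : ∀ g : G, Fintype.card (MulAction.fixedBy (D × D) g) = Fintype.card (MulAction.fixedBy D g) ^ 2 := by
      intro g
      rw [sq, ← Fintype.card_prod]
      exact Fintype.card_congr
        { toFun := fun x => (⟨x.1.1, congrArg Prod.fst x.2⟩, ⟨x.1.2, congrArg Prod.snd x.2⟩)
          invFun := fun x => ⟨(x.1.1, x.2.1), Prod.ext x.1.2 x.2.2⟩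
          left_inv := fun x => rfl
          right_inv := fun x => rfl }
    simp only [e] at this
    have h : ∑ g : G, Fintype.card (MulAction.fixedBy D g) ^ 2 ≤ 3 * Fintype.card G := by
      rw [this]; exact Nat.mul_le_mul_right _ h3
    rw [Nat.card_eq_fintype_card]
    simp only [π]
    exact_mod_cast h
  have hS : ∑ g : G, (π g - 1) ^ 2 ≤ 2 * (Nat.card G : ℤ) := by
    have : ∀ g, (π g - 1) ^ 2 = π g ^ 2 - 2 * π g + 1 := fun g => by ring
    simp only [this, Finset.sum_add_distrib, Finset.sum_sub_distrib, ← Finset.mul_sum, Finset.sum_const,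
      Finset.card_univ, nsmul_eq_mul, mul_one, Nat.card_eq_fintype_card] at *
    linarith
  -- the generators of the conjugates of `X`
  set N := Subgroup.normalizer (X : Set G)
  let P : Finset (G × G) := Finset.univ ×ˢ Finset.univ.filter fun x => x ∈ X ∧ x ≠ 1
  let φ : G × G → G := fun a => a.1 * a.2 * a.1⁻¹
  have hgen : ∀ {a : G × G}, a ∈ P → ∀ y ∈ X, ∃ k : ℕ, y = a.2 ^ k := fun {a} ha y hy => by
    obtain ⟨-, ha⟩ := Finset.mem_product.1 ha
    obtain ⟨-, h, h1⟩ := Finset.mem_filter.1 ha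
    obtain ⟨k, hk⟩ := Submonoid.mem_powers_iff _ _ |>.1
      (mem_powers_of_prime_card (p := p) hX (g := (⟨a.2, h⟩ : X)) (g' := ⟨y, hy⟩) fun e => h1 (congrArg Subtype.val e))
    exact ⟨k, by rw [← SubmonoidClass.coe_pow ⟨a.2, h⟩ k, hk]⟩
  have hπ : ∀ a ∈ P, π (φ a) = ((fixD D X).ncard : ℤ) := by
    intro a ha
    simp only [π]
    rw [← Nat.card_eq_fintype_card, ← Nat.card_coe_set_eq (fixD D X), Nat.cast_inj]
    have hmem : a.2 ∈ X := (Finset.mem_filter.1 (Finset.mem_product.1 ha).2).2.1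
    refine Nat.card_congr
      { toFun := fun d => ⟨a.1⁻¹ * (d : D) * a.1, by
          simpa using hconj a.1⁻¹ (d : D) (d : D).2, Subgroup.mem_centralizer_iff.2 fun y hy => ?_⟩
        invFun := fun d => ⟨⟨a.1 * d * a.1⁻¹, hconj a.1 d d.2.1⟩, Subtype.ext ?_⟩
        left_inv := fun d => Subtype.ext (Subtype.ext (by simp [mul_assoc]))
        right_inv := fun d => Subtype.ext (by simp [mul_assoc]) }
    · obtain ⟨k, rfl⟩ := hgen ha y hy
      have h := mul_inv_eq_iff_eq_mul.1 (congrArg Subtype.val d.2 : φ a * (d : D) * (φ a)⁻¹ = _)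
      refine (Commute.pow_left ?_ k).eq
      show a.2 * (a.1⁻¹ * (d : D) * a.1) = a.1⁻¹ * (d : D) * a.1 * a.2
      calc _ = a.1⁻¹ * (φ a * (d : D)) * a.1 := by simp [φ, mul_assoc]
        _ = a.1⁻¹ * ((d : D) * φ a) * a.1 := by rw [h]
        _ = _ := by simp [φ, mul_assoc]
    · have h := (Subgroup.mem_centralizer_iff.1 d.2.2 a.2 hmem)
      show φ a * (a.1 * d * a.1⁻¹) * (φ a)⁻¹ = a.1 * d * a.1⁻¹
      calc _ = a.1 * (a.2 * d * a.2⁻¹) * a.1⁻¹ := by simp [φ, mul_assoc]
        _ = _ := by rw [h, mul_inv_cancel_right]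
  have hfib : ∀ y : G, (P.filter fun a => φ a = y).card ≤ Nat.card N := by
    intro y
    rcases (P.filter fun a => φ a = y).eq_empty_or_nonempty with h | ⟨a₀, h₀⟩
    · simp [h]
    obtain ⟨h₀, hy⟩ := Finset.mem_filter.1 h₀
    rw [Nat.card_eq_fintype_card, Fintype.card_subtype]
    refine Finset.card_le_card_of_injOn (fun a => a₀.1⁻¹ * a.1) (fun a ha => ?_) fun a ha b hb h => ?_
    · obtain ⟨ha, hay⟩ := Finset.mem_filter.1 ha
      refine Finset.mem_filter.2 ⟨Finset.mem_univ _, ?_⟩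
      have e : a₀.1⁻¹ * a.1 * a.2 * (a₀.1⁻¹ * a.1)⁻¹ = a₀.2 := by
        have : φ a = φ a₀ := hay.trans hy.symm
        calc _ = a₀.1⁻¹ * φ a * a₀.1 := by simp [φ, mul_assoc]
          _ = a₀.1⁻¹ * φ a₀ * a₀.1 := by rw [this]
          _ = _ := by simp [φ, mul_assoc]
      refine Subgroup.mem_normalizer_iff_map_conj_eq.2 ?_
      refine Subgroup.eq_of_le_of_card_ge ?_ (by
        rw [Nat.card_congr (X.equivMapOfInjective _ (MulAut.conj _).injective).toEquiv.symm])
      rintro _ ⟨x, hx, rfl⟩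
      obtain ⟨k, rfl⟩ := hgen ha x hx
      rw [map_pow]
      refine pow_mem ?_ k
      show a₀.1⁻¹ * a.1 * a.2 * (a₀.1⁻¹ * a.1)⁻¹ ∈ X
      rw [e]
      exact (Finset.mem_filter.1 (Finset.mem_product.1 h₀).2).2.1
    · have h1 : a.1 = b.1 := mul_left_cancel h
      refine Prod.ext h1 ?_
      have := (Finset.mem_filter.1 ha).2.trans (Finset.mem_filter.1 hb).2.symm
      simp only [φ, h1] at this
      exact mul_left_cancel (mul_right_cancel this)
  have hPc : P.card = Nat.card G * (p - 1) := by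
    rw [Finset.card_product, Finset.card_univ, Nat.card_eq_fintype_card]
    congr 1
    rw [← Finset.filter_filter, Finset.filter_ne', Finset.card_erase_of_mem (Finset.mem_filter.2 ⟨Finset.mem_univ _, X.one_mem⟩),
      ← Fintype.card_subtype, ← Nat.card_eq_fintype_card]
    exact congrArg (· - 1) hX
  have hsum : ∑ a ∈ P, (π (φ a) - 1) ^ 2 ≤ (Nat.card N : ℤ) * ∑ y : G, (π y - 1) ^ 2 := by
    rw [← Finset.sum_fiberwise P φ, Finset.mul_sum]
    refine Finset.sum_le_sum fun y _ => ?_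
    rw [Finset.sum_congr rfl fun a ha => by rw [(Finset.mem_filter.1 ha).2], Finset.sum_const, nsmul_eq_mul]
    exact mul_le_mul_of_nonneg_right (by exact_mod_cast hfib y) (sq_nonneg _)
  rw [Finset.sum_congr rfl fun a ha => by rw [hπ a ha], Finset.sum_const, nsmul_eq_mul, hPc] at hsum
  push_cast [Nat.cast_sub hp.out.one_le] at hsum
  have hG : (0 : ℤ) < Nat.card G := by exact_mod_cast Nat.card_pos
  refine le_of_mul_le_mul_left ?_ hG
  calc _ = (Nat.card G : ℤ) * ((p : ℤ) - 1) * (((fixD D X).ncard : ℤ) - 1) ^ 2 := by ring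
    _ ≤ (Nat.card N : ℤ) * ∑ y : G, (π y - 1) ^ 2 := hsum
    _ ≤ (Nat.card N : ℤ) * (2 * (Nat.card G : ℤ)) := mul_le_mul_of_nonneg_left hS (Int.natCast_nonneg _)
    _ = _ := by ring

end Cfsg.Agent.PrimeNorm
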