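/-
The normaliser of a subgroup of order 11 in a group of type M(22).

Main results (namespace `Cfsg.Agent.PrimeNorm`):
* `eleven_structure` : `N(X)` is the direct product of a Frobenius group of order 55 and `⟨d⟩`.
-/
import Cfsg.Agent.Lib.FischerM22.PrimeNorm.Local

set_option autoImplicit false

namespace Cfsg.Agent.PrimeNorm

open Cfsg.Agent.ThreeTrans Cfsg.Agent.ThreeTransSU Cfsg.Agent.FischerM22

variable {G : Type*} [Group G] [Finite G] {D : Set G}

theorem eleven_fixD (S : Fi22Setup D) {X : Subgroup G} (hX : Nat.card X = 11) :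
    ∃ d ∈ fixD D X, fixD D X = {d} := by
  have := Fact.mk (by norm_num : Nat.Prime 11)
  have h := fix_modEq hX D fun x _ y hy => S.conj_mem x hy
  rw [class_ncard S] at h
  obtain ⟨d, hd⟩ : (fixD D X).Nonempty := by
    refine Set.nonempty_of_ncard_ne_zero fun h0 => ?_
    rw [h0] at h
    exact absurd h (by decide)
  refine ⟨d, hd, Set.eq_singleton_iff_unique_mem.2 ⟨hd, fun e he => ?_⟩⟩
  by_contra hne
  have hfar := fixD_far S hX (by norm_num) hd he (Ne.symm hne)
  have h1 := Subgroup.card_dvd_of_le (le_inf (le_cent hd) (le_cent he))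
  rw [hX, far_fix_card S hd.1 he.1 hfar] at h1
  norm_num at h1

theorem eleven_structure (S : Fi22Setup D) {X : Subgroup G} (hX : Nat.card X = 11) :
    ∃ (F : Subgroup G) (d : G), d ∈ D ∧ Nat.card ↥F = 55 ∧ X ≤ F ∧
      F ⊓ Subgroup.centralizer (X : Set G) = X ∧ F ⊓ Subgroup.zpowers d = ⊥ ∧
      (∀ x ∈ F, ∀ y ∈ Subgroup.zpowers d, x * y = y * x) ∧
      F ⊔ Subgroup.zpowers d = Subgroup.normalizer (X : Set G) := by
  have := Fact.mk (by norm_num : Nat.Prime 11)
  have := Fact.mk (by norm_num : Nat.Prime 5)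
  obtain ⟨d, hd, hset⟩ := eleven_fixD S hX
  have hNd : Subgroup.normalizer (X : Set G) ≤ Subgroup.centralizer ({d} : Set G) := fun n hn => by
    have h := conj_fixD (fun g d hd => S.conj_mem g hd) hn hd
    rw [hset, Set.mem_singleton_iff] at h
    exact Subgroup.mem_centralizer_singleton_iff.2 (mul_inv_eq_iff_eq_mul.1 h)
  have hXd : X ≤ Subgroup.centralizer ({d} : Set G) := le_cent hd
  have hsq : ¬ 11 ^ 2 ∣ Nat.card ↥(Subgroup.centralizer ({d} : Set G)) := by
    rw [cent_card_of_mem S hd.1]; norm_num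
  obtain ⟨k, hk, hk1⟩ := norm_count hXd hX hsq
  obtain ⟨e, he, he10⟩ := norm_cent hX (Subgroup.centralizer ({d} : Set G))
  rw [cent_card S hX (Or.inr rfl) hd] at he
  rw [cent_card_of_mem S hd.1, he] at hk
  rw [inf_eq_right.2 hNd] at he
  have he5 : e = 5 := by
    have h10 : e ≤ 10 := Nat.le_of_dvd (by norm_num) he10
    have h1 : k % 11 = 1 := hk1
    interval_cases e <;> omega
  subst he5
  norm_num at he
  obtain ⟨f, hf⟩ := exists_prime_orderOf_dvd_card' (G := Subgroup.normalizer (X : Set G)) 5 (by rw [he]; norm_num)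
  have hYN : Subgroup.zpowers (f : G) ≤ Subgroup.normalizer (X : Set G) := Subgroup.zpowers_le.2 f.2
  have hYc : Nat.card (Subgroup.zpowers (f : G)) = 5 := by rw [Nat.card_zpowers, Subgroup.orderOf_coe, hf]
  have hXY : X ⊓ Subgroup.zpowers (f : G) = ⊥ := Subgroup.inf_eq_bot_of_coprime (by rw [hX, hYc]; norm_num)
  have hF : Nat.card ↥(X ⊔ Subgroup.zpowers (f : G)) = 55 := by rw [sup_card hYN hXY, hX, hYc]
  have hXC : X ≤ Subgroup.centralizer (X : Set G) := fun z hz => Subgroup.mem_centralizer_iff.2 fun w hw => by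
    have := isCyclic_of_prime_card hX
    exact congrArg Subtype.val ((IsMulCommutative.is_comm (M := X)).comm ⟨w, hw⟩ ⟨z, hz⟩)
  have hFN : X ⊔ Subgroup.zpowers (f : G) ≤ Subgroup.normalizer (X : Set G) := sup_le Subgroup.le_normalizer hYN
  have hdc : Nat.card (Subgroup.zpowers d) = 2 := by rw [Nat.card_zpowers, S.cls.1.1 d hd.1]
  have hbot : (X ⊔ Subgroup.zpowers (f : G)) ⊓ Subgroup.zpowers d = ⊥ :=
    Subgroup.inf_eq_bot_of_coprime (by rw [hF, hdc]; norm_num)
  have hcomm : ∀ x ∈ X ⊔ Subgroup.zpowers (f : G), ∀ y ∈ Subgroup.zpowers d, x * y = y * x := by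
    intro x hx y hy
    obtain ⟨i, rfl⟩ := hy
    exact ((show Commute x d from Subgroup.mem_centralizer_singleton_iff.1 (hNd (hFN hx))).zpow_right i).eq
  refine ⟨_, d, hd.1, hF, le_sup_left, ?_, hbot, hcomm, direct_split hFN ?_ hbot hcomm (by rw [hF, hdc, he])⟩
  · refine (Subgroup.eq_of_le_of_card_ge (le_inf le_sup_left hXC) ?_).symm
    have h1 := Subgroup.card_dvd_of_le (inf_le_left : (X ⊔ Subgroup.zpowers (f : G)) ⊓ Subgroup.centralizer (X : Set G) ≤ _)
    have h2 := Subgroup.card_dvd_of_le (inf_le_right : (X ⊔ Subgroup.zpowers (f : G)) ⊓ Subgroup.centralizer (X : Set G) ≤ _)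
    rw [hF] at h1
    have h22 : Nat.card ↥(Subgroup.centralizer (X : Set G)) = 2 * 11 := by
      rw [← cent_card S hX (Or.inr rfl) hd, inf_eq_right.2 ((Subgroup.centralizer_le_normalizer _).trans hNd)]
    rw [h22] at h2
    rw [hX]
    exact Nat.le_of_dvd (by norm_num) (Nat.dvd_gcd h1 h2 |>.trans (by norm_num))
  · refine Subgroup.zpowers_le.2 (Subgroup.centralizer_le_normalizer _ ?_)
    exact Subgroup.mem_centralizer_iff.2 fun x hx => (mem_fixD.1 hd).2 x hx

end Cfsg.Agent.PrimeNorm
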