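/-
Elements of order five of SU(6,2).

Main results (namespace `Cfsg.Agent.PrimeNorm`):
* `fix_nondeg` : the fixed space of an element of odd order is non-degenerate;
* `fix_five` : an element of order five fixes a plane;
* `det_two_eig` : the determinant on two eigenspaces;
* `three_points`, `plane_orth` : the three isotropic points of a non-degenerate plane;
* `central_of_cube_five` : an element of order three commuting with it and scalar on the plane is central.
-/
import Cfsg.Agent.Lib.FischerM22.PrimeNorm.Lift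

set_option autoImplicit false

namespace Cfsg.Agent.PrimeNorm

open scoped Matrix
open Cfsg.Agent.Unitary Cfsg.Agent.U62Cover Cfsg.Agent.ThreeTrans Cfsg.Agent.ThreeTransSU Cfsg.Agent.FischerM22

variable {F : Type*} [Field F] [Fintype F]

/-- The vectors orthogonal to a subspace. -/
def perpW (hF : Fintype.card F = 4) (W : Submodule F (Fin 6 → F)) : Submodule F (Fin 6 → F) where
  carrier := {v | ∀ w ∈ W, hf w v = 0}
  add_mem' := by
    intro a b ha hb w hw
    rw [hf_add_right hF, ha w hw, hb w hw, add_zero]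
  zero_mem' := by
    intro w _
    rw [show (0 : Fin 6 → F) = (0 : F) • w by rw [zero_smul], hf_smul_right hF]
    simp
  smul_mem' := by
    intro c x hx w hw
    rw [hf_smul_right hF, hx w hw, mul_zero]

/-- The sum of the images of `v` under the powers of `A`. -/
def avg (A : Cfsg.SU 6 F 2) (p : ℕ) (v : Fin 6 → F) : Fin 6 → F := ∑ i ∈ Finset.range p, act (A ^ i) v

theorem avg_fix {A : Cfsg.SU 6 F 2} {p : ℕ} (hA : A ^ p = 1) (v : Fin 6 → F) : avg A p v ∈ eig A 1 := by
  rw [mem_eig_one, avg]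
  let φ : (Fin 6 → F) →+ (Fin 6 → F) := AddMonoidHom.mk' (act A) (act_add A)
  show φ _ = _
  rw [map_sum]
  have h1 := Finset.sum_range_succ' (fun i => act (A ^ i) v) p
  rw [Finset.sum_range_succ, hA, pow_zero] at h1
  refine (Finset.sum_congr rfl fun i _ => ?_).trans (add_right_cancel h1).symm
  show act A (act (A ^ i) v) = act (A ^ (i + 1)) v
  rw [← act_mul, ← pow_succ']

theorem hf_avg (hF : Fintype.card F = 4) {A : Cfsg.SU 6 F 2} {p : ℕ} (hp : Odd p) {u : Fin 6 → F}
    (hu : u ∈ eig A 1) (v : Fin 6 → F) : hf u (avg A p v) = hf u v := by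
  have hk : ∀ k : ℕ, act (A ^ k) u = u := by
    intro k
    induction k with
    | zero => rw [pow_zero, act_one]
    | succ k ih => rw [pow_succ, act_mul, mem_eig_one.1 hu, ih]
  let φ : (Fin 6 → F) →+ F := AddMonoidHom.mk' (hf u) fun a b => hf_add_right hF u a b
  show φ (∑ i ∈ Finset.range p, act (A ^ i) v) = _
  rw [map_sum]
  have : ∀ i ∈ Finset.range p, φ (act (A ^ i) v) = hf u v := fun i _ => by
    show hf u (act (A ^ i) v) = _
    conv_lhs => rw [← hk i, act_hf]
  rw [Finset.sum_congr rfl this, Finset.sum_const, Finset.card_range, nsmul_eq_mul]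
  obtain ⟨m, rfl⟩ := hp
  push_cast
  linear_combination (m : F) * hf u v * two_eq_zero hF

theorem fix_nondeg (hF : Fintype.card F = 4) {A : Cfsg.SU 6 F 2} {p : ℕ} (hp : Odd p) (hA : A ^ p = 1) :
    ∀ u ∈ eig A 1, (∀ v ∈ eig A 1, hf u v = 0) → u = 0 := by
  intro u hu h
  refine hermForm_nondeg (card_sq hF) 6 u fun v => ?_
  show hf u v = 0
  rw [← hf_avg hF hp hu v]
  exact h _ (avg_fix hA v)

/-- The fixed space and its perpendicular split the space. -/
theorem fix_perp (hF : Fintype.card F = 4) {A : Cfsg.SU 6 F 2} {p : ℕ} (hp : Odd p) (hA : A ^ p = 1) :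
    Module.finrank F (eig A 1) + Module.finrank F (perpW hF (eig A 1)) = 6 ∧
      eig A 1 ⊓ perpW hF (eig A 1) = ⊥ ∧
      ∀ u ∈ perpW hF (eig A 1), (∀ v ∈ perpW hF (eig A 1), hf u v = 0) → u = 0 := by
  have hinf : eig A 1 ⊓ perpW hF (eig A 1) = ⊥ := (Submodule.eq_bot_iff _).2 fun u hu =>
    fix_nondeg hF hp hA u hu.1 fun v hv => (hf_eq_zero_symm hF).1 (hu.2 v hv)
  have hdec : ∀ v, v + avg A p v ∈ perpW hF (eig A 1) := fun v w hw => by
    rw [hf_add_right hF, hf_avg hF hp hw, add_self hF]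
  have hsplit : ∀ v : Fin 6 → F, v = avg A p v + (v + avg A p v) := fun v => by
    funext i
    simp only [Pi.add_apply]
    linear_combination -(avg A p v i) * two_eq_zero hF
  have htop : eig A 1 ⊔ perpW hF (eig A 1) = ⊤ := eq_top_iff.2 fun v _ => by
    rw [hsplit v]
    exact Submodule.add_mem_sup (avg_fix hA v) (hdec v)
  refine ⟨?_, hinf, fun u hu h => hermForm_nondeg (card_sq hF) 6 u fun v => ?_⟩
  · have := Submodule.finrank_sup_add_finrank_inf_eq (eig A 1) (perpW hF (eig A 1))
    rw [htop, hinf, finrank_top, finrank_bot, Module.finrank_fin_fun] at this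
    omega
  · show hf u v = 0
    rw [hsplit v, hf_add_right hF, h _ (hdec v), add_zero]
    exact (hf_eq_zero_symm hF).1 (hu _ (avg_fix hA v))

/-- An element of order five fixes a non-degenerate plane. -/
theorem fix_five (hF : Fintype.card F = 4) {A : Cfsg.SU 6 F 2} (hA : A ^ 5 = 1) (hA1 : A ≠ 1) :
    Module.finrank F (eig A 1) = 2 := by
  have := Fact.mk (by norm_num : Nat.Prime 5)
  obtain ⟨hsum, hinf, hnd⟩ := fix_perp hF (p := 5) (by decide) hA
  have h := fix_dim_top hF hA
  have h1 : 1 ≤ Module.finrank F (eig A 1) := by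
    have h := count_fix hA Iso fun v hv => hv.act A
    rw [count_iso hF] at h
    refine Nat.one_le_iff_ne_zero.2 fun h0 => ?_
    have : IsEmpty {v : Fin 6 → F // Iso v ∧ act A v = v} := ⟨fun v => v.2.1.1 (by
      have := mem_eig_one.2 v.2.2
      rwa [Submodule.finrank_eq_zero.1 h0, Submodule.mem_bot] at this)⟩
    rw [Nat.card_eq_zero.2 (Or.inl this)] at h
    exact absurd h (by decide)
  have h6 : Module.finrank F (eig A 1) ≠ 6 := fun h6 => by
    have htop : eig A 1 = ⊤ := Submodule.eq_top_of_finrank_eq (by rw [h6, Module.finrank_fin_fun])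
    exact hA1 (act_ext fun v => by rw [act_one]; exact mem_eig_one.1 (htop ▸ Submodule.mem_top))
  have h4 : Module.finrank F (eig A 1) ≠ 4 := fun h4 => by
    have hc : Nat.card {v : Fin 6 → F // v ∈ perpW hF (eig A 1) ∧ Iso v} = 9 := by
      rw [iso_count hF _ hnd, show Module.finrank F (perpW hF (eig A 1)) = 2 by omega]; rfl
    have hinv : ∀ v, v ∈ perpW hF (eig A 1) ∧ Iso v → act A v ∈ perpW hF (eig A 1) ∧ Iso (act A v) :=
      fun v hv => ⟨fun w hw => by
        rw [← mem_eig_one.1 hw, act_hf]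
        exact hv.1 w hw, hv.2.act A⟩
    have hcount := count_fix hA (fun v => v ∈ perpW hF (eig A 1) ∧ Iso v) hinv
    have : IsEmpty {v : Fin 6 → F // (v ∈ perpW hF (eig A 1) ∧ Iso v) ∧ act A v = v} := ⟨fun v => v.2.1.2.1 (by
      have : v.1 ∈ eig A 1 ⊓ perpW hF (eig A 1) := ⟨mem_eig_one.2 v.2.2, v.2.1.1⟩
      rwa [hinf, Submodule.mem_bot] at this)⟩
    rw [hc, Nat.card_eq_zero.2 (Or.inl this)] at hcount
    exact absurd hcount (by decide)
  generalize Module.finrank F (eig A 1) = d at hsum h h1 h6 h4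
  have : d ≤ 6 := by omega
  have h' : 4096 % 5 = 4 ^ d % 5 := h
  interval_cases d <;> simp_all

theorem det_two_eig (hF : Fintype.card F = 4) {ω : F} (hω : ω ^ 2 = ω + 1) {g : Cfsg.SU 6 F 2} (hg : g ^ 3 = 1)
    {s t : F} (hs : s ≠ 0) (ht : t ≠ 0) (hst : s ≠ t)
    (h : Module.finrank F (eig g s) + Module.finrank F (eig g t) = 6) :
    s ^ Module.finrank F (eig g s) * t ^ Module.finrank F (eig g t) = 1 := by
  classical
  have H := herm (n := 6) hF
  obtain ⟨b, hb, hbs⟩ := subspace_orthonormalBasis (card_sq hF) _ (eig_nondeg hF hω hg hs)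
  obtain ⟨b', hb', hbs'⟩ := subspace_orthonormalBasis (card_sq hF) _ (eig_nondeg hF hω hg ht)
  generalize Module.finrank F (eig g s) = m at b hb hbs h ⊢
  generalize Module.finrank F (eig g t) = n at b' hb' hbs' h ⊢
  let c : Fin m ⊕ Fin n → (Fin 6 → F) := Sum.elim b b'
  have hmem : ∀ i, b i ∈ eig g s := fun i => hbs ▸ Submodule.subset_span ⟨i, rfl⟩
  have hmem' : ∀ i, b' i ∈ eig g t := fun i => hbs' ▸ Submodule.subset_span ⟨i, rfl⟩
  have hc : Unitary.Orthonormal (Cfsg.hermForm 6 F 2) c := by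
    refine ⟨fun i => ?_, fun i j hij => ?_⟩
    · rcases i with i | i
      exacts [hb.1 i, hb'.1 i]
    · rcases i with i | i <;> rcases j with j | j
      exacts [hb.2 fun e => hij (congrArg Sum.inl e), hf_eig hF hst hs ht (hmem i) (hmem' j),
        hf_eig hF hst.symm ht hs (hmem' i) (hmem j), hb'.2 fun e => hij (congrArg Sum.inr e)]
  let d : Fin m ⊕ Fin n → F := Sum.elim (fun _ => s) fun _ => t
  have hcd : ∀ i, act g (c i) = d i • c i := fun i => by
    rcases i with i | i
    exacts [hmem i, hmem' i]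
  set P : Matrix (Fin 6) (Fin m ⊕ Fin n) F := Matrix.of fun i j => c j i with hP
  have hMP : ((g : Matrix.SpecialLinearGroup (Fin 6) F) : Matrix (Fin 6) (Fin 6) F) * P = P * Matrix.diagonal d := by
    ext i j
    rw [Matrix.mul_diagonal, mul_comm (P i j)]
    exact congrFun (hcd j) i
  let e : Fin 6 ≃ Fin m ⊕ Fin n := (finCongr h.symm).trans (finSumFinEquiv (m := m) (n := n)).symm
  have hdet := congrArg (fun M : Matrix (Fin 6) (Fin m ⊕ Fin n) F => (M.submatrix id e).det) hMP
  rw [Matrix.submatrix_mul _ _ id id e Function.bijective_id, Matrix.submatrix_id_id, Matrix.det_mul,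
    (g : Matrix.SpecialLinearGroup (Fin 6) F).2, one_mul,
    ← Matrix.submatrix_mul_equiv P (Matrix.diagonal d) id e e,
    Matrix.det_mul, Matrix.det_submatrix_equiv_self, Matrix.det_diagonal] at hdet
  have hP0 : (P.submatrix id e).det ≠ 0 := by
    refine fun h => ?_
    obtain ⟨x, hx, hx0⟩ := Matrix.exists_mulVec_eq_zero_iff.2 h
    refine hx (funext fun i => ?_)
    have hl := Fintype.linearIndependent_iff.1 (Unitary.Orthonormal.linearIndependent H hc) (x ∘ e.symm) ?_ (e i)
    · simpa using hl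
    · rw [← e.sum_comp]
      funext k
      have := congrFun hx0 k
      simpa [Matrix.mulVec, dotProduct, hP, Finset.sum_apply, mul_comm] using this
  have hprod : ∏ i, d i = 1 := mul_left_cancel₀ hP0 (by rw [mul_one]; exact hdet.symm)
  simpa [d] using hprod

/-- Orthogonal isotropic vectors of a non-degenerate plane are proportional. -/
theorem plane_orth (hF : Fintype.card F = 4) {W : Submodule F (Fin 6 → F)}
    (hW : ∀ u ∈ W, (∀ v ∈ W, hf u v = 0) → u = 0) (h2 : Module.finrank F W = 2) {u w : Fin 6 → F}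
    (hu : u ∈ W) (hw : w ∈ W) (iu : Iso u) (iw : Iso w) (h : hf u w = 0) : ∃ c : F, c ≠ 0 ∧ w = c • u := by
  by_contra hno
  have hli : LinearIndependent F ![u, w] := (LinearIndependent.pair_iff' iu.1).2 fun c e => hno
    ⟨c, fun h0 => iw.1 (by rw [← e, h0, zero_smul]), e.symm⟩
  have hspan : Submodule.span F (Set.range ![u, w]) = W := by
    refine Submodule.eq_of_le_of_finrank_le (Submodule.span_le.2 ?_) ?_
    · rintro _ ⟨j, rfl⟩
      fin_cases j
      exacts [hu, hw]
    · rw [finrank_span_eq_card hli, Fintype.card_fin, h2]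
  refine iu.1 (hW u hu fun v hv => ?_)
  rw [← hspan, Submodule.mem_span_range_iff_exists_fun] at hv
  obtain ⟨x, rfl⟩ := hv
  rw [Fin.sum_univ_two, hf_add_right hF, hf_smul_right hF, hf_smul_right hF]
  simp [iu.2, h]

/-- A condition holding exactly on the isotropic points of a non-degenerate plane has three members. -/
theorem three_points {G : Type*} [Group G] [Finite G] {D : Set G} {a : G} {pt : (Fin 6 → F) → G}
    (M : PointModel D a pt) {W : Submodule F (Fin 6 → F)} (hW : ∀ u ∈ W, (∀ v ∈ W, hf u v = 0) → u = 0)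
    (h2 : Module.finrank F W = 2) (P : G → Prop) (hP : ∀ v, Iso v → (P (pt v) ↔ v ∈ W)) :
    {y | y ∈ adj D a ∧ P y}.ncard = 3 ∧
      ∀ b ∈ {y | y ∈ adj D a ∧ P y}, ∀ c ∈ {y | y ∈ adj D a ∧ P y}, b ≠ c → ¬ Commute b c := by
  constructor
  · have h := card_pts M P
    have e : Nat.card {v : Fin 6 → F // Iso v ∧ P (pt v)} = Nat.card {v : Fin 6 → F // v ∈ W ∧ Iso v} :=
      Nat.card_congr (Equiv.subtypeEquivRight fun v =>
        ⟨fun h => ⟨(hP v h.1).1 h.2, h.1⟩, fun h => ⟨h.2, (hP v h.2).2 h.1⟩⟩)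
    rw [e, iso_count M.card W hW, h2] at h
    change 9 = _ at h
    omega
  · rintro b ⟨hb, hbP⟩ c ⟨hc, hcP⟩ hne hcomm
    obtain ⟨u, hu, rfl⟩ := M.surj b hb
    obtain ⟨w, hw, rfl⟩ := M.surj c hc
    obtain ⟨t, ht, rfl⟩ := plane_orth M.card hW h2 ((hP u hu).1 hbP) ((hP w hw).1 hcP) hu hw
      ((M.comm u w hu hw).1 hcomm)
    exact hne (M.smul u t hu ht).symm

/-- An element of order three modulo the centre, commuting with `A` and scalar on its plane, is central. -/
theorem central_of_cube_five (hF : Fintype.card F = 4) {A g : Cfsg.SU 6 F 2} (hA : A ^ 5 = 1) (hA1 : A ≠ 1)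
    (hcomm : Commute g A) (hg : g ^ 3 ∈ Subgroup.center (Cfsg.SU 6 F 2)) {c : F} (hc : c ≠ 0)
    (hW : eig A 1 ≤ eig g c) : g ∈ Subgroup.center (Cfsg.SU 6 F 2) := by
  have := Fact.mk (by norm_num : Nat.Prime 5)
  obtain ⟨z, -, hz3, hz⟩ := center_SU_scalar (card_sq hF) (by norm_num) hg
  have hz1 : z = 1 := by
    by_contra hne
    refine no_cube_omega hF (fun h0 => by simp [h0] at hz3) hne (M := ((g : Matrix.SpecialLinearGroup (Fin 6) F) : Matrix (Fin 6) (Fin 6) F))
      ?_ (g : Matrix.SpecialLinearGroup (Fin 6) F).2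
    rw [← Matrix.SpecialLinearGroup.coe_pow, ← Subgroup.coe_pow, hz]
    exact (Matrix.smul_one_eq_diagonal z).symm
  have hg3 : g ^ 3 = 1 := Subtype.ext (Subtype.ext (by rw [hz, hz1, map_one]; rfl))
  obtain ⟨ω, hω0, hω⟩ := U62Cover.exists_omega hF
  have hω1 : ω ≠ 1 := fun h => by
    rw [h, one_pow] at hω
    exact one_ne_zero (add_self hF (1 : F) ▸ hω)
  have h2W : 2 ≤ Module.finrank F (eig g c) := (fix_five hF hA hA1).ge.trans (Submodule.finrank_mono hW)
  have hle : ∀ t : F, Module.finrank F (eig g t) ≤ 6 := fun t =>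
    (Submodule.finrank_le _).trans_eq (Module.finrank_fin_fun F)
  have hdis : ∀ {s t : F}, s ≠ t → ∀ x ∈ eig g s, x ∈ eig g t → x = 0 := fun {s t} hst x hx hx' => by
    have e : (s - t) • x = 0 := by rw [sub_smul, ← (hx : act g x = _), ← (hx' : act g x = _), sub_self]
    exact (smul_eq_zero.1 e).resolve_left (sub_ne_zero.2 hst)
  have hsum2 : ∀ {s t : F}, s ≠ t → Module.finrank F (eig g s) + Module.finrank F (eig g t) ≤ 6 := fun {s t} hst => by
    have := Submodule.finrank_add_finrank_le_of_disjoint (s := eig g s) (t := eig g t)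
      (Submodule.disjoint_def.2 (hdis hst))
    rwa [Module.finrank_fin_fun] at this
  have hzero : ∀ t : F, t ≠ 0 → t ≠ c → Module.finrank F (eig g t) = 0 := by
    intro t ht htc
    have hinv : ∀ v ∈ eig g t, act A v ∈ eig g t := fun v hv => by
      show act g (act A v) = t • act A v
      rw [← act_mul, hcomm.eq, act_mul, show act g v = t • v from hv, act_smul]
    have h1 := fix_dim hF hA hinv
    have h0 : eig g t ⊓ eig A 1 = ⊥ := (Submodule.eq_bot_iff _).2 fun v hv => hdis htc v hv.1 (hW hv.2)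
    rw [h0, finrank_bot, pow_zero] at h1
    have h2 := count_fix hA (fun v => v ∈ eig g t ∧ Iso v) fun v hv => ⟨hinv v hv.1, hv.2.act A⟩
    have : IsEmpty {v : Fin 6 → F // (v ∈ eig g t ∧ Iso v) ∧ act A v = v} := ⟨fun v => v.2.1.2.1 (by
      have : v.1 ∈ eig g t ⊓ eig A 1 := ⟨v.2.1.1, mem_eig_one.2 v.2.2⟩
      rwa [h0, Submodule.mem_bot] at this)⟩
    rw [iso_count hF _ (eig_nondeg hF hω hg3 ht), Nat.card_eq_zero.2 (Or.inl this)] at h2
    have h3 := hsum2 (Ne.symm htc)
    have h4 := fun h => det_two_eig hF hω hg3 hc ht (Ne.symm htc) h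
    generalize Module.finrank F (eig g t) = n at h1 h2 h3 h4 ⊢
    generalize Module.finrank F (eig g c) = m at h2W h3 h4
    have : n ≤ 4 := by omega
    have h1' : 4 ^ n % 5 = 1 := h1
    have h2' : isoNum n % 5 = 0 := h2
    interval_cases n <;> simp_all [isoNum]
    obtain rfl : m = 2 := by omega
    refine htc ?_
    have hc3 := U62Cover.pow_three hF hc
    have ht3 := U62Cover.pow_three hF ht
    have h5 : c ^ 2 * t ^ 4 = 1 := h4 rfl
    linear_combination c * h5 - t * hc3 - c ^ 3 * t * ht3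
  have hsum := eig_finrank_sum hF hω hg3
  have hω2 : ω ^ 2 ≠ 0 := pow_ne_zero 2 hω0
  have n1 : (1 : F) ≠ ω ^ 2 := fun h => hω1 (by linear_combination (1 : F) * U62Cover.pow_three hF hω0 + ω * h)
  have n2 : ω ≠ ω ^ 2 := fun h => hω1 (mul_left_cancel₀ hω0 (by linear_combination -h))
  have h6 : Module.finrank F (eig g c) = 6 := by
    have hlec := hle c
    rcases four_cases hF hω c with rfl | rfl | rfl | rfl
    · exact absurd rfl hc
    · rw [hzero ω hω0 hω1, hzero _ hω2 n1.symm] at hsum; omega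
    · rw [hzero 1 one_ne_zero hω1.symm, hzero _ hω2 n2.symm] at hsum; omega
    · rw [hzero 1 one_ne_zero n1, hzero ω hω0 n2] at hsum; omega
  have htop : eig g c = ⊤ := Submodule.eq_top_of_finrank_eq (by rw [h6, Module.finrank_fin_fun])
  refine Subgroup.mem_center_iff.2 fun B => act_ext fun v => ?_
  have hall : ∀ w, act g w = c • w := fun w => (htop ▸ Submodule.mem_top : w ∈ eig g c)
  rw [act_mul, act_mul, hall, hall, act_smul]

end Cfsg.Agent.PrimeNorm
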