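/-
The centraliser of a subgroup of order 13 in a group of type M(22).

Main results (namespace `Cfsg.Agent.PrimeNorm`):
* `chi_three` : the character of degree 429 vanishes on elements of order three commuting with `X`;
* `no_nine` : no subgroup of order nine centralises `X`;
* `thirteen_cases` : `|N(X)| = 78`, and `|C(X)|` is 13 or 39.
-/
import Cfsg.Agent.Lib.FischerM22.PrimeNorm.ThreeFix
import Cfsg.Agent.Lib.FischerM22.PrimeNorm.Five
import Cfsg.Agent.Lib.FischerM22.PrimeNorm.Seven
import Cfsg.Agent.Lib.FischerM22.PrimeNorm.Eleven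
import Cfsg.Agent.Lib.GaloisPow.Twist
import Cfsg.Agent.Lib.BlockDefect.RegInner

set_option autoImplicit false

namespace Cfsg.Agent.PrimeNorm

open Cfsg Cfsg.Agent.ThreeTrans Cfsg.Agent.FischerM22

variable {G : Type*} [Group G] [Finite G] {D : Set G}

/-- A character with rational values is constant on generators of cyclic subgroups. -/
theorem rational_pow {χ : G → ℂ} (hχ : IsCharacter G χ) {g : G} {r : ℤ} (hr : 72 * χ g + 702 = r) {k : ℕ}
    (hk : k.Coprime (orderOf g)) : χ (g ^ k) = χ g := by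
  obtain ⟨f, hf⟩ := GaloisPow.exists_galois (Subgroup.zpowers g) (k := k) (by rwa [Nat.card_zpowers])
  have h := hf _ (Char.IsCharacter.restrict hχ (Subgroup.zpowers g)) ⟨g, Subgroup.mem_zpowers g⟩
  simp only [SubmonoidClass.coe_pow] at h
  have h2 := congrArg f hr
  rw [map_add, map_mul, map_intCast, show f (72 : ℂ) = 72 from map_ofNat f 72,
    show f (702 : ℂ) = 702 from map_ofNat f 702, h] at h2
  linear_combination (h2 - hr) / 72

/-- The sum of a character over the powers of an element. -/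
theorem sum_powers {χ : G → ℂ} (hχ : IsCharacter G χ) (g : G) :
    ∃ n : ℕ, ∑ i ∈ Finset.range (orderOf g), χ (g ^ i) = (orderOf g : ℂ) * n := by
  classical
  letI := Fintype.ofFinite G
  letI := Fintype.ofFinite (Subgroup.zpowers g)
  obtain ⟨n, hn⟩ := BlockDefect.sum_subgroup_eq hχ (Subgroup.zpowers g)
  refine ⟨n, ?_⟩
  rw [Nat.card_zpowers] at hn
  rw [← hn, Finset.sum_range]
  exact Fintype.sum_equiv (finEquivZPowers (isOfFinOrder_of_finite g)) _ _ fun i => by
    rw [finEquivZPowers_apply]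

variable {X : Subgroup G}

theorem thirteen_fixD (S : Fi22Setup D) (hX : Nat.card X = 13) : fixD D X = ∅ :=
  Set.eq_empty_of_forall_notMem fun d hd => by
    have h := Subgroup.card_dvd_of_le (le_cent hd)
    rw [hX, cent_card_of_mem S hd.1] at h
    norm_num at h

theorem thirteen_dvd (S : Fi22Setup D) (hX : Nat.card X = 13) {w : G} (hwX : ∀ x ∈ X, Commute x w) :
    13 ∣ (moveC D w).ncard ∧ 13 ∣ (cenD D w).ncard := by
  have := Fact.mk (by norm_num : Nat.Prime 13)
  have key : ∀ T : Set G, T ⊆ D → (∀ x ∈ X, ∀ d ∈ T, x * d * x⁻¹ ∈ T) → 13 ∣ T.ncard := by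
    intro T hTD hT
    have h := fix_modEq hX T hT
    have e : fixD T X = ∅ := Set.subset_empty_iff.1 ((Set.inter_subset_inter_left _ hTD).trans
      (thirteen_fixD S hX).subset)
    rw [e, Set.ncard_empty] at h
    exact Nat.modEq_zero_iff_dvd.1 h
  have hw : ∀ x ∈ X, ∀ d, w * (x * d * x⁻¹) * w⁻¹ = x * (w * d * w⁻¹) * x⁻¹ := fun x hx d => by
    calc _ = (w * x) * d * (w * x)⁻¹ := by simp [mul_assoc]
      _ = (x * w) * d * (x * w)⁻¹ := by rw [(hwX x hx).eq]
      _ = _ := by simp [mul_assoc]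
  refine ⟨key _ (fun d hd => hd.1) fun x hx d hd => ⟨S.conj_mem x hd.1, ?_⟩,
    key _ (fun d hd => hd.1) fun x hx d hd => ⟨S.conj_mem x hd.1, ?_⟩⟩
  · rw [hw x hx]
    exact (conj_adj S.grp.2.1 x d _).2 (by simpa [mul_assoc] using hd.2)
  · exact mul_inv_eq_iff_eq_mul.1 (by rw [hw x hx, mul_inv_eq_iff_eq_mul.2 hd.2.eq])

/-- The character of degree 429 vanishes on elements of order three commuting with `X`. -/
theorem chi_three (S : Fi22Setup D) (hX : Nat.card X = 13) {χ : G → ℂ} (hχ : IsCharacter G χ) (h429 : χ 1 = 429)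
    (hval : ∀ g, 72 * χ g + 702 = (moveC D g).ncard + 9 * (cenD D g).ncard) {w : G} (hw : w ^ 3 = 1)
    (hw1 : w ≠ 1) (hwX : ∀ x ∈ X, Commute x w) : χ w = 0 := by
  have := Fact.mk Nat.prime_three
  have ho : orderOf w = 3 := orderOf_eq_prime hw hw1
  obtain ⟨n, hn⟩ := sum_powers hχ w
  obtain ⟨m, hm⟩ := sum_powers (Char.IsCharacter.mul hχ hχ) w
  have hr : 72 * χ w + 702 = (((moveC D w).ncard + 9 * (cenD D w).ncard : ℕ) : ℤ) := by
    rw [hval]; push_cast; ring
  have h2 : χ (w ^ 2) = χ w := rational_pow hχ hr (by rw [ho]; decide)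
  rw [ho] at hn hm
  simp only [Finset.sum_range_succ, Finset.sum_range_zero, pow_zero, pow_one, h429, h2, Pi.mul_apply] at hn hm
  obtain ⟨h13a, h13s⟩ := thirteen_dvd S hX hwX
  have hsplit := class_split S w
  have hsum : (moveC D w).ncard + 9 * (cenD D w).ncard < 2107 := by
    by_cases hs : (cenD D w).ncard = 0
    · by_contra h
      -- the only remaining value moves every member to a neighbour
      have e1 : (36 : ℂ) * (3 * n - 429) + 702 = ((moveC D w).ncard + 9 * (cenD D w).ncard : ℕ) := by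
        push_cast at hn ⊢
        linear_combination hval w - 36 * hn
      have e2 : (36 : ℤ) * (3 * n - 429) + 702 = ((moveC D w).ncard + 9 * (cenD D w).ncard : ℕ) := by
        exact_mod_cast e1
      rw [hs] at e2 hsplit h
      have ha : (moveC D w).ncard = 3510 := by omega
      refine three_not_all S hw hw1 fun d hd => ?_
      have e : moveC D w = D := Set.eq_of_subset_of_ncard_le (fun d hd => hd.1) (by rw [ha, class_ncard S]) (Set.toFinite _)
      exact (e.symm.subset hd : d ∈ moveC D w).2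
    · have := three_upper S hw hw1 hs
      by_contra h
      have e1 : (36 : ℂ) * (3 * n - 429) + 702 = ((moveC D w).ncard + 9 * (cenD D w).ncard : ℕ) := by
        push_cast at hn ⊢
        linear_combination hval w - 36 * hn
      have e2 : (36 : ℤ) * (3 * n - 429) + 702 = ((moveC D w).ncard + 9 * (cenD D w).ncard : ℕ) := by
        exact_mod_cast e1
      omega
  have e1 : (36 : ℂ) * (3 * n - 429) + 702 = ((moveC D w).ncard + 9 * (cenD D w).ncard : ℕ) := by
    push_cast at hn ⊢
    linear_combination hval w - 36 * hn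
  have e2 : (36 : ℤ) * (3 * n - 429) + 702 = ((moveC D w).ncard + 9 * (cenD D w).ncard : ℕ) := by
    exact_mod_cast e1
  rcases (show (moveC D w).ncard + 9 * (cenD D w).ncard = 702 ∨ (moveC D w).ncard + 9 * (cenD D w).ncard = 2106 by
    omega) with h | h
  · have e := hval w
    have h' : (((moveC D w).ncard + 9 * (cenD D w).ncard : ℕ) : ℂ) = 702 := by rw [h]; norm_num
    push_cast at h'
    linear_combination (e + h') / 72
  · exfalso
    have h' : (((moveC D w).ncard + 9 * (cenD D w).ncard : ℕ) : ℂ) = 2106 := by rw [h]; norm_num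
    push_cast at h' hm
    have hχw : 2 * χ w = 39 := by linear_combination (hval w + h') / 36
    have hm' : (2 * 429 * 429 + 39 * 39 : ℂ) = 6 * m := by
      linear_combination 2 * hm - (2 * χ w + 39) * hχw
    have : (2 * 429 * 429 + 39 * 39 : ℕ) = 6 * m := by exact_mod_cast hm'
    omega

/-- No subgroup of order nine centralises `X`. -/
theorem no_nine (S : Fi22Setup D) (hX : Nat.card X = 13) {U : Subgroup G} (hU : Nat.card U = 9)
    (hUX : U ≤ Subgroup.centralizer (X : Set G)) : False := by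
  classical
  letI := Fintype.ofFinite G
  obtain ⟨χ, -, hχi, -, h429, -, hval, -⟩ := exists_chars S
  have hχ := Char.IsIrrCharacter.isCharacter hχi
  have hcX : ∀ u ∈ U, ∀ x ∈ X, Commute x u := fun u hu x hx => Subgroup.mem_centralizer_iff.1 (hUX hu) x hx
  have hz : ∀ u ∈ U, u ^ 3 = 1 → u ≠ 1 → χ u = 0 := fun u hu h3 h1 => chi_three S hX hχ h429 hval h3 h1 (hcX u hu)
  have h9 : ∀ u ∈ U, u ^ 9 = 1 := fun u hu => by
    have := pow_card_eq_one' (x := (⟨u, hu⟩ : U))
    rw [hU] at this
    exact congrArg Subtype.val this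
  by_cases hexp : ∀ u ∈ U, u ^ 3 = 1
  · obtain ⟨n, hn⟩ := BlockDefect.sum_subgroup_eq hχ U
    rw [Finset.sum_eq_single (1 : U) (fun u _ hu => hz u u.2 (hexp u u.2) fun e => hu (Subtype.ext e))
      fun h => absurd (Finset.mem_univ _) h, hU, Subgroup.coe_one, h429] at hn
    have : (429 : ℕ) = 9 * n := by exact_mod_cast hn
    omega
  · push Not at hexp
    obtain ⟨h, hh, h3⟩ := hexp
    have := Fact.mk Nat.prime_three
    have ho : orderOf h = 9 :=
      orderOf_eq_prime_pow (p := 3) (n := 1) (by simpa using h3) (by simpa using h9 h hh)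
    have hr : 72 * χ h + 702 = (((moveC D h).ncard + 9 * (cenD D h).ncard : ℕ) : ℤ) := by
      rw [hval]; push_cast; ring
    have hc : ∀ k, k.Coprime 9 → χ (h ^ k) = χ h := fun k hk => rational_pow hχ hr (by rwa [ho])
    have z3 : χ (h ^ 3) = 0 := hz _ (pow_mem hh 3) (by rw [← pow_mul]; exact h9 h hh) h3
    have z6 : χ (h ^ 6) = 0 := hz _ (pow_mem hh 6) (by
      rw [← pow_mul, show 6 * 3 = 9 * 2 by rfl, pow_mul, h9 h hh, one_pow]) fun e => h3 (by
      rw [show h ^ 3 = h ^ 9 * (h ^ 6)⁻¹ by group, e, h9 h hh, inv_one, mul_one])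
    obtain ⟨n, hn⟩ := sum_powers hχ h
    obtain ⟨m, hm⟩ := sum_powers (Char.IsCharacter.mul hχ hχ) h
    rw [ho] at hn hm
    simp only [Finset.sum_range_succ, Finset.sum_range_zero, pow_zero, pow_one, h429, z3, z6, Pi.mul_apply,
      hc 2 (by decide), hc 4 (by decide), hc 5 (by decide), hc 7 (by decide), hc 8 (by decide)] at hn hm
    push_cast at hn hm
    have e1 : 2 * χ h = ((3 * n - 143 : ℤ) : ℂ) := by push_cast; linear_combination hn / 3
    have e2 : ((2 * (429 * 429) + 3 * (3 * (n : ℤ) - 143) ^ 2 : ℤ) : ℂ) = ((18 * m : ℤ) : ℂ) := by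
      push_cast at e1 ⊢
      linear_combination 2 * hm - 3 * (2 * χ h + (3 * (n : ℂ) - 143)) * e1
    have e3 := Int.cast_injective e2
    rw [show (2 : ℤ) * (429 * 429) + 3 * (3 * (n : ℤ) - 143) ^ 2 =
      9 * (3 * ((n : ℤ) * n) - 286 * n) + 429429 by ring] at e3
    omega

/-- The orders of the normaliser and the centraliser. -/
theorem thirteen_cases (S : Fi22Setup D) (hX : Nat.card X = 13) :
    Nat.card ↥(Subgroup.normalizer (X : Set G)) = 78 ∧
      (Nat.card ↥(Subgroup.centralizer (X : Set G)) = 13 ∨ Nat.card ↥(Subgroup.centralizer (X : Set G)) = 39) := by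
  have := Fact.mk (by norm_num : Nat.Prime 13)
  set C := Subgroup.centralizer (X : Set G) with hC
  have hXC : X ≤ C := fun z hz => Subgroup.mem_centralizer_iff.2 fun w hw => by
    have := isCyclic_of_prime_card hX
    exact congrArg Subtype.val ((IsMulCommutative.is_comm (M := X)).comm ⟨w, hw⟩ ⟨z, hz⟩)
  have hsub : ∀ q, q.Prime → q ∣ Nat.card C → ∃ y : G, orderOf y = q ∧ ∀ x ∈ X, Commute x y := by
    intro q hq hd
    have := Fact.mk hq
    obtain ⟨y, hy⟩ := exists_prime_orderOf_dvd_card' q hd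
    exact ⟨y, by rw [Subgroup.orderOf_coe, hy], fun x hx => Subgroup.mem_centralizer_iff.1 y.2 x hx⟩
  have h2 : ¬ 2 ∣ Nat.card C := fun hd => by
    obtain ⟨y, hy, hyX⟩ := hsub 2 Nat.prime_two hd
    have e := pow_orderOf_eq_one y
    rw [hy, pow_two] at e
    have h := involution_mem S hX (by norm_num) (fun a ha => by rw [thirteen_fixD S hX] at ha; exact ha.elim) e
      (fun e' => by rw [e', orderOf_one] at hy; exact absurd hy (by norm_num)) hyX
    rw [thirteen_fixD S hX] at h
    exact h
  have hbig : ∀ q, q.Prime → (q = 5 ∨ q = 7 ∨ q = 11) → ¬ q ∣ Nat.card C := by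
    intro q hq hcase hd
    obtain ⟨y, hy, hyX⟩ := hsub q hq hd
    have hQ : Nat.card (Subgroup.zpowers y) = q := by rw [Nat.card_zpowers, hy]
    have hle : X ≤ Subgroup.centralizer ((Subgroup.zpowers y : Subgroup G) : Set G) := fun x hx =>
      Subgroup.mem_centralizer_iff.2 fun z hz => by
        obtain ⟨i, rfl⟩ := hz
        exact ((hyX x hx).zpow_right i).symm.eq
    have h := Subgroup.card_dvd_of_le (hle.trans (Subgroup.centralizer_le_normalizer _))
    rw [hX] at h
    rcases hcase with rfl | rfl | rfl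
    · obtain ⟨F, hF, -, -, hbot, hcomm, hsup, ⟨e⟩⟩ := five_structure S hQ (five_all_fixed S hQ)
      rw [← hsup, sup_card (fun z hz => Subgroup.centralizer_le_normalizer _
        (Subgroup.mem_centralizer_iff.2 fun x hx => hcomm x hx z hz)) hbot, hF, Nat.card_congr e.toEquiv,
        Nat.card_perm, Nat.card_fin] at h
      norm_num [Nat.factorial] at h
    · rw [(seven_count S hQ).2.1] at h
      norm_num at h
    · obtain ⟨F, d, hd, hF, -, -, hbot, hcomm, hsup⟩ := eleven_structure S hQ
      rw [← hsup, sup_card (fun z hz => Subgroup.centralizer_le_normalizer _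
        (Subgroup.mem_centralizer_iff.2 fun x hx => hcomm x hx z hz)) hbot, hF, Nat.card_zpowers,
        S.cls.1.1 d hd] at h
      norm_num at h
  have h9 : ¬ 9 ∣ Nat.card C := fun h => by
    have := Fact.mk Nat.prime_three
    obtain ⟨U, hU⟩ := Sylow.exists_subgroup_card_pow_prime 3 (n := 2) (G := C) (by simpa using h)
    exact no_nine S hX (U := U.map C.subtype)
      (by rw [Subgroup.card_map_of_injective Subtype.val_injective, hU]; norm_num) (Subgroup.map_subtype_le _)
  have hd13 : 13 ∣ Nat.card C := hX ▸ Subgroup.card_dvd_of_le hXC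
  have hdG : Nat.card C ∣ 64561751654400 := group_card S ▸ Subgroup.card_subgroup_dvd_card C
  obtain ⟨k, hk, hk1⟩ := norm_count (H := ⊤) le_top hX (by rw [Subgroup.card_top, group_card S]; norm_num)
  obtain ⟨e, he, he12⟩ := norm_cent hX ⊤
  rw [top_inf_eq, top_inf_eq, ← hC] at he
  rw [top_inf_eq, Subgroup.card_top, group_card S, he] at hk
  have hc : Nat.card C = 13 ∨ Nat.card C = 39 := by
    have cop : ∀ q : ℕ, q.Prime → ¬ q ∣ Nat.card C → Nat.Coprime (Nat.card C) q :=
      fun q hq h => (hq.coprime_iff_not_dvd.2 h).symm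
    have c2 := (cop 2 Nat.prime_two h2).pow_right 17
    have c5 := (cop 5 (by norm_num) (hbig 5 (by norm_num) (by simp))).pow_right 2
    have c7 := cop 7 (by norm_num) (hbig 7 (by norm_num) (by simp))
    have c11 := cop 11 (by norm_num) (hbig 11 (by norm_num) (by simp))
    have hd3 : Nat.card C ∣ 13 * 3 ^ 9 := by
      refine (((c2.mul_right c5).mul_right c7).mul_right c11).dvd_of_dvd_mul_right ?_
      simpa using hdG
    generalize Nat.card C = c at hd13 hd3 h9
    obtain ⟨m, rfl⟩ := hd13
    have hm : m ∣ 3 ^ 9 := (Nat.mul_dvd_mul_iff_left (by norm_num)).1 hd3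
    obtain ⟨i, -, rfl⟩ := (Nat.dvd_prime_pow Nat.prime_three).1 hm
    rcases i with _ | _ | i
    · exact Or.inl (by norm_num)
    · exact Or.inr (by norm_num)
    · exact absurd ⟨13 * 3 ^ i, by ring⟩ h9
  refine ⟨?_, hc⟩
  have he12' : e ≤ 12 := Nat.le_of_dvd (by norm_num) he12
  have h1 : k % 13 = 1 := hk1
  rw [he]
  rcases hc with hc | hc <;> rw [hc] at hk ⊢ <;> interval_cases e <;> first | omega | (norm_num at he12)

end Cfsg.Agent.PrimeNorm
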