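/-
A subgroup of order 13 in a group of type M(22) is its own centraliser.

Main results (namespace `Cfsg.Agent.PrimeNorm`):
* `not_thirtynine` : the principal 13-block excludes a centraliser of order 39;
* `thirteen_structure` : `|N(X)| = 78` and `C(X) = X`.
-/
import Cfsg.Agent.Lib.FischerM22.PrimeNorm.Thirteen
import Cfsg.Agent.Lib.CyclicDefect.Count
import Cfsg.Agent.Lib.CentralChar.Fixed

set_option autoImplicit false

namespace Cfsg.Agent.PrimeNorm

open Cfsg Cfsg.Agent.Blocks Cfsg.Agent.CyclicDefect Cfsg.Agent.ThreeTrans Cfsg.Agent.FischerM22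

variable {G : Type*} [Group G] [Finite G] {D : Set G} {X : Subgroup G}

omit [Finite G] in
theorem centralizer_zpowers (x : G) :
    Subgroup.centralizer ((Subgroup.zpowers x : Subgroup G) : Set G) = Subgroup.centralizer ({x} : Set G) := by
  rw [Subgroup.zpowers_eq_closure, Subgroup.centralizer_closure]

/-- The centraliser of `X` is not of order 39. -/
theorem not_thirtynine (S : Fi22Setup D) (hX : Nat.card X = 13)
    (hN : Nat.card ↥(Subgroup.normalizer (X : Set G)) = 78) :
    Nat.card ↥(Subgroup.centralizer (X : Set G)) ≠ 39 := by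
  classical
  intro hC
  letI := Fintype.ofFinite G
  have := Fact.mk (by norm_num : Nat.Prime 13)
  obtain ⟨χ₀, ψ₀, hχi, hψi, h429, h3080, -, htot⟩ := exists_chars S
  let χ : IrrCharacter G := ⟨χ₀, hχi⟩
  let ψ : IrrCharacter G := ⟨ψ₀, hψi⟩
  let one : IrrCharacter G := ⟨1, Char.isIrrCharacter_one⟩
  obtain ⟨x, hx, hgen⟩ : ∃ x : G, orderOf x = 13 ∧ Subgroup.zpowers x = X := by
    obtain ⟨g, hg⟩ := (isCyclic_of_prime_card hX).exists_generator
    have hg' : Subgroup.zpowers g = ⊤ := (Subgroup.eq_top_iff' _).2 hg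
    have h : orderOf (g : G) = 13 := by
      rw [Subgroup.orderOf_coe, ← Nat.card_zpowers, hg', Subgroup.card_top, hX]
    exact ⟨g, h, Subgroup.eq_of_le_of_card_ge (Subgroup.zpowers_le.2 g.2) (by rw [hX, Nat.card_zpowers, h])⟩
  obtain ⟨L, hS⟩ := exists_setting (by norm_num) hx (by rw [group_card S]; norm_num)
  obtain ⟨M, hM⟩ := CentralChar.exists_pModular 13
  haveI := hS.normal_K
  have hK : Nat.card (K x L) = 3 := by
    have h := hS.card_centralizer
    rw [← centralizer_zpowers, hgen, hC] at h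
    omega
  have hidx : (K x L).index = 2 := by
    have h := hS.card_normalizer
    rw [hgen, hN, ← Subgroup.card_mul_index (K x L), hK] at h
    omega
  letI := Fintype.ofFinite (K x L)
  letI := Fintype.ofFinite (IrrCharacter (K x L))
  letI := Fintype.ofFinite (IrrCharacter G)
  -- no member is centralised by a singular element
  have hsing : ∀ (i : ZMod 13), i ≠ 0 → ∀ k : K x L, cenD D (pw x i * ((k : L) : G)) = ∅ := by
    intro i hi k
    refine Set.eq_empty_of_forall_notMem fun d hd => ?_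
    have hk3 : ((k : L) : G) ^ 3 = 1 := by
      have := pow_card_eq_one' (x := k)
      rw [hK] at this
      exact congrArg (fun k : K x L => ((k : L) : G)) this
    have h := hd.2.pow_left 3
    rw [(hS.commute_pw i (hS.commute_K k)).mul_pow, hk3, mul_one, hS.pw_pow] at h
    have h3i : (3 : ℕ) * i ≠ 0 := mul_ne_zero (fun e => absurd ((ZMod.natCast_eq_zero_iff 3 13).1 e) (by norm_num)) hi
    have hxd := (hS.commute_pw_iff h3i).1 h
    have hd' : d ∈ fixD D X := mem_fixD.2 ⟨hd.1, fun z hz => by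
      rw [← hgen] at hz
      obtain ⟨n, rfl⟩ := hz
      exact hxd.zpow_left n⟩
    rw [thirteen_fixD S hX] at hd'
    exact hd'
  have hdeg : charDegree (χ : G → ℂ) = 429 :=
    Nat.cast_injective (R := ℂ) ((Blocks.charDegree_cast χ).trans h429)
  have hχ0 : ∀ (i : ZMod 13), i ≠ 0 → ∀ k : K x L, χ₀ (pw x i * ((k : L) : G)) = 0 := by
    intro i hi k
    refine (apply_pw_mul hS hM χ hi k).trans (Finset.sum_eq_zero fun η hη => ?_)
    exact absurd (hdeg ▸ (by norm_num : 13 ∣ 429))
      (not_dvd_of_lies hS hM ⟨χ, rfl⟩ (Finset.mem_filter.1 hη).2 (mem_blockOf_self hM χ))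
  have hψ0 : ∀ (i : ZMod 13), i ≠ 0 → ∀ k : K x L, ψ₀ (pw x i * ((k : L) : G)) = -1 := by
    intro i hi k
    have h := htot (pw x i * ((k : L) : G))
    rw [hsing i hi k, hχ0 i hi k, Set.ncard_empty, Nat.cast_zero] at h
    linear_combination h
  have h11 : classInner (1 : K x L → ℂ) 1 = 1 := Char.classInner_irr_self Char.isIrrCharacter_one
  have hd1 : ∀ i : ZMod 13, dec (x := x) (L := L) (one : G → ℂ) (oneK x L : K x L → ℂ) i = 1 := fun i => by
    rw [dec_eq]; exact h11
  have hd2 : ∀ i : ZMod 13, i ≠ 0 → dec (x := x) (L := L) (ψ : G → ℂ) (oneK x L : K x L → ℂ) i = -1 := fun i hi => by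
    rw [dec_eq, show (fun k : K x L => (ψ : G → ℂ) (pw x i * ((k : L) : G))) = -(1 : K x L → ℂ) from
      funext fun k => hψ0 i hi k, Char.classInner_neg_left]
    exact congrArg Neg.neg h11
  have hrow : ∀ (θ : IrrCharacter G) (c : ℤ), (∀ i : ZMod 13, i ≠ 0 →
      dec (x := x) (L := L) (θ : G → ℂ) (oneK x L : K x L → ℂ) i = c) →
      ∀ u : (ZMod 13)ˣ, bInt hS θ (oneK x L) (u : ZMod 13) = -c := by
    intro θ c h u
    apply Int.cast_injective (α := ℂ)
    rw [← bInt_spec hS, bval, Finset.sum_congr rfl (g := fun i : ZMod 13 => ((ζ (i * -(u : ZMod 13))) - 1) * (c : ℂ))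
      (fun i _ => ?_)]
    · rw [← Finset.sum_mul, Finset.sum_sub_distrib, sum_ζ_mul, if_neg (neg_ne_zero.2 u.ne_zero), Finset.sum_const,
        Finset.card_univ, ZMod.card]
      push_cast
      simp only [nsmul_eq_mul]
      norm_num
      ring
    · by_cases hi : i = 0
      · subst hi; simp
      · rw [h i hi, mul_neg]
  have hrow1 : ∀ u : (ZMod 13)ˣ, bInt hS one (oneK x L) (u : ZMod 13) = -1 :=
    hrow one 1 fun i _ => by rw [hd1]; norm_num
  have hrow2 : ∀ u : (ZMod 13)ˣ, bInt hS ψ (oneK x L) (u : ZMod 13) = 1 := fun u => by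
    rw [hrow ψ (-1) (fun i hi => by rw [hd2 i hi]; norm_num) u]; norm_num
  have hl := lies_principal hS hM
  obtain ⟨hB, h1B⟩ := principal_isPBlock (G := G) hM
  have hψB : ψ ∈ principalBlock M G := mem_of_dec_ne_zero hS hM hB hl (one_ne_zero : (1 : ZMod 13) ≠ 0)
    (by rw [hd2 1 one_ne_zero]; norm_num)
  obtain ⟨hcardB, exc, ε, δ, hinj, hexB, hε, hexc, hcst, hrel⟩ := block_structure hS hM hB hl
  have hU : Nat.card (U hS (oneK x L : K x L → ℂ)) = 2 := (card_U_one hS).trans hidx
  have hQ : Nat.card ((ZMod 13)ˣ ⧸ U hS (oneK x L : K x L → ℂ)) = 6 := by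
    have := card_units_eq hS (oneK x L : K x L → ℂ)
    rw [hU] at this
    omega
  rw [hU, hQ] at hcardB
  have hnot : ∀ θ : IrrCharacter G, ∀ c : ℤ, c ≠ 0 → (∀ u : (ZMod 13)ˣ, bInt hS θ (oneK x L) (u : ZMod 13) = c) →
      θ ∉ Set.range exc := by
    rintro θ c hc hu ⟨a, rfl⟩
    obtain ⟨b, hb⟩ : ∃ b, b ≠ a := by
      have : 1 < Nat.card ((ZMod 13)ˣ ⧸ U hS (oneK x L : K x L → ℂ)) := by omega
      have := Finite.one_lt_card_iff_nontrivial.1 this
      exact exists_ne a
    obtain ⟨u, rfl⟩ := QuotientGroup.mk_surjective b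
    have h := hexc a u
    rw [if_neg hb, hu u] at h
    exact hc h
  have hn1 := hnot one (-1) (by norm_num) hrow1
  have hn2 := hnot ψ 1 one_ne_zero hrow2
  have hne : one ≠ ψ := fun e => by
    have := congrArg (fun θ : IrrCharacter G => (θ : G → ℂ) 1) e
    simp only [one, ψ, h3080, Pi.one_apply] at this
    norm_num at this
  set Fs := Finset.univ.filter (fun θ => θ ∈ principalBlock M G ∧ θ ∉ Set.range exc) with hFs
  have hFcard : Fs.card = 2 := by
    have hr : (Set.range exc).ncard = 6 := by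
      rw [← Set.image_univ, Set.ncard_image_of_injective _ hinj, Set.ncard_univ, hQ]
    have hc : (principalBlock M G \ Set.range exc).ncard = 2 := by
      rw [Set.ncard_sdiff (by rintro _ ⟨c, rfl⟩; exact hexB c), hr, ← Nat.card_coe_set_eq, hcardB]
    rw [← hc, ← Set.ncard_coe_finset]
    congr 1
    ext θ
    simp [hFs]
  have hF : Fs = {one, ψ} := by
    refine (Finset.eq_of_subset_of_card_le (fun θ hθ => ?_) (by rw [hFcard, Finset.card_pair hne])).symm
    simp only [Finset.mem_insert, Finset.mem_singleton] at hθ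
    rcases hθ with rfl | rfl
    exacts [Finset.mem_filter.2 ⟨Finset.mem_univ _, h1B, hn1⟩, Finset.mem_filter.2 ⟨Finset.mem_univ _, hψB, hn2⟩]
  have hδ1 : δ one = -1 := ((hcst one h1B hn1).2 1).symm.trans (hrow1 1)
  have hδ2 : δ ψ = 1 := ((hcst ψ hψB hn2).2 1).symm.trans (hrow2 1)
  have h := hrel 1 (by simp) ((1 : (ZMod 13)ˣ) : (ZMod 13)ˣ ⧸ U hS (oneK x L : K x L → ℂ))
  rw [Finset.sum_congr (s₂ := ({one, ψ} : Finset (IrrCharacter G))) (by rw [← hF, hFs]; congr!) fun _ _ => rfl,
    Finset.sum_pair hne, hδ1, hδ2] at h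
  set θ := exc ((1 : (ZMod 13)ˣ) : (ZMod 13)ˣ ⧸ U hS (oneK x L : K x L → ℂ)) with hθ
  have hdvd := Blocks.charDegree_dvd_card θ
  rw [group_card S] at hdvd
  simp only [one, ψ, h3080, Pi.one_apply, ← Blocks.charDegree_cast θ] at h
  have he : (3079 : ℤ) + ε * charDegree (θ : G → ℂ) = 0 := by
    apply Int.cast_injective (α := ℂ)
    push_cast at h ⊢
    linear_combination h
  rcases hε with rfl | rfl
  · omega
  · rw [show charDegree (θ : G → ℂ) = 3079 by omega] at hdvd
    norm_num at hdvd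

/-- The normaliser of a subgroup of order 13. -/
theorem thirteen_structure (S : Fi22Setup D) (hX : Nat.card X = 13) :
    Nat.card ↥(Subgroup.normalizer (X : Set G)) = 78 ∧ Subgroup.centralizer (X : Set G) = X := by
  have := Fact.mk (by norm_num : Nat.Prime 13)
  obtain ⟨hN, hC⟩ := thirteen_cases S hX
  refine ⟨hN, (Subgroup.eq_of_le_of_card_ge (fun z hz => Subgroup.mem_centralizer_iff.2 fun w hw => ?_) ?_).symm⟩
  · have := isCyclic_of_prime_card hX
    exact congrArg Subtype.val ((IsMulCommutative.is_comm (M := X)).comm ⟨w, hw⟩ ⟨z, hz⟩)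
  · rw [hC.resolve_right (not_thirtynine S hX hN), hX]

end Cfsg.Agent.PrimeNorm
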