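/-
The shape of a normaliser with three pairwise non-commuting members centralising `X`.

Main results (namespace `Cfsg.Agent.PrimeNorm`):
* `three_split` : `N(X)` is the product of `F` and a symmetric group of degree three.
-/
import Cfsg.Agent.Lib.FischerM22.PrimeNorm.Seven

set_option autoImplicit false

namespace Cfsg.Agent.PrimeNorm

open Cfsg.Agent.ThreeTrans Cfsg.Agent.FischerM22

variable {G : Type*} [Group G] [Finite G] {D : Set G}

theorem three_split (hD : Cfsg.IsThreeTranspositionSet D) (hconj : ∀ g : G, ∀ d ∈ D, g * d * g⁻¹ ∈ D)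
    {p n : ℕ} [Fact p.Prime] {X : Subgroup G} (hX : Nat.card X = p) (hs : (fixD D X).ncard = 3)
    (hfar : ∀ a ∈ fixD D X, ∀ b ∈ fixD D X, a ≠ b → ¬ Commute a b)
    (hN : Nat.card ↥(Subgroup.normalizer (X : Set G)) = 6 * n)
    (hC : Nat.card ↥(Subgroup.centralizer (X : Set G)) = 6 * p) :
    ∃ F : Subgroup G, Nat.card ↥F = n ∧ X ≤ F ∧ F ⊓ Subgroup.centralizer (X : Set G) = X ∧
      F ⊓ Subgroup.closure (fixD D X) = ⊥ ∧
      (∀ x ∈ F, ∀ y ∈ Subgroup.closure (fixD D X), x * y = y * x) ∧
      F ⊔ Subgroup.closure (fixD D X) = Subgroup.normalizer (X : Set G) ∧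
      Nonempty (↥(Subgroup.closure (fixD D X)) ≃* Equiv.Perm (Fin 3)) := by
  obtain ⟨a, b, c, hab, hac, hbc, hset⟩ := Set.ncard_eq_three.1 hs
  have ha : a ∈ fixD D X := hset ▸ by simp
  have hb : b ∈ fixD D X := hset ▸ by simp
  set L := Subgroup.closure (fixD D X) with hL
  set C := Subgroup.centralizer (X : Set G)
  set N := Subgroup.normalizer (X : Set G)
  have hCN : C ≤ N := Subgroup.centralizer_le_normalizer _
  have hLC : L ≤ C := (Subgroup.closure_le _).2 fun y hy => hy.2
  have hmem : ∀ {y}, y ∈ fixD D X → y ∈ L := fun h => Subgroup.subset_closure h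
  have haba : a * b * a = c := by
    have h1 : a * b * a ∈ fixD D X := by
      have := conj_fixD (hconj) (hCN (hLC (hmem ha))) hb
      rwa [inv_eq hD ha.1] at this
    rw [hset] at h1
    simp only [Set.mem_insert_iff, Set.mem_singleton_iff] at h1
    rcases h1 with h1 | h1 | h1
    · exact absurd h1 (conj_ne_left hD ha.1 (hfar a ha b hb hab))
    · exact absurd (commute_of_conj_eq hD ha.1 h1) (hfar a ha b hb hab)
    · exact h1
  -- the symmetric group
  let t : ℕ → G := fun i => if i = 0 then a else b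
  have hbr : BraidA t 2 := ⟨fun i hi => by
      interval_cases i
      exacts [mul_self hD ha.1, mul_self hD hb.1],
    fun i hi => by
      obtain rfl : i = 0 := by omega
      exact braid hD ha.1 hb.1 (hfar a ha b hb hab),
    fun i j h1 h2 => by omega⟩
  obtain ⟨φ, hφ⟩ := exists_hom_perm hbr
  have hinj : Function.Injective φ := injective_perm_three fun e => hab (by
    have e1 : φ (Equiv.swap 0 1) = a := hφ 0
    have e2 : φ (Equiv.swap 1 2) = b := hφ 1
    rw [map_mul, e1, e2, mul_eq_one_iff_eq_inv, inv_eq hD hb.1] at e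
    exact e)
  have himg : t '' Set.Iio 2 = {a, b} := by
    ext y
    simp only [Set.mem_image, Set.mem_Iio, Set.mem_insert_iff, Set.mem_singleton_iff]
    constructor
    · rintro ⟨i, hi, rfl⟩
      interval_cases i
      exacts [Or.inl rfl, Or.inr rfl]
    · rintro (rfl | rfl)
      exacts [⟨0, by norm_num, rfl⟩, ⟨1, by norm_num, rfl⟩]
  have hrange : φ.range = L := by
    rw [range_hom_perm hφ, himg]
    refine le_antisymm (Subgroup.closure_mono (Set.pair_subset ha hb)) ((Subgroup.closure_le _).2 ?_)
    rw [hset]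
    rintro y (rfl | rfl | rfl)
    · exact Subgroup.subset_closure (by simp)
    · exact Subgroup.subset_closure (by simp)
    · rw [← haba]
      exact mul_mem (mul_mem (Subgroup.subset_closure (by simp)) (Subgroup.subset_closure (by simp)))
        (Subgroup.subset_closure (by simp))
  let e : ↥L ≃* Equiv.Perm (Fin 3) :=
    (MulEquiv.subgroupCongr hrange.symm).trans (MonoidHom.ofInjective hinj).symm
  have hLc : Nat.card L = 6 := by rw [Nat.card_congr e.toEquiv, Nat.card_perm, Nat.card_fin]; rfl
  -- the stabiliser of two members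
  have hpairs : ∀ H : Subgroup G, L ≤ H → H ≤ N →
      Nat.card H = 6 * Nat.card ↥(H ⊓ Subgroup.centralizer {a} ⊓ Subgroup.centralizer {b}) := by
    intro H hLH hHN
    rw [card_orbit_mul H a b]
    congr 1
    have hT : ({(a, b), (b, a), (a, c), (c, a), (b, c), (c, b)} : Set (G × G)).ncard = 6 := by
      rw [Set.ncard_insert_of_notMem, Set.ncard_insert_of_notMem, Set.ncard_insert_of_notMem,
        Set.ncard_insert_of_notMem, Set.ncard_pair] <;>
        simp [hab, hac, hbc, hab.symm, hac.symm, hbc.symm]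
    rw [← hT]
    congr 1
    refine Set.Subset.antisymm ?_ ?_
    · rintro ⟨u, w⟩ ⟨g, hg, rfl, rfl⟩
      have hu := conj_fixD (hconj) (hHN hg) ha
      have hw := conj_fixD (hconj) (hHN hg) hb
      have hne : g * a * g⁻¹ ≠ g * b * g⁻¹ := fun e => hab ((MulAut.conj g).injective e)
      rw [hset] at hu hw
      simp only [Set.mem_insert_iff, Set.mem_singleton_iff] at hu hw ⊢
      rcases hu with hu | hu | hu <;> rcases hw with hw | hw | hw <;>
        first | exact absurd (hu.trans hw.symm) hne | simp [hu, hw]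
    · have key : ∀ σ : Equiv.Perm (Fin 3), ∀ u w, φ (σ * Equiv.swap 0 1 * σ⁻¹) = u →
          φ (σ * Equiv.swap 1 2 * σ⁻¹) = w →
          (u, w) ∈ {q : G × G | ∃ h ∈ H, h * a * h⁻¹ = q.1 ∧ h * b * h⁻¹ = q.2} := by
        intro σ u w hu hw
        have e1 : φ (Equiv.swap 0 1) = a := hφ 0
        have e2 : φ (Equiv.swap 1 2) = b := hφ 1
        rw [map_mul, map_mul, map_inv, e1] at hu
        rw [map_mul, map_mul, map_inv, e2] at hw
        exact ⟨φ σ, hLH (hrange ▸ ⟨σ, rfl⟩), hu, hw⟩
      have e1 : φ (Equiv.swap 0 1) = a := hφ 0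
      have e2 : φ (Equiv.swap 1 2) = b := hφ 1
      have e3 : φ (Equiv.swap 0 2) = c := by
        rw [← haba, ← e1, ← e2, ← map_mul, ← map_mul]
        exact congrArg φ (by decide)
      rintro q (rfl | rfl | rfl | rfl | rfl | rfl)
      · exact key 1 a b (by simp [e1]) (by simp [e2])
      · exact key (Equiv.swap 0 2) b a (by rw [← e2]; exact congrArg φ (by decide)) (by rw [← e1]; exact congrArg φ (by decide))
      · exact key (Equiv.swap 0 1) a c (by rw [← e1]; exact congrArg φ (by decide)) (by rw [← e3]; exact congrArg φ (by decide))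
      · exact key (Equiv.swap 1 2 * Equiv.swap 0 1 * 1) c a (by rw [← e3]; exact congrArg φ (by decide)) (by rw [← e1]; exact congrArg φ (by decide))
      · exact key (Equiv.swap 0 1 * Equiv.swap 1 2) b c (by rw [← e2]; exact congrArg φ (by decide)) (by rw [← e3]; exact congrArg φ (by decide))
      · exact key (Equiv.swap 1 2) c b (by rw [← e3]; exact congrArg φ (by decide)) (by rw [← e2]; exact congrArg φ (by decide))
  set F := N ⊓ Subgroup.centralizer {a} ⊓ Subgroup.centralizer {b} with hF
  have hFc : Nat.card F = n := by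
    have := hpairs N (hLC.trans hCN) le_rfl
    rw [hN, ← hF] at this
    omega
  have hcomm : ∀ x ∈ F, ∀ y ∈ L, x * y = y * x := by
    intro x hx y hy
    rw [hF, Subgroup.mem_inf, Subgroup.mem_inf, Subgroup.mem_centralizer_singleton_iff,
      Subgroup.mem_centralizer_singleton_iff] at hx
    rw [← hrange, range_hom_perm hφ, himg] at hy
    refine ((Subgroup.closure_le (Subgroup.centralizer {x})).2 ?_ hy |> Subgroup.mem_centralizer_singleton_iff.1).symm
    rintro z (rfl | rfl)
    exacts [Subgroup.mem_centralizer_singleton_iff.2 hx.1.2.symm, Subgroup.mem_centralizer_singleton_iff.2 hx.2.symm]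
  have hbot : F ⊓ L = ⊥ := inf_bot_of_center e (by decide) hcomm
  have hXF : X ≤ F := le_inf (le_inf Subgroup.le_normalizer (le_cent ha)) (le_cent hb)
  refine ⟨F, hFc, hXF, ?_, hbot, hcomm,
    direct_split (inf_le_left.trans inf_le_left) (hLC.trans hCN) hbot hcomm (by rw [hFc, hLc, hN, mul_comm]), ⟨e⟩⟩
  have h7 := hpairs C hLC hCN
  have hXC : X ≤ C := fun z hz => Subgroup.mem_centralizer_iff.2 fun w hw => by
    have := isCyclic_of_prime_card hX
    exact congrArg Subtype.val ((IsMulCommutative.is_comm (M := X)).comm ⟨w, hw⟩ ⟨z, hz⟩)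
  refine (Subgroup.eq_of_le_of_card_ge (le_inf hXF hXC) ?_).symm
  have heq : F ⊓ C = C ⊓ Subgroup.centralizer {a} ⊓ Subgroup.centralizer {b} := by
    refine le_antisymm (le_inf (le_inf inf_le_right ?_) ?_) (le_inf (le_inf (le_inf ?_ ?_) ?_) ?_)
    exacts [inf_le_left.trans (inf_le_left.trans inf_le_right), inf_le_left.trans inf_le_right,
      inf_le_left.trans (inf_le_left.trans hCN), inf_le_left.trans inf_le_right, inf_le_right,
      inf_le_left.trans inf_le_left]
  rw [hC] at h7
  rw [heq, hX]
  omega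

end Cfsg.Agent.PrimeNorm
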